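import Cfsg.Agent.Lib.SmallGroups.BrauerFew.Recognition
import Cfsg.Agent.Lib.SmallGroups.SylowFixed
import Cfsg.Agent.Lib.SmallGroups.AbelianSylow
import Mathlib

/-!
Brauer and Reynolds: a prime divisor `p` of the order of a simple group with `|G| < p ^ 3` has a
self-centralising Sylow subgroup.
-/

set_option autoImplicit false

namespace CfsgLib.SmallGroups.BrauerFew

open Subgroup CfsgLib.InvolChar CfsgLib.Blocks

/-- The arithmetic of the degrees for a small normalizer. -/
theorem degree_large {p E n d w : ℤ} {σ : ℤ} (hσ : σ = 1 ∨ σ = -1) (hE : 0 < E) (hn : 2 ≤ n) (hEn : n * E < p)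
    (hdw : d * w = E * (n * p + 1)) (hd : p ∣ d - σ) (hd2 : 2 ≤ d) (hw : 0 < w) :
    (σ = 1 ∧ d = n * p + 1) ∨ (σ = -1 ∧ d = p - 1) := by
  obtain ⟨u, hu⟩ := hd
  have hE2 : 2 * E < p := by nlinarith
  have hp : 0 < p := by linarith
  rcases hσ with rfl | rfl
  · refine Or.inl ⟨rfl, ?_⟩
    have hu0 : 0 < u := by nlinarith
    obtain ⟨v, hv⟩ : ∃ v, v = E * n - w * u := ⟨_, rfl⟩
    have hwv : w = E + v * p := by subst hv; linear_combination hdw - w * hu
    have hv0 : 0 ≤ v := by nlinarith
    rcases hv0.eq_or_lt with h | h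
    · have h1 : E * (n - u) = 0 := by
        rw [← h, zero_mul, add_zero] at hwv
        linear_combination -hv - h + u * hwv
      rcases mul_eq_zero.mp h1 with h2 | h2
      · omega
      · rw [show n = u by linarith]; linarith
    · exfalso
      have h1 : (p + 1) * (E + p) ≤ d * w := mul_le_mul (by nlinarith) (by nlinarith) (by linarith) (by linarith)
      nlinarith
  · refine Or.inr ⟨rfl, ?_⟩
    have hu0 : 0 < u := by nlinarith
    rcases (show u = 1 ∨ 2 ≤ u by omega) with rfl | hu2
    · linarith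
    exfalso
    obtain ⟨v, hv⟩ : ∃ v, v = w * u - E * n := ⟨_, rfl⟩
    have hwv : w + E = v * p := by subst hv; linear_combination -hdw + w * hu
    have hv0 : 0 < v := by nlinarith
    rcases (show v = 1 ∨ 2 ≤ v by omega) with rfl | hv2
    · have : 2 * w ≤ u * w := mul_le_mul_of_nonneg_right hu2 (by linarith)
      nlinarith
    · have : 2 * w ≤ u * w := mul_le_mul_of_nonneg_right hu2 (by linarith)
      nlinarith [mul_le_mul_of_nonneg_left (show (2 : ℤ) ≤ v from hv2) hp.le,
        mul_nonneg (show (0 : ℤ) ≤ v - 2 by linarith) (show (0 : ℤ) ≤ u * p - 1 - p by nlinarith)]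

variable {G : Type*} [Group G] [Fintype G] {p : ℕ} [Fact p.Prime]

/-- An element of `C(P)` whose translates of `P` all take the value `-1` at a character of degree
`p - 1` lies in the kernel. -/
theorem mem_kernel_of_no_fixed {H : Subgroup G} [Fintype H] (hH : Nat.card H = p) {χ : G → ℂ}
    (hχ : Cfsg.IsCharacter G χ) (hd : χ 1 = (p : ℂ) - 1) {y : G}
    (h1 : ∀ u ∈ H, u ≠ 1 → χ u = -1) (hy : ∀ u ∈ H, u ≠ 1 → χ (u * y) = -1) :
    χ y = χ 1 := by
  classical
  obtain ⟨m, ρ, rfl⟩ := hχ
  have hp0 : (p : ℂ) ≠ 0 := by exact_mod_cast (Fact.out : p.Prime).ne_zero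
  set E : (Fin m → ℂ) →ₗ[ℂ] (Fin m → ℂ) := ∑ u : H, ρ u with hE
  have hEE : E * E = (p : ℂ) • E := by
    have h : ∀ v : H, ρ v * E = E := fun v => by
      rw [hE, Finset.mul_sum]
      refine Fintype.sum_equiv (Equiv.mulLeft v) _ _ fun u => ?_
      rw [← map_mul]; rfl
    calc E * E = ∑ v : H, ρ v * E := by
          conv_lhs => arg 1; rw [hE]
          rw [Finset.sum_mul]
      _ = ∑ _v : H, E := Finset.sum_congr rfl fun v _ => h v
      _ = _ := by rw [Finset.sum_const, Finset.card_univ, ← Nat.card_eq_fintype_card, hH, ← Nat.cast_smul_eq_nsmul ℂ]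
  have hsum : ∀ g : G, (∀ u ∈ H, u ≠ 1 → ρ.character (u * g) = -1) →
      LinearMap.trace ℂ _ (E * ρ g) = ρ.character g - ((p : ℂ) - 1) := by
    intro g hg
    rw [hE, Finset.sum_mul, map_sum, ← Finset.add_sum_erase _ _ (Finset.mem_univ (1 : H))]
    rw [Finset.sum_congr rfl fun (u : H) hu => show LinearMap.trace ℂ _ (ρ u * ρ g) = -1 by
      rw [← map_mul]; exact hg u u.2 fun e => Finset.ne_of_mem_erase hu (Subtype.ext e),
      Finset.sum_const, Finset.card_erase_of_mem (Finset.mem_univ _), Finset.card_univ, ← Nat.card_eq_fintype_card,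
      hH, OneMemClass.coe_one, map_one, one_mul, nsmul_eq_mul, Nat.cast_sub (Fact.out : p.Prime).one_le,
      Nat.cast_one, mul_neg_one]
    rfl
  have htr : LinearMap.trace ℂ _ E = 0 := by
    have := hsum 1 (fun u hu h => by rw [mul_one]; exact h1 u hu h)
    rwa [map_one, mul_one, hd, sub_self] at this
  set f := (p : ℂ)⁻¹ • E with hf
  have hff : f * f = f := by
    rw [hf, smul_mul_assoc, mul_smul_comm, hEE, smul_smul, smul_smul]
    congr 1
    field_simp
  have hproj : LinearMap.IsProj (LinearMap.range f) f := ⟨fun v => LinearMap.mem_range_self f v, fun v hv => by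
    obtain ⟨w, rfl⟩ := hv
    exact LinearMap.congr_fun hff w⟩
  have h0 := LinearMap.IsProj.trace hproj
  rw [hf, map_smul, htr, smul_zero] at h0
  have hrange : LinearMap.range f = ⊥ := Submodule.finrank_eq_zero.mp (by exact_mod_cast h0.symm)
  have hE0 : E = 0 := by
    have hf0 : f = 0 := LinearMap.range_eq_bot.mp hrange
    rw [hf, smul_eq_zero] at hf0
    exact hf0.resolve_left (inv_ne_zero hp0)
  have := hsum y hy
  rw [hE0, zero_mul, map_zero] at this
  rw [hd]; linear_combination this.symm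

set_option maxHeartbeats 800000 in
/-- The centraliser of a Sylow `p`-subgroup of order `p` when `n_p = n p + 1`, `n ≥ 2` and
`|G| < p ^ 3`. -/
theorem centralizer_eq_of_large [IsSimpleGroup G] (hna : ¬ IsMulCommutative G) (P : Sylow p G)
    (hP : Nat.card (P : Subgroup G) = p) {n : ℕ} (hn : 2 ≤ n) (hS : Nat.card (Sylow p G) = n * p + 1)
    (hbig : Nat.card G < p ^ 3) :
    centralizer ((P : Subgroup G) : Set G) = (P : Subgroup G) := by
  classical
  have hp : p.Prime := Fact.out
  set N := normalizer ((P : Subgroup G) : Set G) with hNdef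
  set C := centralizer ((P : Subgroup G) : Set G) with hCdef
  have hPC : (P : Subgroup G) ≤ C := PrimeSylow.le_centralizer P hP
  have hCN : C ≤ N := centralizer_le_normalizer _
  set e := C.relIndex N with hedef
  obtain ⟨t, ht⟩ : e ∣ p - 1 := PrimeSylow.relIndex_dvd P hP
  obtain ⟨E, hE⟩ : p ∣ Nat.card N := hP ▸ card_dvd_of_le (hPC.trans hCN)
  have hE0 : 0 < E := Nat.pos_of_ne_zero fun h => by rw [h, mul_zero] at hE; exact Nat.card_pos.ne' hE
  have hG : Nat.card G = p * (E * (n * p + 1)) := by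
    rw [← card_sylow_mul_card_normalizer P, hS, ← hNdef, hE]; ring
  have hEn : n * E < p := by
    rw [hG, pow_succ, pow_two, mul_assoc] at hbig
    have h1 := Nat.lt_of_mul_lt_mul_left hbig
    rw [mul_add, mul_one, ← mul_assoc, mul_comm E n] at h1
    exact Nat.lt_of_mul_lt_mul_right (lt_of_le_of_lt (Nat.le_add_right _ E) h1)
  have he1 : e ≠ 1 := fun h => not_normalizer_le_centralizer hna
    (hP ▸ card_subgroup_dvd_card _) P (relIndex_eq_one.mp h)
  have hNC : e * Nat.card C = Nat.card N := by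
    rw [hedef, Subgroup.relIndex, ← Nat.card_congr (subgroupOfEquivOfLe hCN).toEquiv, mul_comm, card_mul_index]
  have heE : e ≤ E := by
    obtain ⟨c, hc⟩ : p ∣ Nat.card C := hP ▸ card_dvd_of_le hPC
    have h1 : e * c = E := by
      apply Nat.eq_of_mul_eq_mul_left hp.pos
      rw [← hE, ← hNC, hc]; ring
    rcases Nat.eq_zero_or_pos c with h | h
    · rw [h, mul_zero] at h1; omega
    · rw [← h1]; exact Nat.le_mul_of_pos_right e h
  have hpE : 2 * E < p := lt_of_le_of_lt (Nat.mul_le_mul_right E hn) hEn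
  have he0 : 0 < e := Nat.pos_of_ne_zero fun h => by rw [h, zero_mul] at hNC; exact Nat.card_pos.ne hNC
  have ht2 : 2 ≤ t := by
    by_contra hlt
    have h1 := Nat.mul_le_mul_left e (show t ≤ 1 by omega)
    rw [mul_one, ← ht] at h1
    omega
  obtain ⟨M, hM⟩ := CfsgLib.Invol.exists_isPModular p hp
  haveI := hM.2.1
  obtain ⟨X, Y, hB, hXY, hXc, hYc, -, εX, ε, hX, hε, hYdeg, hYeq, hYrel⟩ :=
    principal_block_prime_sylow P hM hP e rfl
  rw [ht, Nat.mul_div_cancel_left _ he0] at hYc
  set one : Cfsg.IrrCharacter G := CfsgLib.Char.irrOne with hone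
  let Xf : Finset (Cfsg.IrrCharacter G) := Finset.univ.filter (· ∈ X)
  let Yf : Finset (Cfsg.IrrCharacter G) := Finset.univ.filter (· ∈ Y)
  have hXf : ∀ χ, χ ∈ Xf ↔ χ ∈ X := fun χ => by simp [Xf]
  have hYf : ∀ χ, χ ∈ Yf ↔ χ ∈ Y := fun χ => by simp [Yf]
  have hXcard : Xf.card = e := by rw [← hXc, Nat.card_eq_fintype_card, Fintype.card_subtype]
  have hYcard : Yf.card = t := by rw [← hYc, Nat.card_eq_fintype_card, Fintype.card_subtype]
  have hperf : commutator G = ⊤ := commutator_eq_top_of_simple hna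
  obtain ⟨θ₀, hθ₀⟩ := Finset.card_pos.mp (lt_of_lt_of_eq (by omega : 0 < t) hYcard.symm)
  set f₀ := deg θ₀ with hf₀
  have hYd : ∀ θ ∈ Yf, deg θ = f₀ := by
    intro θ hθ
    have h := hYeq θ ((hYf θ).mp hθ) θ₀ ((hYf θ₀).mp hθ₀) 1 (by rw [orderOf_one]; exact hp.not_dvd_one)
    rw [deg_spec θ, deg_spec θ₀] at h
    exact_mod_cast h
  have hone_deg : deg one = 1 := deg_irrOne
  have honeX : one ∈ Xf := by
    have hmem : one ∈ Cfsg.principalBlock M G := irrOne_mem_principalBlock
    rw [hB, Set.mem_union] at hmem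
    refine (hXf one).mpr (hmem.resolve_right fun hY1 => ?_)
    obtain ⟨θ, hθ, hne⟩ := Finset.exists_mem_ne (by omega : 1 < Yf.card) one
    have h1 := hYd θ hθ
    rw [← hYd one ((hYf one).mpr hY1), hone_deg] at h1
    have := one_lt_deg hperf hne
    omega
  obtain ⟨g, hgo, hPg⟩ := exists_zpowers_of_card_prime hP
  -- the degrees of the nontrivial members of `X`
  have hXdeg : ∀ χ ∈ Xf.erase one, (εX χ = 1 ∧ deg χ = n * p + 1) ∨ (εX χ = -1 ∧ deg χ = p - 1) := by
    intro χ hχ
    obtain ⟨hne, hχX⟩ := Finset.mem_erase.mp hχ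
    obtain ⟨hs, hmod, -⟩ := hX χ ((hXf χ).mp hχX)
    rw [deg_eq_charDegree] at hmod
    have hd2 := one_lt_deg hperf hne
    have hndvd : ¬ p ∣ deg χ := fun h' => by
      have h1 : (p : ℤ) ∣ εX χ := by
        have := dvd_sub (Int.natCast_dvd_natCast.mpr h') (Int.ModEq.dvd hmod.symm)
        simpa using this
      rcases hs with h | h <;> rw [h] at h1
      · exact hp.not_dvd_one (by exact_mod_cast h1)
      · exact hp.not_dvd_one (by exact_mod_cast (dvd_neg.mp h1))
    obtain ⟨w, hw⟩ : deg χ ∣ E * (n * p + 1) :=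
      (Nat.Coprime.dvd_mul_left (hp.coprime_iff_not_dvd.mpr hndvd).symm).mp
        (hG ▸ CfsgLib.Char.degree_dvd_card χ.2 (deg_spec χ))
    have hw0 : 0 < w := Nat.pos_of_ne_zero fun h => by
      rw [h, mul_zero] at hw
      have : 0 < E * (n * p + 1) := Nat.mul_pos hE0 (Nat.succ_pos _)
      omega
    have := degree_large (p := (p : ℤ)) (E := (E : ℤ)) (n := (n : ℤ)) (d := (deg χ : ℤ)) (w := (w : ℤ))
      (σ := εX χ) hs (by exact_mod_cast hE0) (by exact_mod_cast hn) (by exact_mod_cast hEn)
      (by exact_mod_cast hw.symm) (Int.ModEq.dvd hmod.symm) (by exact_mod_cast hd2) (by exact_mod_cast hw0)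
    rcases this with ⟨h1, h2⟩ | ⟨h1, h2⟩
    · exact Or.inl ⟨h1, by exact_mod_cast h2⟩
    · exact Or.inr ⟨h1, by omega⟩
  refine le_antisymm (fun c hc => ?_) hPC
  by_contra hcP
  -- some non-identity `p`-regular element of `C`
  have hne : ∃ y ∈ C, y ≠ 1 ∧ ¬ p ∣ orderOf y := by
    by_contra hcon
    push Not at hcon
    have hk : ∀ k, ¬ p ∣ k → c ^ p = 1 ∨ p ∣ k := fun k hk => Or.inl ?_
    · rcases hk 1 hp.not_dvd_one with h | h
      · apply hcP
        by_cases h1 : c = 1
        · rw [h1]; exact one_mem _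
        obtain ⟨Q, hQ⟩ := (IsPGroup.of_card (n := 1) (show Nat.card (zpowers c) = p ^ 1 by
          rw [Nat.card_zpowers, pow_one]; exact orderOf_eq_prime h h1)).exists_le_sylow
        have hQP : Q = P := (sylow_eq_of_normalizes P Q ?_).symm
        · exact hQP ▸ hQ (mem_zpowers c)
        · rw [show (Q : Subgroup G) = zpowers c from (eq_of_le_of_card_ge hQ (by
            rw [Nat.card_congr (Q.equiv P).toEquiv, hP, Nat.card_zpowers, orderOf_eq_prime h h1])).symm]
          intro u hu
          refine centralizer_le_normalizer _ (mem_centralizer_iff.mpr fun w hw => ?_)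
          obtain ⟨i, rfl⟩ := mem_zpowers_iff.mp hw
          exact ((show Commute u c from mem_centralizer_iff.mp hc u hu).zpow_right i).eq.symm
      · exact hp.not_dvd_one h
    · by_contra hne
      have h1 := hcon (c ^ p) (pow_mem hc p) hne
      rw [orderOf_pow' c hp.ne_zero] at h1
      have hco : orderOf c ∣ Nat.card G := orderOf_dvd_natCard c
      have hndvd2 : ¬ p ∣ E * (n * p + 1) := by
        intro h
        rcases hp.dvd_mul.mp h with h | h
        · have := Nat.le_of_dvd hE0 h; omega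
        · exact hp.not_dvd_one ((Nat.dvd_add_right (dvd_mul_left p n)).mp h)
      rcases Nat.coprime_or_dvd_of_prime hp (orderOf c) with h | h
      · rw [Nat.Coprime.gcd_eq_one h.symm, Nat.div_one] at h1
        exact hp.coprime_iff_not_dvd.mp h h1
      · rw [Nat.gcd_eq_right h] at h1
        have h2 : p * p ∣ Nat.card G := (Nat.mul_dvd_of_dvd_div h h1).trans hco
        rw [hG] at h2
        exact hndvd2 (Nat.dvd_of_mul_dvd_mul_left hp.pos h2)
  obtain ⟨y, hyC, hy1, hyp⟩ := hne
  -- no member of `X` has degree `p - 1`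
  have hplus : ∀ χ ∈ Xf.erase one, εX χ = 1 ∧ deg χ = n * p + 1 := by
    intro χ hχ
    rcases hXdeg χ hχ with h | ⟨hσ, hd⟩
    · exact h
    exfalso
    obtain ⟨hne, hχX⟩ := Finset.mem_erase.mp hχ
    obtain ⟨-, -, hval⟩ := hX χ ((hXf χ).mp hχX)
    have hd' : (χ : G → ℂ) 1 = (p : ℂ) - 1 := by rw [deg_spec χ, hd, Nat.cast_sub hp.one_le, Nat.cast_one]
    have hker := mem_kernel_of_no_fixed (H := (P : Subgroup G)) hP (CfsgLib.Char.isCharacter_of_isIrr χ.2) hd' (y := y)
      (fun u hu hu1 => by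
        have := hval u hu hu1 1 (one_mem _) (by rw [orderOf_one]; exact hp.not_dvd_one)
        rw [mul_one, hσ] at this
        rw [this]; norm_num)
      (fun u hu hu1 => by rw [hval u hu hu1 y hyC hyp, hσ]; norm_num)
    obtain ⟨m, ρ, hirr, hρ⟩ := χ.2
    have hfull : ρ y = LinearMap.id := by
      refine (CfsgLib.Char.character_eq_degree_iff ρ y).mp ?_
      rw [congrFun hρ y, hker, ← congrFun hρ 1, Representation.char_one]
    have hKne : ρ.ker ≠ ⊥ := fun h => hy1 (Subgroup.mem_bot.mp (h ▸ (MonoidHom.mem_ker.mpr hfull : y ∈ ρ.ker)))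
    rcases IsSimpleGroup.eq_bot_or_eq_top_of_normal ρ.ker inferInstance with h | h
    · exact hKne h
    · have hgval := hval g (hPg ▸ mem_zpowers g) (fun e => hp.ne_one (by rw [← hgo, e, orderOf_one])) 1 (one_mem _)
        (by rw [orderOf_one]; exact hp.not_dvd_one)
      rw [mul_one, hσ, ← congrFun hρ g] at hgval
      have hg1 : ρ g = LinearMap.id := (h ▸ Subgroup.mem_top g : g ∈ ρ.ker)
      have hgd := (CfsgLib.Char.character_eq_degree_iff ρ g).mpr hg1
      rw [← Representation.char_one ρ, congrFun hρ 1, hd', hgval] at hgd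
      have : ((p : ℕ) : ℂ) = 0 := by push_cast at hgd ⊢; linear_combination -hgd
      exact hp.ne_zero (by exact_mod_cast this)
  -- the exceptional degree is too large
  have hrel := hYrel θ₀ ((hYf θ₀).mp hθ₀) 1 (by rw [orderOf_one]; exact hp.not_dvd_one)
  rw [finsum_mem_eq_sum_of_inter_support_eq (t := Xf) _ (by ext χ; simp [Xf]), ← Finset.add_sum_erase _ _ honeX,
    Finset.sum_congr rfl fun χ hχ => by rw [(hplus χ hχ).1, deg_spec χ, (hplus χ hχ).2],
    Finset.sum_const, Finset.card_erase_of_mem honeX, hXcard, deg_spec θ₀, deg_spec one, hone_deg] at hrel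
  obtain ⟨-, h1mod, hone_val⟩ := hX one ((hXf one).mp honeX)
  have hεone : εX one = 1 := by
    have := hone_val g (hPg ▸ mem_zpowers g) (fun e => hp.ne_one (by rw [← hgo, e, orderOf_one])) 1 (one_mem _)
      (by rw [orderOf_one]; exact hp.not_dvd_one)
    rw [hone, CfsgLib.Char.irrOne_apply] at this
    exact_mod_cast this.symm
  rw [hεone, nsmul_eq_mul, Int.cast_one, one_mul, one_mul] at hrel
  obtain ⟨e', he'⟩ : ∃ e', e = e' + 1 := ⟨e - 1, by omega⟩
  have hrelz : ε * (f₀ : ℤ) = ((1 + e' * (n * p + 1) : ℕ) : ℤ) := by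
    apply Int.cast_injective (α := ℂ)
    rw [show e - 1 = e' by omega] at hrel
    push_cast at hrel ⊢
    linear_combination hrel
  have hf : f₀ = 1 + e' * (n * p + 1) := by
    rcases hε with rfl | rfl
    · rw [one_mul] at hrelz; exact_mod_cast hrelz
    · have : (0 : ℤ) < ((1 + e' * (n * p + 1) : ℕ) : ℤ) := by exact_mod_cast (by omega : 0 < 1 + e' * (n * p + 1))
      omega
  have hsq : t * f₀ ^ 2 < p ^ 3 := by
    have hY1 : one ∉ Yf := fun h => Set.disjoint_left.mp hXY ((hXf one).mp honeX) ((hYf one).mp h)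
    have := sum_deg_sq_le hY1
    rw [Finset.sum_congr rfl fun θ hθ => by rw [hYd θ hθ], Finset.sum_const, hYcard, smul_eq_mul] at this
    omega
  have he'1 : 1 ≤ e' := by omega
  have h2 : e' * n * p ≤ f₀ := by
    rw [hf, mul_add, mul_one, mul_assoc]; omega
  have h3 : t * (e' * n * p) ^ 2 < p ^ 3 :=
    lt_of_le_of_lt (Nat.mul_le_mul_left t (Nat.pow_le_pow_left h2 2)) hsq
  have h4 : t * (e' * e') * (n * n) < p := by
    refine Nat.lt_of_mul_lt_mul_right (a := p ^ 2) ?_
    calc t * (e' * e') * (n * n) * p ^ 2 = t * (e' * n * p) ^ 2 := by ring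
      _ < p ^ 3 := h3
      _ = p * p ^ 2 := by ring
  have h5 : t * (e' * e') * 4 ≤ t * (e' * e') * (n * n) := Nat.mul_le_mul_left _ (Nat.mul_le_mul hn hn)
  have h6 : p - 1 = t * e' + t := by rw [ht, he']; ring
  have h7 : t * e' * 1 ≤ t * e' * e' := Nat.mul_le_mul_left _ he'1
  have h8 : t * 1 ≤ t * e' := Nat.mul_le_mul_left _ he'1
  have h9 : t * (e' * e') = t * e' * e' := by ring
  omega

/-- With `p + 1` Sylow `p`-subgroups, `C(P) = P`. -/
theorem centralizer_eq_of_succ [IsSimpleGroup G] (P : Sylow p G) (hP : Nat.card (P : Subgroup G) = p)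
    (hS : Nat.card (Sylow p G) = p + 1) :
    centralizer ((P : Subgroup G) : Set G) = (P : Subgroup G) := by
  classical
  have hp : p.Prime := Fact.out
  obtain ⟨z, hz, hPz⟩ := exists_zpowers_of_card_prime hP
  refine le_antisymm (fun c hc => ?_) (PrimeSylow.le_centralizer P hP)
  haveI : Nontrivial (Sylow p G) := by rw [← Finite.one_lt_card_iff_nontrivial, hS]; have := hp.pos; omega
  obtain ⟨Q, hQ⟩ := exists_ne P
  have hcz : Commute c z := (mem_centralizer_iff.mp hc z (hPz ▸ mem_zpowers z)).symm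
  -- `P` is transitive on the other Sylow subgroups
  let φ : Option (ZMod p) → Sylow p G := fun o => o.elim P fun i => z ^ i.val • Q
  haveI : NeZero p := ⟨hp.ne_zero⟩
  have hφ : Function.Bijective φ := by
    cases nonempty_fintype (Sylow p G)
    rw [Fintype.bijective_iff_injective_and_card, Fintype.card_option, ZMod.card, ← Nat.card_eq_fintype_card (α := Sylow p G), hS]
    refine ⟨?_, rfl⟩
    have hno : ∀ i : ZMod p, z ^ i.val • Q ≠ P := fun i h => hQ (by
      have h1 : z ^ i.val • P = P := Sylow.smul_eq_iff_mem_normalizer.mpr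
        (Subgroup.le_normalizer (hPz ▸ pow_mem (mem_zpowers z) _))
      exact MulAction.injective _ (h.trans h1.symm))
    have hinj : ∀ i j : ZMod p, i.val < j.val → z ^ i.val • Q ≠ z ^ j.val • Q := fun i j hij h => by
      have h1 : z ^ (j.val - i.val) • Q = Q := by
        apply MulAction.injective (z ^ i.val)
        show z ^ i.val • (z ^ (j.val - i.val) • Q) = z ^ i.val • Q
        rw [← mul_smul, ← pow_add, Nat.add_sub_cancel' hij.le, h]
      have hne : z ^ (j.val - i.val) ≠ 1 := fun e => by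
        have := Nat.le_of_dvd (by omega) (orderOf_dvd_of_pow_eq_one e)
        rw [hz] at this
        have := j.val_lt
        omega
      exact hQ (SylowFixed.eq_of_zpowers_fix P Q
        (SylowFixed.zpowers_eq_of_mem P hP (hPz ▸ pow_mem (mem_zpowers z) _) hne) h1)
    intro a b h
    cases a with
    | none => cases b with
      | none => rfl
      | some j => exact absurd h.symm (hno j)
    | some i => cases b with
      | none => exact absurd h (hno i)
      | some j =>
        rcases lt_trichotomy i.val j.val with h' | h' | h'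
        · exact absurd h (hinj i j h')
        · rw [ZMod.val_injective _ h']
        · exact absurd h.symm (hinj j i h')
  have hcP : c • P = P := Sylow.smul_eq_iff_mem_normalizer.mpr (centralizer_le_normalizer _ hc)
  obtain ⟨o, ho⟩ := hφ.2 (c • Q)
  cases o with
  | none => exact absurd (MulAction.injective c ((show P = c • Q from ho).symm.trans hcP.symm)) hQ
  | some i =>
    have hfix : ∀ S : Sylow p G, ((z ^ i.val)⁻¹ * c) • S = S := by
      intro S
      obtain ⟨o', rfl⟩ := hφ.2 S
      cases o' with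
      | none =>
        show ((z ^ i.val)⁻¹ * c) • P = P
        rw [mul_smul, hcP, inv_smul_eq_iff]
        exact (Sylow.smul_eq_iff_mem_normalizer.mpr (Subgroup.le_normalizer (hPz ▸ pow_mem (mem_zpowers z) _))).symm
      | some j =>
        show ((z ^ i.val)⁻¹ * c) • (z ^ j.val • Q) = z ^ j.val • Q
        rw [← mul_smul, mul_assoc, (hcz.pow_right j.val).eq, mul_smul, mul_smul, ← ho, inv_smul_eq_iff]
        show z ^ j.val • (z ^ i.val • Q) = z ^ i.val • (z ^ j.val • Q)
        rw [← mul_smul, ← mul_smul, ← pow_add, ← pow_add, add_comm]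
    have := SylowFixed.faithful (by rw [hS]; have := hp.pos; omega) hfix
    rw [inv_mul_eq_one] at this
    rw [← this]
    exact hPz ▸ pow_mem (mem_zpowers z) _

/-- The theorem of Brauer and Reynolds. -/
theorem main_large [IsSimpleGroup G] (hna : ¬ IsMulCommutative G) (hdvd : p ∣ Nat.card G)
    (hbig : Nat.card G < p ^ 3) :
    3 < p ∧ ((∃ (F : Type) (_ : Field F) (_ : Fintype F), Fintype.card F = p ∧
          Nonempty (G ≃* Matrix.ProjectiveSpecialLinearGroup (Fin 2) F)) ∨
        ∃ (m : ℕ) (F : Type) (_ : Field F) (_ : Fintype F), Fintype.card F = 2 ^ m ∧ p = 2 ^ m + 1 ∧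
          Nonempty (G ≃* Matrix.ProjectiveSpecialLinearGroup (Fin 2) F)) := by
  have hp : p.Prime := Fact.out
  obtain ⟨P⟩ : Nonempty (Sylow p G) := inferInstance
  have hne := card_sylow_ne_one hna hdvd
  have hmod := mod_eq_one_card_sylow (p := p) (G := G)
  have hS : Nat.card (Sylow p G) = Nat.card (Sylow p G) / p * p + 1 := by
    conv_lhs => rw [← Nat.div_add_mod (Nat.card (Sylow p G)) p, hmod, mul_comm]
  set n := Nat.card (Sylow p G) / p
  have hn0 : 0 < n := Nat.pos_of_ne_zero fun h => hne (by rw [hS, h, zero_mul])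
  have hGN := card_sylow_mul_card_normalizer P
  rw [hS] at hGN
  have hPN : Nat.card (P : Subgroup G) ∣ Nat.card (normalizer ((P : Subgroup G) : Set G)) :=
    card_dvd_of_le Subgroup.le_normalizer
  have hP : Nat.card (P : Subgroup G) = p := by
    obtain ⟨i, hi⟩ := P.2.exists_card_eq
    have h1 := P.dvd_card_of_dvd_card hdvd
    rcases (show i = 0 ∨ i = 1 ∨ 2 ≤ i by omega) with rfl | rfl | h
    · rw [hi, pow_zero] at h1; exact absurd h1 hp.not_dvd_one
    · rw [hi, pow_one]
    · exfalso
      have h2 : p ^ 2 ≤ Nat.card (normalizer ((P : Subgroup G) : Set G)) :=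
        le_trans (Nat.pow_le_pow_right hp.pos h) (hi ▸ Nat.le_of_dvd Nat.card_pos hPN)
      have h3 : (p + 1) * p ^ 2 ≤ Nat.card G := by
        rw [← hGN]
        exact Nat.mul_le_mul (Nat.add_le_add_right (Nat.le_mul_of_pos_left p hn0) 1) h2
      have : (p + 1) * p ^ 2 = p ^ 3 + p ^ 2 := by ring
      omega
  have hcent : centralizer ((P : Subgroup G) : Set G) = (P : Subgroup G) := by
    rcases (show n = 1 ∨ 2 ≤ n by omega) with h | h
    · exact centralizer_eq_of_succ P hP (by rw [hS, h, one_mul])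
    · exact centralizer_eq_of_large hna P hP h hS hbig
  obtain ⟨x, hx, hPx⟩ := exists_zpowers_of_card_prime hP
  have hC : centralizer ({x} : Set G) = zpowers x := by
    rw [← hPx, ← hcent, hPx, zpowers_eq_closure, centralizer_closure]
  have hperf : commutator G = ⊤ := commutator_eq_top_of_simple hna
  have L : Loc G p x := ⟨hperf, hx, hC⟩
  obtain ⟨q, t, m, hq, ht, hm0, hpq, hSm, hN, hcard, -, -⟩ := L.exists_numbers P hPx
  have hfew : 2 * Nat.card (Sylow p G) < (p + 1) * (p + 2) := by
    rw [hSm]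
    rw [hcard, pow_succ, pow_two, mul_assoc] at hbig
    have h1 := Nat.lt_of_mul_lt_mul_left hbig
    have h2 : 2 * (m * p + 1) ≤ q * (m * p + 1) := Nat.mul_le_mul_right _ hq
    have : (p + 1) * (p + 2) = p * p + 3 * p + 2 := by ring
    omega
  exact (main hperf hx hC hfew).2

end CfsgLib.SmallGroups.BrauerFew
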