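import Cfsg.Agent.Lib.SmallGroups.BrauerFew.Large
import Cfsg.Agent.Lib.Blocks.Orth
import Cfsg.Agent.Lib.Char.Burnside
import Mathlib

/-!
The principal block of a second prime `r`: weighted degree sums over it are divisible by the order
of a Sylow `r`-subgroup, and its members do not vanish at central elements of such a subgroup.
-/

set_option autoImplicit false

namespace CfsgLib.SmallGroups.BrauerFew

open Subgroup CfsgLib.InvolChar CfsgLib.Blocks Cfsg
open scoped ComplexConjugate

variable {G : Type*} [Group G] [Fintype G] {r : ℕ} [Fact r.Prime] {M : Ideal AlgInt}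

/-- For an `r`-regular `x`, the sum of `χ(1) χ̄(x)` over an `r`-block is divisible by the order of
every `r`-subgroup. -/
theorem dvd_block_sum (hM : IsPModular r M) {B : Set (IrrCharacter G)} (hB : IsPBlock M B)
    [DecidablePred (· ∈ B)] {x : G} (hx : ¬ r ∣ orderOf x) (T : Subgroup G) (hT : IsPGroup r T) {N : ℤ}
    (hN : ∑ χ : IrrCharacter G, (if χ ∈ B then (deg χ : ℂ) * conj ((χ : G → ℂ) x) else 0) = (N : ℂ)) :
    (Nat.card T : ℤ) ∣ N := by
  classical
  haveI := hM.2.1
  choose m hm using fun χ : IrrCharacter G => CfsgLib.Char.classInner_char_nat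
    (CfsgLib.Char.isCharacter_res T (CfsgLib.Char.isCharacter_of_isIrr χ.2)) CfsgLib.Char.isCharacter_one
  have hT0 : (Nat.card T : ℂ) ≠ 0 := by exact_mod_cast Nat.card_pos.ne'
  have hsum : ∀ χ : IrrCharacter G, ∑ u : T, (χ : G → ℂ) u = (Nat.card T : ℂ) * m χ := fun χ => by
    rw [← hm χ, CfsgLib.Char.classInner_one_right, mul_inv_cancel_left₀ hT0]
  have htot : (N : ℂ) = (Nat.card T : ℂ) *
      ∑ χ : IrrCharacter G, (if χ ∈ B then (m χ : ℂ) * conj ((χ : G → ℂ) x) else 0) := by
    calc (N : ℂ) = ∑ u : T, ∑ χ : IrrCharacter G,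
          (if χ ∈ B then (χ : G → ℂ) u * conj ((χ : G → ℂ) x) else 0) := by
          rw [← Finset.add_sum_erase _ _ (Finset.mem_univ (1 : T)), OneMemClass.coe_one,
            Finset.sum_eq_zero (s := Finset.univ.erase (1 : T)) fun u hu => ?_, add_zero, ← hN]
          · exact Finset.sum_congr rfl fun χ _ => by rw [deg_spec χ]
          · have hne : (u : G) ≠ 1 := fun e => Finset.ne_of_mem_erase hu (Subtype.ext e)
            have hur : r ∣ orderOf (u : G) := by
              obtain ⟨k, hk⟩ := hT u
              obtain ⟨i, -, hi⟩ := (Nat.dvd_prime_pow Fact.out).mp (orderOf_dvd_of_pow_eq_one hk)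
              rw [orderOf_coe, hi]
              refine dvd_pow_self r fun e => hne ?_
              rw [e, pow_zero] at hi
              rw [← orderOf_eq_one_iff, orderOf_coe]; exact hi
            have h := congrArg conj (weak_orthogonality hM hB hx hur)
            rw [map_zero, map_sum] at h
            refine Eq.trans (Finset.sum_congr rfl fun χ _ => ?_) h
            split_ifs
            · rw [map_mul, Complex.conj_conj, mul_comm]
            · rw [map_zero]
      _ = _ := by
          rw [Finset.sum_comm, Finset.mul_sum]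
          refine Finset.sum_congr rfl fun χ _ => ?_
          split_ifs
          · rw [← Finset.sum_mul, hsum, mul_assoc]
          · rw [Finset.sum_const_zero, mul_zero]
  have hint : IsIntegral ℤ (((N : ℚ) / (Nat.card T : ℚ) : ℚ) : ℂ) := by
    rw [Rat.cast_div, Rat.cast_intCast, Rat.cast_natCast, htot, mul_div_cancel_left₀ _ hT0]
    refine IsIntegral.sum _ fun χ _ => ?_
    split_ifs
    · refine IsIntegral.mul ?_ ?_
      · have := isIntegral_algebraMap (R := ℤ) (A := ℂ) (x := (m χ : ℤ))
        simpa using this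
      · rw [← CfsgLib.Char.char_inv (CfsgLib.Char.isCharacter_of_isIrr χ.2)]
        exact CfsgLib.Char.char_isIntegral (CfsgLib.Char.isCharacter_of_isIrr χ.2) _
    · exact isIntegral_zero
  obtain ⟨k, hk⟩ := CfsgLib.Char.exists_int_of_isIntegral_rat hint
  have hT0' : (Nat.card T : ℚ) ≠ 0 := by exact_mod_cast Nat.card_pos.ne'
  rw [div_eq_iff hT0'] at hk
  exact ⟨k, by rw [mul_comm]; exact_mod_cast hk⟩

omit [Fintype G] in
theorem natCast_not_mem (hM : IsPModular r M) {n : ℕ} (hn : ¬ r ∣ n) : (n : AlgInt) ∉ M := by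
  intro h
  refine hM.2.1.ne_top (M.eq_top_iff_one.mpr ?_)
  have hco : Nat.Coprime r n := hM.1.coprime_iff_not_dvd.mpr hn
  have h' := Nat.gcd_eq_gcd_ab r n
  rw [hco.gcd_eq_one] at h'
  have h2 : (r : AlgInt) * (Nat.gcdA r n : AlgInt) + (n : AlgInt) * (Nat.gcdB r n : AlgInt) = 1 := by
    have := congrArg (Int.cast : ℤ → AlgInt) h'
    push_cast at this
    exact this.symm
  rw [← h2]
  exact M.add_mem (M.mul_mem_right _ hM.2.2) (M.mul_mem_right _ h)

/-- A member of the principal block does not vanish at a class of size prime to `r`. -/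
theorem ne_zero_of_mem_principal (hM : IsPModular r M) {χ : IrrCharacter G} (hχ : χ ∈ principalBlock M G)
    {z : G} (hz : ¬ r ∣ (centralizer ({z} : Set G)).index) : (χ : G → ℂ) z ≠ 0 := by
  intro h
  haveI := hM.2.1
  have h1 := hχ z
  simp only [centralChar, h, mul_one, mul_zero, zero_div, sub_zero, div_one] at h1
  have hint : IsIntegral ℤ (((centralizer ({z} : Set G)).index : ℕ) : ℂ) :=
    (((centralizer ({z} : Set G)).index : AlgInt)).2
  rw [memLocalIdeal_intInt_iff (M := M) hint] at h1
  exact natCast_not_mem hM hz h1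

/-- Burnside: in a simple group a character whose degree is prime to a class size vanishes there. -/
theorem eq_zero_of_coprime [IsSimpleGroup G] (hna : ¬ IsMulCommutative G) {χ : IrrCharacter G}
    (hne : χ ≠ CfsgLib.Char.irrOne) {z : G} (hz : z ≠ 1)
    (hcop : Nat.Coprime (deg χ) (centralizer ({z} : Set G)).index) : (χ : G → ℂ) z = 0 := by
  have hd2 := one_lt_deg (commutator_eq_top_of_simple hna) hne
  have hd := deg_spec χ
  obtain ⟨n, ρ, hirr, hρ⟩ := χ.2
  have hfin : Module.finrank ℂ (Fin n → ℂ) = deg χ := by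
    have h1 := hd
    rw [← congrFun hρ 1, Representation.char_one] at h1
    exact_mod_cast h1
  rcases CfsgLib.Char.zero_or_norm_eq ρ z (hfin ▸ hcop) with h | h
  · rw [← congrFun hρ z, h]
  · exfalso
    obtain ⟨w, hw⟩ := (CfsgLib.Char.norm_character_eq_iff ρ z).mp h
    have hker : ρ.ker ≠ ⊤ := fun e => by
      have hall : ∀ g : G, (χ : G → ℂ) g = (deg χ : ℂ) := fun g => by
        rw [← congrFun hρ g, (CfsgLib.Char.character_eq_degree_iff ρ g).mpr
          (e ▸ Subgroup.mem_top g : g ∈ ρ.ker), hfin]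
      classical
      have := CfsgLib.Char.classInner_irr_ne χ.2 CfsgLib.Char.irrOne.2 fun e' => hne (Subtype.ext e')
      rw [show ((CfsgLib.Char.irrOne : IrrCharacter G) : G → ℂ) = fun _ => 1 from
        funext CfsgLib.Char.irrOne_apply, CfsgLib.Char.classInner_one_right,
        Finset.sum_congr rfl fun g _ => hall g, Finset.sum_const, nsmul_eq_mul, Finset.card_univ,
        ← Nat.card_eq_fintype_card, inv_mul_cancel_left₀ CfsgLib.Char.card_ne_zero'] at this
      exact (deg_pos χ).ne' (by exact_mod_cast this)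
    have hker' : ρ.ker = ⊥ := (IsSimpleGroup.eq_bot_or_eq_top_of_normal ρ.ker inferInstance).resolve_right hker
    have hcen : z ∈ center G := by
      rw [Subgroup.mem_center_iff]
      intro g
      have h1 : g * z * (z * g)⁻¹ ∈ ρ.ker := by
        rw [MonoidHom.mem_ker, map_mul]
        have h2 : ρ (g * z) = ρ (z * g) := by
          rw [map_mul, map_mul, hw, mul_smul_comm, smul_mul_assoc, ← Module.End.one_eq_id, mul_one, one_mul]
        rw [h2, ← map_mul, mul_inv_cancel, map_one]
      rw [hker', Subgroup.mem_bot, mul_inv_eq_one] at h1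
      exact h1
    rcases IsSimpleGroup.eq_bot_or_eq_top_of_normal (center G) inferInstance with hc | hc
    · exact hz (Subgroup.mem_bot.mp (hc ▸ hcen))
    · exact hna ⟨⟨fun a b => (Subgroup.mem_center_iff.mp (hc ▸ Subgroup.mem_top b) a)⟩⟩

/-- Characters agreeing on `p`-regular elements lie in one `r`-block, if `r` divides
`|G| / (p · degree)` and `p`-singular elements have centraliser of order `p`. -/
theorem sameBlock_of_agree (hM : IsPModular r M) {p : ℕ} [Fact p.Prime] {x : G} (L : Loc G p x) {f c : ℕ}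
    (hG : Nat.card G = p * (f * (r * c))) {θ θ' : IrrCharacter G} (hd : deg θ = f) (hd' : deg θ' = f)
    (hag : ∀ g : G, ¬ p ∣ orderOf g → (θ : G → ℂ) g = (θ' : G → ℂ) g) :
    SameBlock M (θ : G → ℂ) (θ' : G → ℂ) := by
  intro g
  have hf : (f : ℂ) ≠ 0 := by exact_mod_cast hd ▸ (deg_pos θ).ne'
  by_cases hg : p ∣ orderOf g
  · obtain ⟨P, -, hP⟩ := L.exists_sylow
    have hidx : (centralizer ({g} : Set G)).index = f * (r * c) := by
      have h := (centralizer ({g} : Set G)).index_mul_card
      rw [SmallPiece.card_centralizer_eq P hP L.order L.cent (L.orderOf_eq hg), hG, mul_comm p] at h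
      exact Nat.eq_of_mul_eq_mul_right (Fact.out : p.Prime).pos h
    have hint : IsIntegral ℤ (((c : ℂ)) * ((θ : G → ℂ) g - (θ' : G → ℂ) g)) :=
      ((c : AlgInt)).2.mul ((CfsgLib.Char.char_isIntegral (CfsgLib.Char.isCharacter_of_isIrr θ.2) g).sub
        (CfsgLib.Char.char_isIntegral (CfsgLib.Char.isCharacter_of_isIrr θ'.2) g))
    refine ⟨(r : AlgInt) * ⟨_, hint⟩, 1, M.mul_mem_right _ hM.2.2, fun h => hM.2.1.ne_top (M.eq_top_iff_one.mpr h), ?_⟩
    simp only [centralChar, deg_spec θ, deg_spec θ', hd, hd', hidx]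
    push_cast
    field_simp
  · refine ⟨0, 1, M.zero_mem, fun h => hM.2.1.ne_top (M.eq_top_iff_one.mpr h), ?_⟩
    simp only [centralChar, deg_spec θ, deg_spec θ', hd, hd', hag g hg]
    simp

end CfsgLib.SmallGroups.BrauerFew
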