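import Cfsg.Agent.Lib.SmallGroups.BrauerFew.OtherPrime
import Mathlib

/-!
Brauer and Tuan: a simple group of order `p q ^ b g₀`, `g₀ < p - 1`. The principal `p`-block and the
centraliser of a Sylow `p`-subgroup.
-/

set_option autoImplicit false

namespace CfsgLib.SmallGroups.BrauerFew

open Subgroup CfsgLib.InvolChar CfsgLib.Blocks CfsgLib.Blocks.PrimeSylow Cfsg
open scoped ComplexConjugate

variable {G : Type*} [Group G] [Fintype G] {p : ℕ} [Fact p.Prime]

/-- An element of `C(H)` at whose translates of `H` a small character agrees with `H` lies in the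
kernel, if `H` has at most one fixed point. -/
theorem mem_kernel_of_few_fixed {H : Subgroup G} [Fintype H] (hH : Nat.card H = p) {χ : G → ℂ}
    (hχ : Cfsg.IsCharacter G χ) {d k : ℕ} (hd : χ 1 = (d : ℂ)) (hdp : d < p) (hk : k ≤ 1)
    (hsum : ∑ u : H, χ u = (p : ℂ) * k) {y : G} (hcomm : ∀ u ∈ H, u * y = y * u)
    (hy : ∀ u ∈ H, u ≠ 1 → χ (u * y) = χ u) : χ y = χ 1 := by
  classical
  have hnorm := CfsgLib.Char.norm_char_le hχ y
  obtain ⟨m, ρ, rfl⟩ := hχ
  have hp0 : (p : ℂ) ≠ 0 := by exact_mod_cast (Fact.out : p.Prime).ne_zero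
  set E : (Fin m → ℂ) →ₗ[ℂ] (Fin m → ℂ) := ∑ u : H, ρ u with hE
  have hEE : E * E = (p : ℂ) • E := by
    have h : ∀ v : H, ρ v * E = E := fun v => by
      rw [hE, Finset.mul_sum]
      refine Fintype.sum_equiv (Equiv.mulLeft v) _ _ fun u => ?_
      rw [← map_mul]; rfl
    calc E * E = ∑ v : H, ρ v * E := by
          conv_lhs => arg 1; rw [hE]
          rw [Finset.sum_mul]
      _ = ∑ _v : H, E := Finset.sum_congr rfl fun v _ => h v
      _ = _ := by rw [Finset.sum_const, Finset.card_univ, ← Nat.card_eq_fintype_card, hH, ← Nat.cast_smul_eq_nsmul ℂ]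
  have htr : LinearMap.trace ℂ _ E = (p : ℂ) * k := by rw [← hsum, hE, map_sum]; rfl
  have hval : LinearMap.trace ℂ _ (E * ρ y) = ρ.character y + ((p : ℂ) * k - d) := by
    rw [← hsum, ← hd, hE, Finset.sum_mul, map_sum, ← Finset.add_sum_erase _ _ (Finset.mem_univ (1 : H)),
      ← Finset.add_sum_erase _ (fun u : H => ρ.character (u : G)) (Finset.mem_univ (1 : H))]
    rw [Finset.sum_congr rfl fun (u : H) hu => show LinearMap.trace ℂ _ (ρ u * ρ y) = ρ.character (u : G) by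
      rw [← map_mul]; exact hy u u.2 fun e => Finset.ne_of_mem_erase hu (Subtype.ext e),
      OneMemClass.coe_one, map_one, one_mul]
    show ρ.character y + _ = _
    ring
  set f := (p : ℂ)⁻¹ • E with hf
  have hff : f * f = f := by
    rw [hf, smul_mul_assoc, mul_smul_comm, hEE, smul_smul, smul_smul]
    congr 1
    field_simp
  have hproj : LinearMap.IsProj (LinearMap.range f) f := ⟨fun v => LinearMap.mem_range_self f v, fun v hv => by
    obtain ⟨w, rfl⟩ := hv
    exact LinearMap.congr_fun hff w⟩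
  have hrk : Module.finrank ℂ (LinearMap.range f) = k := by
    have h0 := LinearMap.IsProj.trace hproj
    rw [hf, map_smul, htr, smul_eq_mul, inv_mul_cancel_left₀ hp0] at h0
    exact_mod_cast h0.symm
  rcases (show k = 0 ∨ k = 1 by omega) with rfl | rfl
  · have hf0 : f = 0 := LinearMap.range_eq_bot.mp (Submodule.finrank_eq_zero.mp hrk)
    rw [hf, smul_eq_zero] at hf0
    rw [hf0.resolve_left (inv_ne_zero hp0), zero_mul, map_zero, Nat.cast_zero, mul_zero, zero_sub] at hval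
    rw [hd]; linear_combination -hval
  obtain ⟨⟨v, hv⟩, hv0, hspan⟩ := finrank_eq_one_iff'.mp hrk
  have hv0' : v ≠ 0 := fun e => hv0 (Subtype.ext e)
  have hcf : ρ y * f = f * ρ y := by
    rw [hf, hE, mul_smul_comm, smul_mul_assoc, Finset.mul_sum, Finset.sum_mul]
    congr 1
    exact Finset.sum_congr rfl fun u _ => by rw [← map_mul, ← map_mul, hcomm u u.2]
  have hyv : ρ y v ∈ LinearMap.range f := by
    obtain ⟨w, rfl⟩ := hv
    exact ⟨ρ y w, (LinearMap.congr_fun hcf w).symm⟩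
  obtain ⟨c, hc⟩ := hspan ⟨ρ y v, hyv⟩
  have hc' : ρ y v = c • v := (congrArg Subtype.val hc).symm
  have hfy : f * ρ y = c • f := by
    rw [← hcf]
    refine LinearMap.ext fun w => ?_
    obtain ⟨a, ha⟩ := hspan ⟨f w, LinearMap.mem_range_self f w⟩
    have ha' : f w = a • v := (congrArg Subtype.val ha).symm
    show ρ y (f w) = c • f w
    rw [ha', map_smul, hc', smul_comm]
  have hpow : ∀ i : ℕ, (ρ (y ^ i)) v = c ^ i • v := fun i => by
    induction i with
    | zero => simp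
    | succ i ih => rw [pow_succ', map_mul, Module.End.mul_apply, ih, map_smul, hc', smul_smul, pow_succ]
  have hc1 : ‖c‖ = 1 := by
    refine CfsgLib.Char.norm_eq_one_of_pow_eq_one' (orderOf_pos y).ne' ?_
    have h := hpow (orderOf y)
    rw [pow_orderOf_eq_one, map_one, Module.End.one_apply] at h
    exact (smul_left_injective ℂ hv0' (by simpa using h.symm))
  have hEy : LinearMap.trace ℂ _ (E * ρ y) = (p : ℂ) * c := by
    have hEf : E = (p : ℂ) • f := by rw [hf, smul_smul, mul_inv_cancel₀ hp0, one_smul]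
    rw [hEf, smul_mul_assoc, hfy, map_smul, map_smul, LinearMap.IsProj.trace hproj, hrk]
    simp
  rw [hEy, Nat.cast_one, mul_one] at hval
  have hcy : ρ.character y = (p : ℂ) * c - ((p : ℂ) - d) := by linear_combination -hval
  rw [hd, hcy, Complex.natCast_re] at hnorm
  have h2 : Complex.normSq ((p : ℂ) * c - ((p : ℂ) - d)) ≤ (d : ℝ) ^ 2 := by
    rw [Complex.normSq_eq_norm_sq]
    exact pow_le_pow_left₀ (norm_nonneg _) hnorm 2
  have h3 : c.re * c.re + c.im * c.im = 1 := by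
    rw [← Complex.normSq_apply, Complex.normSq_eq_norm_sq, hc1, one_pow]
  simp only [Complex.normSq_apply, Complex.sub_re, Complex.sub_im, Complex.mul_re, Complex.mul_im,
    Complex.natCast_re, Complex.natCast_im, zero_mul, sub_zero, add_zero] at h2
  have hpd : (0 : ℝ) < (p : ℝ) - d := sub_pos.mpr (by exact_mod_cast hdp)
  have hp' : (0 : ℝ) < p := by exact_mod_cast (Fact.out : p.Prime).pos
  have hle : c.re ≤ 1 := by nlinarith
  have h5 : ((p : ℝ) * c.re - ((p : ℝ) - d)) * ((p : ℝ) * c.re - ((p : ℝ) - d)) +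
      (p : ℝ) * c.im * ((p : ℝ) * c.im) =
      (p : ℝ) ^ 2 - 2 * (p : ℝ) * ((p : ℝ) - d) * c.re + ((p : ℝ) - d) ^ 2 := by
    linear_combination (p : ℝ) ^ 2 * h3
  have h4 : (p : ℝ) * ((p : ℝ) - d) * (1 - c.re) ≤ 0 := by rw [h5] at h2; nlinarith only [h2]
  have hre : c.re = 1 := by nlinarith [mul_pos hp' hpd]
  have him : c.im = 0 := by
    have : c.im * c.im = 0 := by nlinarith
    simpa using this
  rw [hd, hcy, show c = 1 from Complex.ext (by simpa using hre) (by simpa using him)]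
  ring

omit [Fact p.Prime] in
/-- A nontrivial character of a simple group is faithful. -/
theorem eq_one_of_value_eq_degree [IsSimpleGroup G] {χ : IrrCharacter G} (hne : χ ≠ CfsgLib.Char.irrOne)
    {y : G} (h : (χ : G → ℂ) y = (χ : G → ℂ) 1) : y = 1 := by
  classical
  have hd := deg_spec χ
  obtain ⟨n, ρ, hirr, hρ⟩ := χ.2
  have hfin : Module.finrank ℂ (Fin n → ℂ) = deg χ := by
    have h1 := hd
    rw [← congrFun hρ 1, Representation.char_one] at h1
    exact_mod_cast h1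
  have hy : y ∈ ρ.ker := by
    rw [MonoidHom.mem_ker]
    exact (CfsgLib.Char.character_eq_degree_iff ρ y).mp (by rw [congrFun hρ y, h, hd, hfin])
  rcases IsSimpleGroup.eq_bot_or_eq_top_of_normal ρ.ker inferInstance with e | e
  · exact Subgroup.mem_bot.mp (e ▸ hy)
  exfalso
  have hall : ∀ g : G, (χ : G → ℂ) g = (deg χ : ℂ) := fun g => by
    rw [← congrFun hρ g, (CfsgLib.Char.character_eq_degree_iff ρ g).mpr
      (e ▸ Subgroup.mem_top g : g ∈ ρ.ker), hfin]
  have := CfsgLib.Char.classInner_irr_ne χ.2 CfsgLib.Char.irrOne.2 fun e' => hne (Subtype.ext e')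
  rw [show ((CfsgLib.Char.irrOne : IrrCharacter G) : G → ℂ) = fun _ => 1 from
    funext CfsgLib.Char.irrOne_apply, CfsgLib.Char.classInner_one_right,
    Finset.sum_congr rfl fun g _ => hall g, Finset.sum_const, nsmul_eq_mul, Finset.card_univ,
    ← Nat.card_eq_fintype_card, inv_mul_cancel_left₀ CfsgLib.Char.card_ne_zero'] at this
  exact (deg_pos χ).ne' (by exact_mod_cast this)

/-- The principal `p`-block in the situation of Brauer and Tuan: the trivial character, the set `W`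
of the other characters with values `± 1` on `⟨x⟩`, and the exceptional set `T`. -/
structure TData (G : Type*) [Group G] [Fintype G] (p q e t f : ℕ) (ε : ℤ) (x : G) where
  W : Finset (IrrCharacter G)
  T : Finset (IrrCharacter G)
  sign : IrrCharacter G → ℤ
  card_W : W.card + 1 = e
  card_T : T.card = t
  one_W : CfsgLib.Char.irrOne ∉ W
  one_T : CfsgLib.Char.irrOne ∉ T
  disj : Disjoint W T
  sign_W : ∀ χ ∈ W, sign χ = 1 ∨ sign χ = -1
  mod_W : ∀ χ ∈ W, (p : ℤ) ∣ (deg χ : ℤ) - sign χ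
  dvd_W : ∀ χ ∈ W, q ∣ deg χ
  val_W : ∀ χ ∈ W, ∀ u ∈ zpowers x, u ≠ 1 → (χ : G → ℂ) u = (sign χ : ℂ)
  deg_T : ∀ θ ∈ T, deg θ = f
  eq_T : ∀ θ ∈ T, ∀ θ' ∈ T, ∀ g : G, ¬ p ∣ orderOf g → (θ : G → ℂ) g = (θ' : G → ℂ) g
  sum_T : ∀ u ∈ zpowers x, u ≠ 1 → ∑ θ ∈ T, (θ : G → ℂ) u = -(ε : ℂ)
  sq_T : ∀ u ∈ zpowers x, u ≠ 1 → ∑ θ ∈ T, (θ : G → ℂ) u * conj ((θ : G → ℂ) u) = (p : ℂ) - e
  outside : ∀ χ, χ ≠ CfsgLib.Char.irrOne → χ ∉ W → χ ∉ T → ∀ u ∈ zpowers x, u ≠ 1 → (χ : G → ℂ) u = 0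
  rel : ε * (f : ℤ) = 1 + ∑ χ ∈ W, sign χ * (deg χ : ℤ)

set_option maxHeartbeats 1600000 in
/-- The local and block data. -/
theorem exists_tdata [IsSimpleGroup G] (hna : ¬ IsMulCommutative G) {q b g₀ : ℕ} (hq : q.Prime) (hpq : p ≠ q)
    (hG : Nat.card G = p * (q ^ b * g₀)) (hqg : ¬ q ∣ g₀) (hg : g₀ < p - 1) :
    ∃ (x : G) (e t f n : ℕ) (ε : ℤ), Loc G p x ∧ p = e * t + 1 ∧ 2 ≤ e ∧ 2 ≤ t ∧ 0 < n ∧
      Nat.card G = p * (e * (n * p + 1)) ∧ Nat.card (Sylow p G) = n * p + 1 ∧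
      ((ε = 1 ∧ f = e) ∨ (ε = -1 ∧ f + e = p)) ∧ f ∣ g₀ ∧ Nonempty (TData G p q e t f ε x) := by
  classical
  have hp : p.Prime := Fact.out
  have hg0 : 0 < g₀ := Nat.pos_of_ne_zero fun h => by
    rw [h, mul_zero, mul_zero] at hG; exact Nat.card_pos.ne' hG
  have hpg : ¬ p ∣ g₀ := fun h => by have := Nat.le_of_dvd hg0 h; omega
  have hpqb : ¬ p ∣ q ^ b * g₀ := fun h => (hp.dvd_mul.mp h).elim
    (fun h => hpq ((Nat.prime_dvd_prime_iff_eq hp hq).mp (hp.dvd_of_dvd_pow h))) hpg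
  have hdvd : p ∣ Nat.card G := ⟨_, hG⟩
  obtain ⟨P⟩ : Nonempty (Sylow p G) := inferInstance
  have hP : Nat.card (P : Subgroup G) = p := by
    rw [P.card_eq_multiplicity, hG, Nat.factorization_mul hp.ne_zero (fun h => hpqb (by rw [h]; exact dvd_zero p)),
      Finsupp.coe_add, Pi.add_apply, hp.factorization_self, Nat.factorization_eq_zero_of_not_dvd hpqb,
      add_zero, pow_one]
  set C := centralizer ((P : Subgroup G) : Set G) with hCdef
  set e := C.relIndex (normalizer ((P : Subgroup G) : Set G)) with hedef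
  obtain ⟨t, ht⟩ : e ∣ p - 1 := PrimeSylow.relIndex_dvd P hP
  have he0 : 0 < e := Nat.pos_of_ne_zero fun h => by rw [h, zero_mul] at ht; have := hp.two_le; omega
  have he2 : 2 ≤ e := by
    have : e ≠ 1 := fun h => not_normalizer_le_centralizer hna hdvd P (relIndex_eq_one.mp h)
    omega
  have hpe : p = e * t + 1 := by have := hp.two_le; omega
  have ht0 : 0 < t := Nat.pos_of_ne_zero fun h => by rw [h, mul_zero] at ht; have := hp.two_le; omega
  obtain ⟨M, hM⟩ := CfsgLib.Invol.exists_isPModular p hp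
  haveI := hM.2.1
  obtain ⟨X, Y, hB, hXY, hXc, hYc, -, εX, ε, hX, hε, hYdeg, hYeq, hYrel⟩ :=
    principal_block_prime_sylow P hM hP e rfl
  rw [ht, Nat.mul_div_cancel_left _ he0] at hYc
  set one : Cfsg.IrrCharacter G := CfsgLib.Char.irrOne with hone
  have hone_deg : deg one = 1 := deg_irrOne
  have hone_val : ∀ g : G, (one : G → ℂ) g = 1 := fun g => by rw [hone, CfsgLib.Char.irrOne_apply]
  let Xf : Finset (Cfsg.IrrCharacter G) := Finset.univ.filter (· ∈ X)
  let Yf : Finset (Cfsg.IrrCharacter G) := Finset.univ.filter (· ∈ Y)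
  have hXf : ∀ χ, χ ∈ Xf ↔ χ ∈ X := fun χ => by simp [Xf]
  have hYf : ∀ χ, χ ∈ Yf ↔ χ ∈ Y := fun χ => by simp [Yf]
  have hXcard : Xf.card = e := by rw [← hXc, Nat.card_eq_fintype_card, Fintype.card_subtype]
  have hYcard : Yf.card = t := by rw [← hYc, Nat.card_eq_fintype_card, Fintype.card_subtype]
  have hblock : ∀ χ, χ ∈ Cfsg.principalBlock M G ↔ χ ∈ Xf ∪ Yf := fun χ => by
    rw [hB, Finset.mem_union, hXf, hYf, Set.mem_union]
  have hdisj : Disjoint Xf Yf := Finset.disjoint_left.mpr fun χ h h' =>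
    Set.disjoint_left.mp hXY ((hXf χ).mp h) ((hYf χ).mp h')
  have hsumBlock : ∀ F : Cfsg.IrrCharacter G → ℂ,
      (∑ χ, if χ ∈ Cfsg.principalBlock M G then F χ else 0) = ∑ χ ∈ Xf, F χ + ∑ χ ∈ Yf, F χ := fun F => by
    rw [← Finset.sum_union hdisj, ← Finset.sum_filter]
    exact Finset.sum_congr (by ext χ; simp [hblock]) fun _ _ => rfl
  have hperf : commutator G = ⊤ := commutator_eq_top_of_simple hna
  -- the nontrivial elements of `P`
  have hmem : ∀ u ∈ (P : Subgroup G), u ≠ 1 → ∃ i : ZMod p, i ≠ 0 ∧ pw P hP i = u := fun u hu h1 => by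
    obtain ⟨i, hi⟩ := pw_surjOn P hP hu
    exact ⟨i, fun h => h1 (by rw [← hi, h, pw_zero]), hi⟩
  have hXval : ∀ χ ∈ Xf, ∀ u ∈ (P : Subgroup G), u ≠ 1 → (χ : G → ℂ) u = (εX χ : ℂ) := by
    intro χ hχ u hu h1
    have := (hX χ ((hXf χ).mp hχ)).2.2 u hu h1 1 (one_mem _) (by rw [orderOf_one]; exact hp.not_dvd_one)
    rwa [mul_one] at this
  have hXsign : ∀ χ ∈ Xf, εX χ = 1 ∨ εX χ = -1 := fun χ hχ => (hX χ ((hXf χ).mp hχ)).1
  have hXmod : ∀ χ ∈ Xf, (p : ℤ) ∣ (deg χ : ℤ) - εX χ := fun χ hχ => by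
    obtain ⟨-, h2, -⟩ := hX χ ((hXf χ).mp hχ)
    rw [deg_eq_charDegree] at h2
    exact Int.ModEq.dvd h2.symm
  -- characters of degree congruent to `± 1`
  have hqd : ∀ (χ : IrrCharacter G) (σ : ℤ), χ ≠ one → (σ = 1 ∨ σ = -1) → (p : ℤ) ∣ (deg χ : ℤ) - σ →
      q ∣ deg χ := by
    intro χ σ hne hσ hmod
    by_contra hqd
    have hd2 := one_lt_deg hperf hne
    have hpd : ¬ p ∣ deg χ := fun h' => by
      have h1 : (p : ℤ) ∣ σ := by
        have := dvd_sub (Int.natCast_dvd_natCast.mpr h') hmod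
        simpa using this
      rcases hσ with rfl | rfl
      · exact hp.not_dvd_one (by exact_mod_cast h1)
      · exact hp.not_dvd_one (by exact_mod_cast (dvd_neg.mp h1))
    have h1 : deg χ ∣ q ^ b * g₀ := (Nat.Coprime.dvd_mul_left (hp.coprime_iff_not_dvd.mpr hpd).symm).mp
      (hG ▸ CfsgLib.Char.degree_dvd_card χ.2 (deg_spec χ))
    have h2 : deg χ ∣ g₀ :=
      (Nat.Coprime.dvd_mul_left (Nat.Coprime.pow_right b (hq.coprime_iff_not_dvd.mpr hqd).symm)).mp h1
    have h3 := Nat.le_of_dvd hg0 h2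
    have h4 := Int.eq_zero_of_abs_lt_dvd hmod (by rw [abs_lt]; rcases hσ with rfl | rfl <;> omega)
    omega
  obtain ⟨θ₀, hθ₀⟩ := Finset.card_pos.mp (hYcard ▸ ht0 : 0 < Yf.card)
  set f := deg θ₀ with hf
  have hYd : ∀ θ ∈ Yf, deg θ = f := by
    intro θ hθ
    have h := hYeq θ ((hYf θ).mp hθ) θ₀ ((hYf θ₀).mp hθ₀) 1 (by rw [orderOf_one]; exact hp.not_dvd_one)
    rw [deg_spec θ, deg_spec θ₀] at h
    exact_mod_cast h
  have hrelC : ∑ χ ∈ Xf, (εX χ : ℂ) * (deg χ : ℂ) = (ε : ℂ) * (f : ℂ) := by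
    have h := hYrel θ₀ ((hYf θ₀).mp hθ₀) 1 (by rw [orderOf_one]; exact hp.not_dvd_one)
    rw [finsum_mem_eq_sum_of_inter_support_eq (t := Xf) _ (by ext χ; simp [Xf])] at h
    simp only [fun χ : Cfsg.IrrCharacter G => deg_spec χ] at h
    exact h.symm
  have hrelZ : ∑ χ ∈ Xf, εX χ * (deg χ : ℤ) = ε * (f : ℤ) := by
    apply Int.cast_injective (α := ℂ)
    push_cast
    exact hrelC
  have hYmod : (p : ℤ) ∣ (f : ℤ) - ε * e := by
    have h := hYdeg θ₀ ((hYf θ₀).mp hθ₀)
    rw [deg_eq_charDegree] at h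
    exact Int.ModEq.dvd h.symm
  have hqε : ¬ (q : ℤ) ∣ 1 := fun h => hq.not_dvd_one (Int.natCast_dvd_natCast.mp (by simpa using h))
  have honeX : one ∈ Xf := by
    refine (Finset.mem_union.mp ((hblock one).mp irrOne_mem_principalBlock)).resolve_right fun hY1 => ?_
    have hf1 : f = 1 := by rw [← hYd one hY1, hone_deg]
    have hdvdX : (q : ℤ) ∣ ∑ χ ∈ Xf, εX χ * (deg χ : ℤ) := Finset.dvd_sum fun χ hχ =>
      (Int.natCast_dvd_natCast.mpr (hqd χ _ (fun e => Finset.disjoint_left.mp hdisj hχ (e ▸ hY1))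
        (hXsign χ hχ) (hXmod χ hχ))).mul_left _
    rw [hrelZ, hf1, Nat.cast_one, mul_one] at hdvdX
    rcases hε with rfl | rfl
    · exact hqε hdvdX
    · exact hqε (dvd_neg.mp hdvdX)
  obtain ⟨g, hgo, hPg⟩ := exists_zpowers_of_card_prime hP
  have hg1 : g ≠ 1 := fun e => hp.ne_one (by rw [← hgo, e, orderOf_one])
  have hgP : g ∈ (P : Subgroup G) := hPg ▸ mem_zpowers g
  have hεone : εX one = 1 := by
    have := hXval one honeX g hgP hg1
    rw [hone_val] at this
    exact_mod_cast this.symm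
  have hqW : ∀ χ ∈ Xf.erase one, q ∣ deg χ := fun χ hχ =>
    hqd χ _ (Finset.mem_erase.mp hχ).1 (hXsign χ (Finset.mem_erase.mp hχ).2) (hXmod χ (Finset.mem_erase.mp hχ).2)
  have hrel : ε * (f : ℤ) = 1 + ∑ χ ∈ Xf.erase one, εX χ * (deg χ : ℤ) := by
    rw [← hrelZ, ← Finset.add_sum_erase _ _ honeX, hεone, hone_deg, Nat.cast_one, one_mul]
  have hqW' : (q : ℤ) ∣ ∑ χ ∈ Xf.erase one, εX χ * (deg χ : ℤ) :=
    Finset.dvd_sum fun χ hχ => (Int.natCast_dvd_natCast.mpr (hqW χ hχ)).mul_left _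
  have hqf : ¬ q ∣ f := fun h => by
    have h1 : (q : ℤ) ∣ ε * (f : ℤ) := (Int.natCast_dvd_natCast.mpr h).mul_left _
    rw [hrel] at h1
    exact hqε ((dvd_add_left hqW').mp h1)
  have hYne : ∀ θ ∈ Yf, θ ≠ one := fun θ hθ e => Finset.disjoint_left.mp hdisj honeX (e ▸ hθ)
  have ht2 : 2 ≤ t := by
    rcases (show t = 1 ∨ 2 ≤ t by omega) with ht1 | h
    · exfalso
      refine hqf (hqd θ₀ (-ε) (hYne θ₀ hθ₀) (by rcases hε with rfl | rfl <;> simp) ?_)
      have : (e : ℤ) = (p : ℤ) - 1 := by rw [hpe, ht1]; push_cast; ring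
      obtain ⟨k, hk⟩ := hYmod
      exact ⟨k + ε, by linear_combination hk + ε * this⟩
    · exact h
  have hep : e < p := by
    have := Nat.mul_le_mul_left e ht2
    omega
  have hfg : f ∣ g₀ := by
    have hf0 := deg_pos θ₀
    have hpf : ¬ p ∣ f := fun h' => by
      have h1 : (p : ℤ) ∣ ε * e := by
        have := dvd_sub (Int.natCast_dvd_natCast.mpr h') hYmod
        simpa using this
      have h2 : (p : ℤ) ∣ (e : ℤ) := by rcases hε with rfl | rfl <;> simpa using h1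
      have := Nat.le_of_dvd he0 (Int.natCast_dvd_natCast.mp h2)
      omega
    have h1 : f ∣ q ^ b * g₀ := (Nat.Coprime.dvd_mul_left (hp.coprime_iff_not_dvd.mpr hpf).symm).mp
      (hG ▸ CfsgLib.Char.degree_dvd_card θ₀.2 (deg_spec θ₀))
    exact (Nat.Coprime.dvd_mul_left (Nat.Coprime.pow_right b (hq.coprime_iff_not_dvd.mpr hqf).symm)).mp h1
  have hfle : f ≤ g₀ := Nat.le_of_dvd hg0 hfg
  have hfε : (ε = 1 ∧ f = e) ∨ (ε = -1 ∧ f + e = p) := by
    have hf0 : 0 < f := deg_pos θ₀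
    rcases hε with rfl | rfl
    · have := Int.eq_zero_of_abs_lt_dvd hYmod (by rw [abs_lt]; omega)
      exact Or.inl ⟨rfl, by omega⟩
    · obtain ⟨k, hk⟩ := hYmod
      have hk0 : 0 < k := by nlinarith
      have hk2 : k < 2 := by nlinarith
      obtain rfl : k = 1 := by omega
      exact Or.inr ⟨rfl, by omega⟩
  -- the columns of the elements of `P`
  have hsumY : ∀ u ∈ (P : Subgroup G), u ≠ 1 → ∑ θ ∈ Yf, (θ : G → ℂ) u = -(ε : ℂ) := by
    intro u hu h1
    obtain ⟨i, hi, rfl⟩ := hmem u hu h1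
    have h := column_regular P hM hP hi (g := 1) (by rw [orderOf_one]; exact hp.not_dvd_one)
    rw [hsumBlock] at h
    simp only [fun χ : Cfsg.IrrCharacter G => deg_spec χ] at h
    rw [Finset.sum_congr rfl fun χ hχ => by rw [hXval χ hχ _ hu h1], hrelC,
      Finset.sum_congr rfl fun θ hθ => by rw [hYd θ hθ], ← Finset.sum_mul] at h
    have hf' : (f : ℂ) ≠ 0 := by exact_mod_cast (deg_pos θ₀).ne'
    have h' : (∑ θ ∈ Yf, (θ : G → ℂ) (pw P hP i) + (ε : ℂ)) * (f : ℂ) = 0 := by linear_combination h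
    linear_combination (mul_eq_zero.mp h').resolve_right hf'
  -- `C(P) = P`
  haveI := Fintype.ofFinite (P : Subgroup G)
  choose k hk using fun θ : IrrCharacter G => CfsgLib.Char.classInner_char_nat
    (CfsgLib.Char.isCharacter_res (P : Subgroup G) (CfsgLib.Char.isCharacter_of_isIrr θ.2)) CfsgLib.Char.isCharacter_one
  have hksum : ∀ θ : IrrCharacter G, ∑ u : (P : Subgroup G), (θ : G → ℂ) u = (p : ℂ) * k θ := fun θ => by
    rw [← hk θ, CfsgLib.Char.classInner_one_right, hP, mul_inv_cancel_left₀]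
    exact_mod_cast hp.ne_zero
  obtain ⟨θ₁, hθ₁, hk1⟩ : ∃ θ ∈ Yf, k θ ≤ 1 := by
    by_contra hcon
    push Not at hcon
    have h2 : Yf.card * 2 ≤ ∑ θ ∈ Yf, k θ := by
      rw [← smul_eq_mul]; exact Finset.card_nsmul_le_sum _ _ _ fun θ hθ => hcon θ hθ
    have h3 : ((p : ℤ) * ((∑ θ ∈ Yf, k θ : ℕ) : ℤ)) = (t : ℤ) * f - ε * ((p : ℤ) - 1) := by
      apply Int.cast_injective (α := ℂ)
      push_cast
      rw [Finset.mul_sum, ← Finset.sum_congr rfl fun θ _ => hksum θ, Finset.sum_comm,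
        ← Finset.add_sum_erase _ _ (Finset.mem_univ (1 : (P : Subgroup G))), OneMemClass.coe_one,
        Finset.sum_congr rfl fun θ hθ => (deg_spec θ).trans (congrArg Nat.cast (hYd θ hθ)),
        Finset.sum_congr rfl fun (u : (P : Subgroup G)) hu => hsumY u u.2 fun e =>
          Finset.ne_of_mem_erase hu (Subtype.ext e),
        Finset.sum_const, Finset.sum_const, hYcard, Finset.card_erase_of_mem (Finset.mem_univ _),
        Finset.card_univ, ← Nat.card_eq_fintype_card, hP, nsmul_eq_mul, nsmul_eq_mul,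
        Nat.cast_sub hp.one_le, Nat.cast_one]
      ring
    rw [hYcard] at h2
    have hpz : (p : ℤ) = e * t + 1 := by exact_mod_cast hpe
    have h4 : (p : ℤ) * ((∑ θ ∈ Yf, k θ : ℕ) : ℤ) ≤ (p : ℤ) * t := by
      rw [h3]
      rcases hfε with ⟨rfl, hfe⟩ | ⟨rfl, hfe⟩
      · have : (f : ℤ) = e := by exact_mod_cast hfe
        nlinarith
      · have : (f : ℤ) = (p : ℤ) - e := by omega
        nlinarith
    have h5 : (((∑ θ ∈ Yf, k θ : ℕ) : ℤ)) ≤ t := le_of_mul_le_mul_left h4 (by exact_mod_cast hp.pos)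
    have h6 : (∑ θ ∈ Yf, k θ) ≤ t := by exact_mod_cast h5
    omega
  have hfp : f < p := by omega
  have hregular : ∀ y ∈ C, ¬ p ∣ orderOf y → y = 1 := by
    intro y hy hreg
    refine eq_one_of_value_eq_degree (hYne θ₁ hθ₁) (mem_kernel_of_few_fixed (H := (P : Subgroup G)) hP
      (CfsgLib.Char.isCharacter_of_isIrr θ₁.2) ((deg_spec θ₁).trans (congrArg Nat.cast (hYd θ₁ hθ₁))) hfp hk1
      (hksum θ₁) (fun u hu => mem_centralizer_iff.mp hy u hu) fun u hu hu1 => ?_)
    obtain ⟨i, hi, rfl⟩ := hmem u hu hu1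
    exact principal_value P hM hP ((hblock θ₁).mpr (Finset.mem_union_right _ hθ₁)) hi hy hreg
  have hCP : C = (P : Subgroup G) := by
    refine le_antisymm (fun c hc => ?_) (PrimeSylow.le_centralizer P hP)
    have hcp : c ^ p = 1 := by
      refine hregular _ (pow_mem hc p) fun h => ?_
      rw [orderOf_pow' c hp.ne_zero] at h
      have hco : orderOf c ∣ Nat.card G := orderOf_dvd_natCard c
      rcases Nat.coprime_or_dvd_of_prime hp (orderOf c) with h' | h'
      · rw [Nat.Coprime.gcd_eq_one h'.symm, Nat.div_one] at h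
        exact hp.coprime_iff_not_dvd.mp h' h
      · rw [Nat.gcd_eq_right h'] at h
        have h2 : p * p ∣ Nat.card G := (Nat.mul_dvd_of_dvd_div h' h).trans hco
        rw [hG] at h2
        exact hpqb (Nat.dvd_of_mul_dvd_mul_left hp.pos h2)
    have hcz : IsPGroup p (zpowers c) := fun z => ⟨1, Subtype.ext (by
      obtain ⟨i, hi⟩ := mem_zpowers_iff.mp z.2
      show (z : G) ^ p ^ 1 = 1
      rw [← hi, pow_one, ← zpow_natCast, ← zpow_mul, mul_comm, zpow_mul, zpow_natCast, hcp, one_zpow])⟩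
    have h := hcz.inf_normalizer_sylow P
    have : c ∈ zpowers c ⊓ normalizer ((P : Subgroup G) : Set G) :=
      ⟨mem_zpowers c, centralizer_le_normalizer _ hc⟩
    exact (h.le this).2
  have L : Loc G p g := ⟨hperf, hgo, by rw [← hPg, ← hCP, hCdef, hPg, zpowers_eq_closure, centralizer_closure]⟩
  obtain ⟨e', t', n, -, -, hn, hpe', hS, -, hcard, hrel', -⟩ := L.exists_numbers P hPg
  obtain rfl : e' = e := hrel'.symm.trans hedef.symm
  have hpwne : ∀ i : ZMod p, i ≠ 0 → pw P hP i ∈ (P : Subgroup G) ∧ pw P hP i ≠ 1 := fun i hi =>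
    ⟨pw_mem P hP i, fun h => hi ((pw_eq_one_iff P hP).mp h)⟩
  refine ⟨g, e, t, f, n, ε, L, hpe, he2, ht2, hn, hcard, hS, hfε, hfg, ⟨{
    W := Xf.erase one
    T := Yf
    sign := εX
    card_W := by rw [Finset.card_erase_of_mem honeX, hXcard]; omega
    card_T := hYcard
    one_W := Finset.notMem_erase _ _
    one_T := fun h => hYne one h rfl
    disj := Finset.disjoint_of_subset_left (Finset.erase_subset _ _) hdisj
    sign_W := fun χ hχ => hXsign χ (Finset.mem_erase.mp hχ).2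
    mod_W := fun χ hχ => hXmod χ (Finset.mem_erase.mp hχ).2
    dvd_W := hqW
    val_W := fun χ hχ u hu hu1 => hXval χ (Finset.mem_erase.mp hχ).2 u (hPg ▸ hu) hu1
    deg_T := hYd
    eq_T := fun θ hθ θ' hθ' => hYeq θ ((hYf θ).mp hθ) θ' ((hYf θ').mp hθ')
    sum_T := fun u hu hu1 => hsumY u (hPg ▸ hu) hu1
    sq_T := ?_
    outside := ?_
    rel := hrel }⟩⟩
  · intro u hu hu1
    obtain ⟨i, hi, rfl⟩ := hmem u (hPg ▸ hu) hu1
    have h := column_inner P hM hP hi hi
    rw [if_pos (IsConj.refl _), hsumBlock,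
      Finset.sum_congr rfl fun (χ : IrrCharacter G) hχ => show (χ : G → ℂ) (pw P hP i) * conj ((χ : G → ℂ) (pw P hP i)) = 1 by
        rw [hXval χ hχ _ (hpwne i hi).1 (hpwne i hi).2]
        rcases hXsign χ hχ with h | h <;> simp [h],
      Finset.sum_const, hXcard, nsmul_one] at h
    linear_combination h
  · intro χ hne hW hT u hu hu1
    have hχX : χ ∉ Xf := fun h => hW (Finset.mem_erase.mpr ⟨hne, h⟩)
    obtain ⟨i, hi, rfl⟩ := hmem u (hPg ▸ hu) hu1
    have hb := column_inner P hM hP hi hi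
    rw [if_pos (IsConj.refl _)] at hb
    have hall := CfsgLib.Char.second_orthogonality (pw P hP i) (pw P hP i)
    rw [if_pos (IsConj.refl _), L.centralizer_of_mem hu hu1, L.card_zpowers_eq] at hall
    have hdiff : ∑ χ : Cfsg.IrrCharacter G, (if χ ∈ Cfsg.principalBlock M G then 0 else
        Complex.normSq ((χ : G → ℂ) (pw P hP i)) : ℝ) = 0 := by
      have h2 : (∑ χ : Cfsg.IrrCharacter G, ((if χ ∈ Cfsg.principalBlock M G then 0 else
          Complex.normSq ((χ : G → ℂ) (pw P hP i)) : ℝ) : ℂ)) = 0 := by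
        calc _ = ∑ χ : Cfsg.IrrCharacter G, ((χ : G → ℂ) (pw P hP i) * conj ((χ : G → ℂ) (pw P hP i)) -
              if χ ∈ Cfsg.principalBlock M G then
                (χ : G → ℂ) (pw P hP i) * conj ((χ : G → ℂ) (pw P hP i)) else 0) :=
              Finset.sum_congr rfl fun χ _ => by split_ifs <;> simp [Complex.mul_conj]
          _ = 0 := by rw [Finset.sum_sub_distrib, hall, hb, sub_self]
      exact_mod_cast h2
    have h3 := (Finset.sum_eq_zero_iff_of_nonneg fun χ _ => by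
      split_ifs
      · exact le_rfl
      · exact Complex.normSq_nonneg _).mp hdiff χ (Finset.mem_univ χ)
    rw [if_neg (by rw [hblock, Finset.mem_union]; tauto)] at h3
    exact Complex.normSq_eq_zero.mp h3

end CfsgLib.SmallGroups.BrauerFew
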