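import Mathlib.Tactic.Linarith
import Mathlib.Tactic.Ring
import Mathlib.Tactic.LinearCombination
import Mathlib.Data.Int.ModEq

/-!
The arithmetic lemma of Brauer: divisors of `q * (n * p + 1)` congruent to `1` or `-1` modulo `p`,
when `q ∣ p - 1` and `n < (p + 3) / 2`.
-/

set_option autoImplicit false

namespace CfsgLib.SmallGroups.BrauerFew

/-- A divisor congruent to `1`. -/
theorem divisor_plus {p q t n d w : ℤ} (hq : 0 < q) (ht : 0 < t) (hpq : p = q * t + 1)
    (hn : 2 * n ≤ p + 1) (hdw : d * w = q * (n * p + 1)) (hd : p ∣ d - 1) (hd2 : 2 ≤ d) (hw : 0 < w) :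
    d = n * p + 1 := by
  have hqp : q < p := by nlinarith
  obtain ⟨u, hu⟩ := hd
  have hu0 : 0 < u := by nlinarith
  obtain ⟨v, hv⟩ : ∃ v, v = q * n - w * u := ⟨_, rfl⟩
  have hwv : w = q + v * p := by subst hv; linear_combination hdw - w * hu
  have hv0 : 0 ≤ v := by nlinarith
  rcases hv0.eq_or_lt with h | h
  · have h1 : q * (n - u) = 0 := by
      rw [← h, zero_mul, add_zero] at hwv
      linear_combination -hv - h + u * hwv
    rcases mul_eq_zero.mp h1 with h2 | h2
    · omega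
    · rw [show n = u by linarith]; linarith
  exfalso
  have h1 : v * (1 + u * p) = q * (n - u) := by linear_combination hv - u * hwv
  obtain ⟨j, hj⟩ : ∃ j, j = n - u - v * u * t := ⟨_, rfl⟩
  have h2 : v * (1 + u) = q * j := by subst hj hpq; linear_combination h1
  have hj1 : 0 < j := by
    have : 0 < q * j := by rw [← h2]; exact mul_pos h (by linarith)
    exact pos_of_mul_pos_right this hq.le
  have h3 : j * (1 + u * p) = (n - u) * (u + 1) := by
    apply mul_left_cancel₀ hq.ne'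
    linear_combination (u + 1) * h1 - (1 + u * p) * h2
  have h4 : 1 + u * p ≤ (n - u) * (u + 1) := by
    have : 0 ≤ 1 + u * p := by nlinarith
    calc 1 + u * p = 1 * (1 + u * p) := (one_mul _).symm
      _ ≤ j * (1 + u * p) := mul_le_mul_of_nonneg_right hj1 this
      _ = _ := h3
  nlinarith [mul_nonneg (show (0 : ℤ) ≤ p + 1 - 2 * n by linarith) (show (0 : ℤ) ≤ u + 1 by linarith),
    mul_nonneg (show (0 : ℤ) ≤ p - 1 by nlinarith) (show (0 : ℤ) ≤ u - 1 by linarith)]

/-- A divisor congruent to `-1`: the common part of the next two statements. -/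
theorem divisor_minus_cases {p q t n d w : ℤ} (hq : 0 < q) (ht : 0 < t) (hpq : p = q * t + 1)
    (hn0 : 0 ≤ n) (hdw : d * w = q * (n * p + 1)) (hd : p ∣ d + 1) (hd0 : 0 < d) (hw : 0 < w) :
    ∃ u, d = u * p - 1 ∧
      (u = 1 ∨ ∃ j m, 2 ≤ u ∧ 0 < j ∧ 0 < m ∧ m * (u - 1) = j * (p - 1) ∧ n + u = j * p + m) := by
  obtain ⟨u, hu⟩ := hd
  have hp : 1 < p := by nlinarith
  have hu0 : 0 < u := by nlinarith
  refine ⟨u, by linarith, ?_⟩
  rcases (show u = 1 ∨ 2 ≤ u by omega) with h | h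
  · exact Or.inl h
  obtain ⟨v, hv⟩ : ∃ v, v = w * u - q * n := ⟨_, rfl⟩
  have hwv : w + q = v * p := by subst hv; linear_combination -hdw + w * hu
  have hv0 : 0 < v := by nlinarith
  have h1 : v * (u * p - 1) = q * (n + u) := by linear_combination -hv - u * hwv
  obtain ⟨j, hj⟩ : ∃ j, j = n + u - v * u * t := ⟨_, rfl⟩
  have h2 : v * (u - 1) = q * j := by subst hj hpq; linear_combination h1
  have hj1 : 0 < j := by
    have : 0 < q * j := by rw [← h2]; exact mul_pos hv0 (by linarith)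
    exact pos_of_mul_pos_right this hq.le
  have h3 : (n + u - j * p) * (u - 1) = j * (p - 1) := by
    apply mul_left_cancel₀ hq.ne'
    linear_combination (u * p - 1) * h2 - (u - 1) * h1
  refine Or.inr ⟨j, n + u - j * p, h, hj1, ?_, h3, by ring⟩
  have : 0 < (n + u - j * p) * (u - 1) := by rw [h3]; exact mul_pos hj1 (by linarith)
  exact pos_of_mul_pos_left this (by linarith)

/-- A small divisor congruent to `-1`. -/
theorem divisor_minus {p q t n d w : ℤ} (hq : 0 < q) (ht : 0 < t) (hpq : p = q * t + 1) (hn0 : 0 ≤ n)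
    (hn : 2 * n ≤ p + 1) (hdw : d * w = q * (n * p + 1)) (hd : p ∣ d + 1) (hd0 : 0 < d) (hw : 0 < w)
    (hsize : d ^ 2 < p * (q * (n * p + 1))) : d = p - 1 := by
  obtain ⟨u, hu, h | ⟨j, m, hu2, hj, hm, h1, h2⟩⟩ := divisor_minus_cases hq ht hpq hn0 hdw hd hd0 hw
  · rw [hu, h, one_mul]
  exfalso
  have hqp : q ≤ p - 1 := by nlinarith
  have hp : 2 ≤ p := by nlinarith
  rcases (show j = 1 ∨ 2 ≤ j by omega) with rfl | hj2
  · rcases (show m = 1 ∨ 2 ≤ m by omega) with rfl | hm2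
    · have hu' : u = p := by linarith
      have hn' : n = 1 := by linarith
      rw [hu, hu', hn'] at hsize
      have h6 := mul_le_mul_of_nonneg_right hqp (show (0 : ℤ) ≤ 1 * p + 1 by linarith)
      have h7 := mul_le_mul_of_nonneg_left h6 (show (0 : ℤ) ≤ p by linarith)
      have h8 : 0 ≤ (p * p - 1) * (p * p - 1 - p) := mul_nonneg (by nlinarith) (by nlinarith)
      nlinarith
    · have : 2 * (u - 1) ≤ m * (u - 1) := mul_le_mul_of_nonneg_right hm2 (by linarith)
      linarith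
  · have h3 : 3 * p + 1 ≤ 2 * u := by nlinarith
    have h6 : p * (q * (n * p + 1)) ≤ p * ((p - 1) * (n * p + 1)) :=
      mul_le_mul_of_nonneg_left (mul_le_mul_of_nonneg_right hqp (by nlinarith)) (by linarith)
    have h7 : 2 * (n * p + 1) ≤ (p + 1) * p + 2 := by nlinarith
    have h8 : 2 * (p * ((p - 1) * (n * p + 1))) ≤ p * (p - 1) * ((p + 1) * p + 2) := by
      have := mul_le_mul_of_nonneg_left h7 (show (0 : ℤ) ≤ p * (p - 1) by nlinarith)
      linarith
    have h9 : (3 * p + 1) * p - 2 ≤ 2 * d := by nlinarith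
    have h10 : ((3 * p + 1) * p - 2) ^ 2 ≤ 4 * d ^ 2 := by
      nlinarith [mul_nonneg (show (0 : ℤ) ≤ 2 * d - ((3 * p + 1) * p - 2) by linarith)
        (show (0 : ℤ) ≤ 2 * d + ((3 * p + 1) * p - 2) by nlinarith)]
    nlinarith [mul_nonneg (show (0 : ℤ) ≤ p - 2 by linarith) (show (0 : ℤ) ≤ p by linarith),
      mul_nonneg (mul_nonneg (show (0 : ℤ) ≤ p - 2 by linarith) (show (0 : ℤ) ≤ p by linarith)) (sq_nonneg p)]

/-- The degree of the exceptional characters in the negative case. -/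
theorem exceptional_minus {p q t n d w : ℤ} (hq : 0 < q) (ht : 2 ≤ t) (hpq : p = q * t + 1) (hn0 : 0 ≤ n)
    (hn : 2 * n ≤ p + 1) (hdw : d * w = q * (n * p + 1)) (hd : p ∣ d + 1) (hd0 : 0 < d) (hw : 0 < w)
    (hwq : p ∣ w + q) : d = p - 1 := by
  obtain ⟨u, hu, h | ⟨j, m, hu2, hj, hm, h1, h2⟩⟩ := divisor_minus_cases hq (by linarith) hpq hn0 hdw hd hd0 hw
  · rw [hu, h, one_mul]
  exfalso
  have hp : 2 * q + 1 ≤ p := by nlinarith
  obtain ⟨v, hv⟩ := hwq
  have hv0 : 0 < v := by nlinarith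
  have hwp : p - q ≤ w := by nlinarith
  have hu3 : p + 1 ≤ 2 * u := by nlinarith
  have h4 : (p + 1) * p - 2 ≤ 2 * d := by nlinarith
  have h5 : ((p + 1) * p - 2) * (p - q) ≤ 2 * d * w :=
    mul_le_mul h4 hwp (by linarith) (by linarith)
  have h7 : 2 * (n * p + 1) ≤ (p + 1) * p + 2 := by nlinarith
  have h8 : 2 * (q * (n * p + 1)) ≤ q * ((p + 1) * p + 2) := by
    have := mul_le_mul_of_nonneg_left h7 hq.le
    linarith
  nlinarith [mul_nonneg (show (0 : ℤ) ≤ p - 2 * q - 1 by linarith) (show (0 : ℤ) ≤ (p + 1) * p by nlinarith)]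

end CfsgLib.SmallGroups.BrauerFew
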