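import Cfsg.Agent.Lib.Blocks.PrimeSylow
import Cfsg.Agent.Lib.SmallGroups.SmallPiece
import Cfsg.Agent.Lib.SmallGroups.Basic
import Cfsg.Agent.Lib.Transfer.Frobenius
import Cfsg.Agent.Lib.Char.Ortho
import Cfsg.Agent.Lib.Invol.Counting
import Cfsg.Agent.Lib.SmallGroups.BrauerFew.Arith
import Mathlib

/-!
A perfect group with a self-centralising element of prime order: the local data, and two counting
lemmas about inverted elements.
-/

set_option autoImplicit false

namespace CfsgLib.SmallGroups.BrauerFew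

open Subgroup
open scoped Pointwise

section General

variable {G : Type*} [Group G] [Finite G]

omit [Finite G] in
theorem linear_trivial_of_perfect (hperf : commutator G = ⊤) (f : G →* ℂˣ) : f = 1 :=
  MonoidHom.ext fun g =>
    MonoidHom.mem_ker.mp (Abelianization.commutator_subset_ker f (hperf ▸ Subgroup.mem_top g))

omit [Finite G] in
/-- A perfect group covered by a solvable subgroup and a normal subgroup equals the latter. -/
theorem eq_top_of_solvable_sup (hperf : commutator G = ⊤) (M N : Subgroup G) [M.Normal]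
    [Group.IsSolvable N] (h : N ⊔ M = ⊤) : M = ⊤ := by
  have hsurj : Function.Surjective ((QuotientGroup.mk' M).comp N.subtype) := by
    rw [← MonoidHom.range_eq_top, MonoidHom.range_comp, N.range_subtype, eq_top_iff]
    rintro y -
    obtain ⟨g, rfl⟩ := QuotientGroup.mk'_surjective M y
    have hg : g ∈ N ⊔ M := h ▸ Subgroup.mem_top g
    obtain ⟨a, ha, b, hb, rfl⟩ := Subgroup.mem_sup_of_normal_right.mp hg
    exact ⟨a, ha, by rw [map_mul, (QuotientGroup.eq_one_iff b).mpr hb |> fun e => show QuotientGroup.mk' M b = 1 from e, mul_one]⟩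
  haveI : Group.IsSolvable (G ⧸ M) := solvable_of_surjective hsurj
  by_contra hM
  haveI : Nontrivial (G ⧸ M) := QuotientGroup.nontrivial_iff.mpr hM
  refine (Group.IsSolvable.commutator_lt_top_of_nontrivial (G ⧸ M)).ne ?_
  rw [_root_.commutator_def, ← Subgroup.map_top_of_surjective _ (QuotientGroup.mk'_surjective M),
    ← Subgroup.map_commutator, ← _root_.commutator_def, hperf]

/-- The elements inverting `u` form at most one coset of its centraliser. -/
theorem card_inverting_le (u : G) :
    Nat.card {g : G // g * u * g⁻¹ = u⁻¹} ≤ Nat.card (centralizer ({u} : Set G)) := by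
  rcases isEmpty_or_nonempty {g : G // g * u * g⁻¹ = u⁻¹} with h | ⟨⟨g₀, hg₀⟩⟩
  · rw [Nat.card_of_isEmpty]; exact Nat.zero_le _
  refine Nat.card_le_card_of_injective (fun g => (⟨g₀⁻¹ * g.1, ?_⟩ : centralizer ({u} : Set G))) ?_
  · rw [Subgroup.mem_centralizer_singleton_iff]
    calc g₀⁻¹ * g.1 * u = g₀⁻¹ * (g.1 * u * g.1⁻¹) * g.1 := by group
      _ = g₀⁻¹ * (g₀ * u * g₀⁻¹) * g.1 := by rw [g.2, hg₀]
      _ = u * (g₀⁻¹ * g.1) := by group
  · intro a b h
    exact Subtype.ext (mul_left_cancel (congrArg Subtype.val h))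

omit [Finite G] in
theorem conj_mul_self {s g : G} (hs : s * s = 1) (h : IsConj s g) : g * g = 1 := by
  obtain ⟨c, rfl⟩ := isConj_iff.mp h
  rw [show c * s * c⁻¹ * (c * s * c⁻¹) = c * (s * s) * c⁻¹ by group, hs]; group

omit [Finite G] in
theorem inverts_of_pair {a b : G} (ha : a * a = 1) (hb : b * b = 1) :
    a * (a * b) * a⁻¹ = (a * b)⁻¹ := by
  rw [mul_inv_rev, inv_eq_of_mul_eq_one_right ha, inv_eq_of_mul_eq_one_right hb, ← mul_assoc, ha,
    one_mul]

/-- Pairs of conjugates of an involution with product `u` are at most `|C(u)|` in number. -/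
theorem card_pairs_le {s : G} (hs : s * s = 1) (u : G) :
    Nat.card {q : G × G // IsConj s q.1 ∧ IsConj s q.2 ∧ q.1 * q.2 = u} ≤
      Nat.card (centralizer ({u} : Set G)) := by
  refine le_trans (Nat.card_le_card_of_injective (fun q => (⟨q.1.1, ?_⟩ : {g : G // g * u * g⁻¹ = u⁻¹})) ?_)
    (card_inverting_le u)
  · have := inverts_of_pair (conj_mul_self hs q.2.1) (conj_mul_self hs q.2.2.1)
    rwa [q.2.2.2] at this
  · intro q r h
    have ha : q.1.1 = r.1.1 := congrArg Subtype.val h
    refine Subtype.ext (Prod.ext ha ?_)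
    have h1 := q.2.2.2.trans r.2.2.2.symm
    rw [ha] at h1
    exact mul_left_cancel h1

theorem sum_card_centralizer [Fintype G] :
    ∑ u : G, Nat.card (centralizer ({u} : Set G)) = Nat.card (ConjClasses G) * Nat.card G := by
  rw [← card_comm_eq_card_conjClasses_mul_card, ← Nat.card_sigma]
  refine Nat.card_congr
    { toFun := fun q => ⟨(q.1, q.2.1), (Subgroup.mem_centralizer_singleton_iff.mp q.2.2).symm⟩
      invFun := fun q => ⟨q.1.1, ⟨q.1.2, Subgroup.mem_centralizer_singleton_iff.mpr q.2.eq.symm⟩⟩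
      left_inv := fun _ => rfl
      right_inv := fun _ => rfl }

/-- The square of a class of involutions is bounded through the class number. -/
theorem card_le_sq_centralizer_mul {s : G} (hs : s * s = 1) :
    Nat.card G ≤ Nat.card (centralizer ({s} : Set G)) ^ 2 * Nat.card (ConjClasses G) := by
  haveI := Fintype.ofFinite G
  set I := Nat.card {y : G // IsConj s y} with hI
  set c := Nat.card (centralizer ({s} : Set G)) with hc
  have h1 : I * I ≤ Nat.card (ConjClasses G) * Nat.card G := by
    refine le_trans ?_ (le_trans (Finset.sum_le_sum fun u _ => card_inverting_le u)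
      (sum_card_centralizer (G := G)).le)
    rw [hI, ← Nat.card_prod, ← Nat.card_sigma]
    refine Nat.card_le_card_of_injective (fun q => ⟨q.1.1 * q.2.1,
      ⟨q.1.1, inverts_of_pair (conj_mul_self hs q.1.2) (conj_mul_self hs q.2.2)⟩⟩) ?_
    intro a b h
    have h2 : a.1.1 * a.2.1 = b.1.1 * b.2.1 := congrArg Sigma.fst h
    have h3 : a.1.1 = b.1.1 := congrArg (fun z : (u : G) × {g : G // g * u * g⁻¹ = u⁻¹} => z.2.1) h
    rw [h3] at h2
    exact Prod.ext (Subtype.ext h3) (Subtype.ext (mul_left_cancel h2))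
  have h2 : I * c = Nat.card G := CfsgLib.Invol.card_conjugates_mul s
  refine Nat.le_of_mul_le_mul_right ?_ (Nat.card_pos (α := G))
  calc Nat.card G * Nat.card G = (I * I) * (c * c) := by rw [← h2]; ring
    _ ≤ Nat.card (ConjClasses G) * Nat.card G * (c * c) := Nat.mul_le_mul_right _ h1
    _ = _ := by ring

end General

/-- A perfect group with an element `x` of prime order `p` generating its own centraliser. -/
structure Loc (G : Type*) [Group G] (p : ℕ) (x : G) : Prop where
  perfect : commutator G = ⊤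
  order : orderOf x = p
  cent : centralizer ({x} : Set G) = zpowers x

variable {G : Type*} [Group G] [Finite G] {p : ℕ} [Fact p.Prime] {x : G}

omit [Finite G] in
theorem Loc.card_zpowers_eq (L : Loc G p x) : Nat.card (zpowers x) = p := by rw [Nat.card_zpowers, L.order]

omit [Finite G] in
theorem Loc.ne_one (L : Loc G p x) : x ≠ 1 := fun h =>
  (Fact.out : p.Prime).ne_one (by rw [← L.order, h, orderOf_one])

theorem Loc.orderOf_of_mem (L : Loc G p x) {u : G} (hu : u ∈ zpowers x) (h1 : u ≠ 1) : orderOf u = p :=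
  ((Nat.dvd_prime (Fact.out : p.Prime)).mp ((orderOf_dvd_natCard _ hu).trans L.card_zpowers_eq.dvd)).resolve_left
    fun h => h1 (orderOf_eq_one_iff.mp h)

theorem Loc.exists_sylow (L : Loc G p x) :
    ∃ P : Sylow p G, (P : Subgroup G) = zpowers x ∧ Nat.card (P : Subgroup G) = p := by
  have hp : p.Prime := Fact.out
  have h1 : IsPGroup p (zpowers x) := IsPGroup.of_card (n := 1) (by rw [L.card_zpowers_eq, pow_one])
  obtain ⟨S, hS⟩ := h1.exists_le_sylow
  have hxS : x ∈ (S : Subgroup G) := hS (mem_zpowers x)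
  haveI : Nontrivial (S : Subgroup G) := ⟨⟨⟨x, hxS⟩, 1, fun h => L.ne_one (congrArg Subtype.val h)⟩⟩
  haveI := S.2.center_nontrivial
  obtain ⟨⟨z, hz⟩, hz1⟩ := exists_ne (1 : center (S : Subgroup G))
  have hzx : (z : G) ∈ zpowers x := by
    rw [← L.cent, mem_centralizer_singleton_iff]
    exact (congrArg Subtype.val (Subgroup.mem_center_iff.mp hz ⟨x, hxS⟩)).symm
  have hzo : orderOf (z : G) = p := L.orderOf_of_mem hzx fun h => hz1 (Subtype.ext (Subtype.ext h))
  have hxz : x ∈ zpowers (z : G) := by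
    rw [eq_of_le_of_card_ge (zpowers_le.mpr hzx) (by rw [L.card_zpowers_eq, Nat.card_zpowers, hzo])]
    exact mem_zpowers x
  have hSC : (S : Subgroup G) ≤ zpowers x := by
    intro g hg
    rw [← L.cent, mem_centralizer_singleton_iff]
    obtain ⟨k, hk⟩ := mem_zpowers_iff.mp hxz
    rw [← hk]
    have : Commute g (z : G) := congrArg Subtype.val (Subgroup.mem_center_iff.mp hz ⟨g, hg⟩)
    exact (this.zpow_right k).eq
  exact ⟨S, le_antisymm hSC hS, by rw [le_antisymm hSC hS, L.card_zpowers_eq]⟩

omit [Finite G] in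
theorem Loc.centralizer_sylow (L : Loc G p x) {P : Sylow p G} (hP : (P : Subgroup G) = zpowers x) :
    centralizer ((P : Subgroup G) : Set G) = zpowers x := by
  rw [hP, zpowers_eq_closure, centralizer_closure, L.cent, zpowers_eq_closure]

theorem Loc.centralizer_of_mem (L : Loc G p x) {u : G} (hu : u ∈ zpowers x) (h1 : u ≠ 1) :
    centralizer ({u} : Set G) = zpowers x := by
  have hp : p.Prime := Fact.out
  have huo : orderOf u = p := L.orderOf_of_mem hu h1
  have : zpowers u = zpowers x :=
    eq_of_le_of_card_ge (zpowers_le.mpr hu) (by rw [L.card_zpowers_eq, Nat.card_zpowers, huo])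
  rw [← centralizer_closure, ← zpowers_eq_closure, this, zpowers_eq_closure, centralizer_closure, L.cent,
    zpowers_eq_closure]

/-- The only elements of order divisible by `p` are those of order `p`. -/
theorem Loc.orderOf_eq (L : Loc G p x) {g : G} (hg : p ∣ orderOf g) : orderOf g = p := by
  obtain ⟨P, hPx, hP⟩ := L.exists_sylow
  have h : p ∣ Nat.card (centralizer ({g} : Set G)) :=
    hg.trans (orderOf_dvd_natCard _ (mem_centralizer_singleton_iff.mpr rfl))
  exact Nat.dvd_antisymm (SmallPiece.orderOf_dvd_of_prime_dvd_centralizer P hP L.order L.cent h) hg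

/-- No element of order prime to `p` commutes with an element of order `p`. -/
theorem Loc.not_dvd_centralizer (L : Loc G p x) {g : G} (hg : ¬ p ∣ orderOf g) (h1 : g ≠ 1) :
    ¬ p ∣ Nat.card (centralizer ({g} : Set G)) := by
  obtain ⟨P, hPx, hP⟩ := L.exists_sylow
  intro h
  rcases (Nat.dvd_prime (Fact.out : p.Prime)).mp
    (SmallPiece.orderOf_dvd_of_prime_dvd_centralizer P hP L.order L.cent h) with h' | h'
  · exact h1 (orderOf_eq_one_iff.mp h')
  · exact hg (dvd_of_eq h'.symm)

/-- The numbers `q = |N : P|`, `t = (p - 1) / q` and `n = (n_p - 1) / p`. -/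
theorem Loc.exists_numbers (L : Loc G p x) (P : Sylow p G) (hPx : (P : Subgroup G) = zpowers x) :
    ∃ q t n : ℕ, 2 ≤ q ∧ 0 < t ∧ 0 < n ∧ p = q * t + 1 ∧ Nat.card (Sylow p G) = n * p + 1 ∧
      Nat.card (normalizer ((P : Subgroup G) : Set G)) = p * q ∧
      Nat.card G = p * (q * (n * p + 1)) ∧
      (centralizer ((P : Subgroup G) : Set G)).relIndex (normalizer ((P : Subgroup G) : Set G)) = q ∧
      Group.IsSolvable (normalizer ((P : Subgroup G) : Set G)) := by
  have hp : p.Prime := Fact.out
  have hP : Nat.card (P : Subgroup G) = p := by rw [hPx, L.card_zpowers_eq]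
  set N := normalizer ((P : Subgroup G) : Set G) with hNdef
  set C := centralizer ((P : Subgroup G) : Set G) with hCdef
  have hCx : C = zpowers x := L.centralizer_sylow hPx
  have hCN : C ≤ N := centralizer_le_normalizer _
  set q := C.relIndex N with hqdef
  obtain ⟨t, ht⟩ := CfsgLib.Blocks.PrimeSylow.relIndex_dvd P hP
  rw [← hNdef, ← hCdef, ← hqdef] at ht
  have hNc : Nat.card N = p * q := by
    rw [← Subgroup.card_mul_index (C.subgroupOf N), Nat.card_congr (subgroupOfEquivOfLe hCN).toEquiv,
      hCx, L.card_zpowers_eq]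
    rw [hqdef, Subgroup.relIndex, hCx]
  have hsol : Group.IsSolvable N := by
    haveI : IsMulCommutative (C.subgroupOf N) := by
      refine ⟨⟨fun a b => Subtype.ext (Subtype.ext ?_)⟩⟩
      have ha : ((a : N) : G) ∈ zpowers x := hCx ▸ a.2
      have hb : ((b : N) : G) ∈ zpowers x := hCx ▸ b.2
      obtain ⟨i, hi⟩ := mem_zpowers_iff.mp ha
      obtain ⟨j, hj⟩ := mem_zpowers_iff.mp hb
      show ((a : N) : G) * ((b : N) : G) = ((b : N) : G) * ((a : N) : G)
      rw [← hi, ← hj, ← zpow_add, ← zpow_add, add_comm]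
    haveI : Group.IsSolvable (C.subgroupOf N) := Group.isSolvable_of_comm mul_comm'
    refine solvable_of_ker_le_range (C.subgroupOf N).subtype (CfsgLib.Blocks.PrimeSylow.rhoU P hP) ?_
    intro g hg
    rw [MonoidHom.mem_ker, Units.ext_iff, CfsgLib.Blocks.PrimeSylow.coe_rhoU, Units.val_one,
      CfsgLib.Blocks.PrimeSylow.rho_eq_one_iff] at hg
    rw [Subgroup.range_subtype]
    exact hg
  have hGN : Nat.card (Sylow p G) * (p * q) = Nat.card G := by
    rw [← hNc]; exact card_sylow_mul_card_normalizer P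
  have hq0 : q ≠ 0 := fun h => by
    rw [h, mul_zero, mul_zero] at hGN; exact Nat.card_pos.ne hGN
  have hnorm : ∀ M : Subgroup G, M.Normal → (P : Subgroup G) ≤ M → M = ⊤ := fun M hM hPM => by
    haveI := hM
    haveI := hsol
    refine eq_top_of_solvable_sup L.perfect M N ?_
    exact Sylow.normalizer_sup_eq_top' P hPM
  have hPbot : (P : Subgroup G) ≠ ⊥ := fun e => hp.ne_one (by rw [← hP, e, card_bot])
  have hq1 : q ≠ 1 := by
    intro h
    obtain ⟨M, hM, hcop, k, hk⟩ := CfsgLib.Transfer.hasNormalPComplement_iff.mp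
      (CfsgLib.Transfer.hasNormalPComplement_of_normalizer_le_centralizer P (relIndex_eq_one.mp h))
    haveI := hM
    haveI : Group.IsNilpotent (G ⧸ M) :=
      (IsPGroup.of_card (n := k) (show Nat.card (G ⧸ M) = p ^ k from hk)).isNilpotent
    have hM' : M = ⊤ := by
      by_contra hM'
      haveI : Nontrivial (G ⧸ M) := QuotientGroup.nontrivial_iff.mpr hM'
      refine (Group.IsSolvable.commutator_lt_top_of_nontrivial (G ⧸ M)).ne ?_
      rw [_root_.commutator_def, ← Subgroup.map_top_of_surjective _ (QuotientGroup.mk'_surjective M),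
        ← Subgroup.map_commutator, ← _root_.commutator_def, L.perfect]
    rw [hM', card_top] at hcop
    refine hp.ne_one (Nat.Coprime.eq_one_of_dvd hcop.symm ?_)
    rw [← hP]; exact card_subgroup_dvd_card _
  have hn1 : Nat.card (Sylow p G) ≠ 1 := by
    intro h
    have hN : N = ⊤ := by
      rw [← Subgroup.index_eq_one, hNdef, ← card_sylow_eq_index P, h]
    haveI := hsol
    have hbot := eq_top_of_solvable_sup L.perfect (⊥ : Subgroup G) N (by rw [hN, top_sup_eq])
    exact hPbot (le_bot_iff.mp (le_trans le_top hbot.ge))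
  have hmod : Nat.card (Sylow p G) % p = 1 := mod_eq_one_card_sylow
  have hS : Nat.card (Sylow p G) = Nat.card (Sylow p G) / p * p + 1 := by
    conv_lhs => rw [← Nat.div_add_mod (Nat.card (Sylow p G)) p, hmod, mul_comm]
  have hn0 : 0 < Nat.card (Sylow p G) / p := by
    rcases Nat.eq_zero_or_pos (Nat.card (Sylow p G) / p) with h | h
    · rw [h, zero_mul, zero_add] at hS; exact absurd hS hn1
    · exact h
  have ht' : p = q * t + 1 := by have := hp.two_le; omega
  have ht0 : 0 < t := by
    rcases Nat.eq_zero_or_pos t with h | h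
    · rw [h, mul_zero, zero_add] at ht'; exact absurd ht' hp.ne_one
    · exact h
  exact ⟨q, t, _, by omega, ht0, hn0, ht', hS, hNc, by rw [← hS, ← hGN]; ring, rfl, hsol⟩

/-- The number of elements of order `p`. -/
theorem Loc.card_order_p (L : Loc G p x) :
    Nat.card {g : G // orderOf g = p} = Nat.card (Sylow p G) * (p - 1) := by
  classical
  haveI := Fintype.ofFinite G
  cases nonempty_fintype (Sylow p G)
  obtain ⟨P, hPx, hP⟩ := L.exists_sylow
  have hQ : ∀ Q : Sylow p G, Nat.card (Q : Subgroup G) = p := fun Q => by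
    rw [Nat.card_congr (Q.equiv P).toEquiv, hP]
  have hz : ∀ g : {g : G // orderOf g = p}, ∃ Q : Sylow p G, (Q : Subgroup G) = zpowers g.1 := fun g => by
    have h1 : IsPGroup p (zpowers g.1) := IsPGroup.of_card (n := 1) (by rw [Nat.card_zpowers, g.2, pow_one])
    obtain ⟨Q, hQg⟩ := h1.exists_le_sylow
    exact ⟨Q, (eq_of_le_of_card_ge hQg (by rw [hQ, Nat.card_zpowers, g.2])).symm⟩
  choose F hF using hz
  have hfib : ∀ Q : Sylow p G, Nat.card {g : {g : G // orderOf g = p} // F g = Q} = p - 1 := by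
    intro Q
    haveI := Fintype.ofFinite (Q : Subgroup G)
    have h1 : Nat.card {u : (Q : Subgroup G) // u ≠ 1} = p - 1 := by
      rw [Nat.card_eq_fintype_card, Fintype.card_subtype_compl, Fintype.card_subtype_eq,
        ← Nat.card_eq_fintype_card, hQ]
    rw [← h1]
    refine Nat.card_congr
      { toFun := fun g => ⟨⟨g.1.1, (congrArg (fun S : Sylow p G => (S : Subgroup G)) g.2).le
            ((hF g.1).ge (mem_zpowers g.1.1))⟩, fun h => (Fact.out : p.Prime).ne_one ?_⟩
        invFun := fun u => ⟨⟨u.1.1, ?_⟩, ?_⟩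
        left_inv := fun _ => rfl
        right_inv := fun _ => rfl }
    · rw [← g.1.2, show g.1.1 = 1 from congrArg Subtype.val h, orderOf_one]
    · exact ((Nat.dvd_prime Fact.out).mp ((orderOf_dvd_natCard _ u.1.2).trans (hQ Q).dvd)).resolve_left
        fun h => u.2 (Subtype.ext (orderOf_eq_one_iff.mp h))
    · refine Sylow.ext ?_
      rw [hF]
      refine eq_of_le_of_card_ge (zpowers_le.mpr u.1.2) ?_
      have := ((Nat.dvd_prime Fact.out).mp ((orderOf_dvd_natCard _ u.1.2).trans (hQ Q).dvd)).resolve_left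
        fun h => u.2 (Subtype.ext (orderOf_eq_one_iff.mp h))
      rw [Nat.card_zpowers]
      exact ((hQ Q).trans this.symm).le
  rw [← Nat.card_congr (Equiv.sigmaFiberEquiv F), Nat.card_sigma, Finset.sum_congr rfl fun Q _ => hfib Q,
    Finset.sum_const, Finset.card_univ, smul_eq_mul, Nat.card_eq_fintype_card]

/-- A perfect group with few Sylow `p`-subgroups and a self-centralising element of order `p` is simple. -/
theorem Loc.isSimpleGroup (L : Loc G p x) (hn : 2 * Nat.card (Sylow p G) < (p + 1) * (p + 2)) :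
    IsSimpleGroup G := by
  have hp : p.Prime := Fact.out
  obtain ⟨P, hPx, hP⟩ := L.exists_sylow
  obtain ⟨q, t, n, hq, ht, hn0, hpq, hS, hN, hG, -, hsol⟩ := L.exists_numbers P hPx
  haveI := hsol
  have hnb : 2 * n ≤ p + 1 := by
    rw [hS] at hn
    have hodd : p % 2 = 1 := Nat.odd_iff.mp (hp.odd_of_ne_two (by
      intro h; have h1 : 2 * 1 ≤ q * t := Nat.mul_le_mul hq ht; omega))
    have : 2 * n < p + 3 := by
      by_contra hcon
      push Not at hcon
      have := Nat.mul_le_mul_right p hcon
      nlinarith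
    omega
  haveI : Nontrivial G := ⟨⟨x, 1, L.ne_one⟩⟩
  refine ⟨fun M hM => ?_⟩
  haveI := hM
  by_cases hpM : p ∣ Nat.card M
  · right
    obtain ⟨⟨y, hy⟩, hyo⟩ := exists_prime_orderOf_dvd_card' (G := M) p hpM
    rw [Subgroup.orderOf_mk] at hyo
    obtain ⟨Q, hQ⟩ := (IsPGroup.of_card (n := 1)
      (show Nat.card (zpowers y) = p ^ 1 by rw [Nat.card_zpowers, hyo, pow_one])).exists_le_sylow
    have hQM : (Q : Subgroup G) ≤ M := by
      rw [← eq_of_le_of_card_ge hQ (by rw [Nat.card_congr (Q.equiv P).toEquiv, hP, Nat.card_zpowers, hyo])]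
      exact zpowers_le.mpr hy
    obtain ⟨g, hg⟩ := MulAction.exists_smul_eq G Q P
    have hPM : (P : Subgroup G) ≤ M := by
      rw [← hg, Sylow.coe_subgroup_smul]
      rintro _ ⟨w, hw, rfl⟩
      exact hM.conj_mem _ (hQM hw) g
    exact eq_top_of_solvable_sup L.perfect M _ (Sylow.normalizer_sup_eq_top' P hPM)
  · by_contra hcon
    push Not at hcon
    obtain ⟨hbot, htop⟩ := hcon
    set m := Nat.card M with hm
    have hmd : m ∣ q * (n * p + 1) := by
      refine (Nat.Coprime.dvd_mul_left ?_).mp (hG ▸ card_subgroup_dvd_card M : m ∣ p * (q * (n * p + 1)))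
      exact (hp.coprime_iff_not_dvd.mpr hpM).symm
    -- `P` fixes only the identity of `M`
    let act : MulAction (zpowers x) M :=
      { smul := fun u v => ⟨(u : G) * v * (u : G)⁻¹, hM.conj_mem _ v.2 u⟩
        one_smul := fun v => Subtype.ext (show (1 : G) * v * (1 : G)⁻¹ = v by group)
        mul_smul := fun a b v => Subtype.ext
          (show (a : G) * b * v * ((a : G) * b)⁻¹ = (a : G) * ((b : G) * v * (b : G)⁻¹) * (a : G)⁻¹ by group) }
    letI := act
    have hfix : MulAction.fixedPoints (zpowers x) M = {1} := by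
      ext v
      rw [MulAction.mem_fixedPoints, Set.mem_singleton_iff]
      constructor
      · intro h
        have h1 : x * v * x⁻¹ = (v : G) := congrArg Subtype.val (h ⟨x, mem_zpowers x⟩)
        have h2 : (v : G) ∈ zpowers x := by
          rw [← L.cent, mem_centralizer_singleton_iff]; exact (mul_inv_eq_iff_eq_mul.mp h1).symm
        apply Subtype.ext
        by_contra h3
        exact hpM (L.orderOf_of_mem h2 h3 ▸ orderOf_dvd_natCard _ v.2)
      · rintro rfl u
        exact Subtype.ext (show (u : G) * 1 * (u : G)⁻¹ = 1 by group)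
    have hmod := (IsPGroup.of_card (n := 1) (by rw [L.card_zpowers_eq, pow_one]) :
      IsPGroup p (zpowers x)).card_modEq_card_fixedPoints M
    rw [hfix, Nat.card_coe_set_eq, Set.ncard_singleton, ← hm] at hmod
    obtain ⟨w, hw⟩ := hmd
    have hm2 : 2 ≤ m := by
      have h0 : 0 < m := Nat.card_pos
      have h1 : m ≠ 1 := fun h => hbot (eq_bot_of_card_eq _ h)
      omega
    have hw0 : 0 < w := Nat.pos_of_ne_zero fun h => by
      rw [h, mul_zero] at hw
      have : 0 < q * (n * p + 1) := Nat.mul_pos (by omega) (Nat.succ_pos _)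
      omega
    have hdiv : (p : ℤ) ∣ (m : ℤ) - 1 := (Int.natCast_modEq_iff.mpr hmod).symm.dvd
    have hmeq : m = n * p + 1 := by
      have := divisor_plus (p := (p : ℤ)) (q := (q : ℤ)) (t := (t : ℤ)) (n := (n : ℤ)) (d := (m : ℤ))
        (w := (w : ℤ)) (by exact_mod_cast (by omega : 0 < q)) (by exact_mod_cast ht) (by exact_mod_cast hpq)
        (by exact_mod_cast hnb) (by exact_mod_cast hw.symm) hdiv (by exact_mod_cast hm2) (by exact_mod_cast hw0)
      exact_mod_cast this
    set N := normalizer ((P : Subgroup G) : Set G) with hNdef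
    have hMN : M ⊓ N = ⊥ := by
      rw [eq_bot_iff]
      rintro v ⟨hvM, hvN⟩
      have h1 : v * x * v⁻¹ * x⁻¹ ∈ M := by
        rw [show v * x * v⁻¹ * x⁻¹ = v * (x * v⁻¹ * x⁻¹) by group]
        exact mul_mem hvM (hM.conj_mem _ (inv_mem hvM) x)
      have h2 : v * x * v⁻¹ * x⁻¹ ∈ zpowers x := by
        refine mul_mem ?_ (inv_mem (mem_zpowers x))
        rw [← hPx]
        exact (mem_normalizer_iff.mp hvN x).mp (hPx ▸ mem_zpowers x)
      have h3 : v * x * v⁻¹ * x⁻¹ = 1 := by
        by_contra h4
        exact hpM ((L.orderOf_of_mem h2 h4).symm.dvd.trans (orderOf_dvd_natCard _ h1))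
      have h4 : v ∈ zpowers x := by
        rw [← L.cent, mem_centralizer_singleton_iff]
        exact mul_inv_eq_iff_eq_mul.mp (mul_inv_eq_one.mp h3)
      rw [Subgroup.mem_bot]
      by_contra h5
      exact hpM ((L.orderOf_of_mem h4 h5).symm.dvd.trans (orderOf_dvd_natCard _ hvM))
    refine htop (eq_top_of_solvable_sup L.perfect M N (eq_top_of_card_eq _ ?_))
    refine le_antisymm (card_le_card_group _) ?_
    have hset : Nat.card ((M : Set G) * (N : Set G) : Set G) = m * Nat.card N := by
      have h1 : Function.Injective (fun z : M × N => (z.1 : G) * z.2) := by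
        rintro ⟨a, b⟩ ⟨a', b'⟩ h
        have h' : (a : G) * b = (a' : G) * b' := h
        have h2 : ((a' : G))⁻¹ * a = (b' : G) * (b : G)⁻¹ := by
          rw [eq_mul_inv_iff_mul_eq, mul_assoc, h', inv_mul_cancel_left]
        have h3 : ((a' : G))⁻¹ * a ∈ M ⊓ N :=
          ⟨M.mul_mem (M.inv_mem a'.2) a.2, h2 ▸ N.mul_mem b'.2 (N.inv_mem b.2)⟩
        rw [hMN, Subgroup.mem_bot, inv_mul_eq_one] at h3
        have h4 : a' = a := Subtype.ext h3
        subst h4
        exact Prod.ext rfl (Subtype.ext (mul_left_cancel h'))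
      rw [hm, ← Nat.card_prod, ← Nat.card_range_of_injective h1]
      congr 2
      ext g
      constructor
      · rintro ⟨a, ha, b, hb, rfl⟩; exact ⟨(⟨a, ha⟩, ⟨b, hb⟩), rfl⟩
      · rintro ⟨⟨a, b⟩, rfl⟩; exact ⟨a, a.2, b, b.2, rfl⟩
    calc Nat.card G = m * Nat.card N := by rw [hG, hN, hmeq]; ring
      _ = Nat.card ((M : Set G) * (N : Set G) : Set G) := hset.symm
      _ ≤ _ := by
        refine Nat.card_mono (Set.toFinite _) ?_
        rintro _ ⟨a, ha, b, hb, rfl⟩
        exact mul_mem (mem_sup_right ha) (mem_sup_left hb)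

end CfsgLib.SmallGroups.BrauerFew
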