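import Cfsg.Agent.Lib.Blocks.CyclicPrincipal
import Cfsg.Agent.Lib.Invol.ZStarBasic
import Cfsg.Agent.Lib.InvolChar.Basic
import Cfsg.Agent.Lib.SmallGroups.BrauerFew.Local
import Mathlib

/-!
The characters not vanishing on a self-centralising subgroup of order `p` of a perfect group with
fewer than `(p + 1) (p + 2) / 2` Sylow `p`-subgroups: their degrees are `n p + 1`, `p - 1` and one
exceptional degree, which is `q` or `(n p + 1) / t`.
-/

set_option autoImplicit false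

namespace CfsgLib.SmallGroups.BrauerFew

open Subgroup CfsgLib.InvolChar CfsgLib.Blocks CfsgLib.Blocks.PrimeSylow
open scoped ComplexConjugate

/-- The characters not vanishing at `x`: `A` of degree `n p + 1`, `B` of degree `p - 1`, `T`
exceptional of degree `f`; `O` are the others. -/
structure BData (G : Type*) [Group G] [Finite G] (p q t n f : ℕ) (τ : ℤ) (x : G) where
  A : Finset (Cfsg.IrrCharacter G)
  B : Finset (Cfsg.IrrCharacter G)
  T : Finset (Cfsg.IrrCharacter G)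
  O : Finset (Cfsg.IrrCharacter G)
  card_AB : A.card + B.card + 1 = q
  card_T : T.card = t
  split : ∀ [Fintype (Cfsg.IrrCharacter G)] (F : Cfsg.IrrCharacter G → ℂ),
    ∑ χ, F χ = F CfsgLib.Char.irrOne + ∑ χ ∈ A, F χ + ∑ χ ∈ B, F χ + ∑ χ ∈ T, F χ + ∑ χ ∈ O, F χ
  deg_A : ∀ χ ∈ A, deg χ = n * p + 1
  val_A : ∀ χ ∈ A, ∀ u ∈ zpowers x, u ≠ 1 → (χ : G → ℂ) u = 1
  deg_B : ∀ χ ∈ B, deg χ = p - 1
  val_B : ∀ χ ∈ B, ∀ u ∈ zpowers x, u ≠ 1 → (χ : G → ℂ) u = -1
  deg_T : ∀ χ ∈ T, deg χ = f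
  eq_T : ∀ χ ∈ T, ∀ χ' ∈ T, ∀ g : G, ¬ p ∣ orderOf g → (χ : G → ℂ) g = (χ' : G → ℂ) g
  sum_T : ∀ u ∈ zpowers x, u ≠ 1 → ∑ χ ∈ T, (χ : G → ℂ) u = (τ : ℂ)
  deg_O : ∀ χ ∈ O, p ∣ deg χ
  val_O : ∀ χ ∈ O, ∀ u ∈ zpowers x, u ≠ 1 → (χ : G → ℂ) u = 0

/-- A divisor of `(p - 1) (n p + 1)` congruent to `1`, when no `u p + 1` with `0 < u < n` is one. -/
theorem dvd_plus_cases {p n d : ℕ} (hp : 2 ≤ p)
    (hno : ∀ u, 0 < u → u < n → ¬ (u * p + 1) ∣ (p - 1) * (n * p + 1))
    (hd : d ∣ (p - 1) * (n * p + 1)) (hmod : (p : ℤ) ∣ (d : ℤ) - 1) : d = 1 ∨ d = n * p + 1 := by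
  have hpos : 0 < (p - 1) * (n * p + 1) := Nat.mul_pos (by omega) (Nat.succ_pos _)
  have hd0 : 0 < d := Nat.pos_of_dvd_of_pos hd hpos
  obtain ⟨u, hu⟩ : p ∣ d - 1 := by
    rw [← Int.natCast_dvd_natCast, Nat.cast_sub hd0]; simpa using hmod
  rw [mul_comm] at hu
  have hdu : d = u * p + 1 := by omega
  rcases Nat.eq_zero_or_pos u with rfl | hu0
  · exact Or.inl (by rw [hdu, zero_mul])
  rcases lt_trichotomy u n with h | h | h
  · exact absurd (hdu ▸ hd) (hno u hu0 h)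
  · exact Or.inr (h ▸ hdu)
  exfalso
  obtain ⟨w, hw⟩ := hd
  have hw1 : (p : ℤ) ∣ (w : ℤ) + 1 := by
    have e : ((p - 1 : ℕ) : ℤ) * (n * p + 1) = ((u : ℤ) * p + 1) * w := by rw [hdu] at hw; exact_mod_cast hw
    rw [Nat.cast_sub (by omega : 1 ≤ p), Nat.cast_one] at e
    exact ⟨((p : ℤ) - 1) * n + 1 - u * w, by linear_combination -e⟩
  have hw2 : p ≤ w + 1 := Nat.le_of_dvd (Nat.succ_pos w) (by exact_mod_cast hw1)
  have h1 : u * p + 1 ≤ n * p + 1 := by
    refine Nat.le_of_mul_le_mul_left ?_ (show 0 < p - 1 by omega)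
    rw [hw, hdu, mul_comm (u * p + 1) w]
    exact Nat.mul_le_mul_right _ (by omega)
  have := Nat.mul_le_mul_right p (show n + 1 ≤ u from h)
  rw [add_mul, one_mul] at this
  omega

/-- The divisors congruent to `-1`. -/
theorem dvd_minus_cases {p n d : ℕ} (hp : 2 ≤ p)
    (hno : ∀ u, 0 < u → u < n → ¬ (u * p + 1) ∣ (p - 1) * (n * p + 1))
    (hd : d ∣ (p - 1) * (n * p + 1)) (hmod : (p : ℤ) ∣ (d : ℤ) + 1) :
    d = p - 1 ∨ d = (p - 1) * (n * p + 1) := by
  obtain ⟨w, hw⟩ := hd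
  have hw1 : (p : ℤ) ∣ (w : ℤ) - 1 := by
    obtain ⟨k, hk⟩ := hmod
    have e : ((p - 1 : ℕ) : ℤ) * (n * p + 1) = (d : ℤ) * w := by exact_mod_cast hw
    rw [Nat.cast_sub (by omega : 1 ≤ p), Nat.cast_one] at e
    exact ⟨k * w - ((p : ℤ) - 1) * n - 1, by linear_combination e + (w : ℤ) * hk⟩
  rcases dvd_plus_cases hp hno ⟨d, by rw [hw, mul_comm]⟩ hw1 with rfl | rfl
  · exact Or.inr (by rw [hw, mul_one])
  · exact Or.inl (Nat.eq_of_mul_eq_mul_right (Nat.succ_pos _) hw).symm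

variable {G : Type*} [Group G] [Fintype G] {p : ℕ} [Fact p.Prime] {x : G}

theorem deg_eq_charDegree (χ : Cfsg.IrrCharacter G) : Cfsg.charDegree (χ : G → ℂ) = deg χ := by
  have h := CfsgLib.Blocks.charDegree_eq (CfsgLib.Char.isCharacter_of_isIrr χ.2)
  rw [deg_spec χ] at h
  exact_mod_cast h.symm

theorem one_lt_deg (hperf : commutator G = ⊤) {χ : Cfsg.IrrCharacter G} (hne : χ ≠ CfsgLib.Char.irrOne) :
    2 ≤ deg χ := by
  by_contra hlt
  have h1 : deg χ = 1 := by have : 0 < deg χ := deg_pos χ; omega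
  apply hne
  apply Subtype.ext
  funext g
  have hd : (χ : G → ℂ) 1 = 1 := by rw [deg_spec χ, h1, Nat.cast_one]
  rw [CfsgLib.Char.irrOne_apply, ← CfsgLib.Char.linearHom_apply (CfsgLib.Char.isCharacter_of_isIrr χ.2) hd g,
    linear_trivial_of_perfect hperf (CfsgLib.Char.linearHom (CfsgLib.Char.isCharacter_of_isIrr χ.2) hd)]
  rfl

theorem sum_deg_sq_nat : ∑ χ : Cfsg.IrrCharacter G, deg χ ^ 2 = Nat.card G := by
  have h := CfsgLib.Char.sum_degree_sq (G := G)
  simp only [fun χ : Cfsg.IrrCharacter G => deg_spec χ] at h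
  exact_mod_cast h

theorem sum_deg_sq_le {S : Finset (Cfsg.IrrCharacter G)} (hS : CfsgLib.Char.irrOne ∉ S) :
    1 + ∑ χ ∈ S, deg χ ^ 2 ≤ Nat.card G := by
  classical
  rw [← sum_deg_sq_nat (G := G), ← Finset.add_sum_erase _ _ (Finset.mem_univ (CfsgLib.Char.irrOne)), deg_irrOne,
    one_pow]
  refine Nat.add_le_add_left (Finset.sum_le_sum_of_subset fun χ hχ => ?_) 1
  exact Finset.mem_erase.mpr ⟨fun e => hS (e ▸ hχ), Finset.mem_univ _⟩

set_option maxHeartbeats 1600000 in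
theorem exists_bdata_of_no_divisor (L : Loc G p x) (P : Sylow p G) (hPx : (P : Subgroup G) = zpowers x)
    {q t n : ℕ} (hq : 2 ≤ q) (ht : 0 < t) (hpq : p = q * t + 1) (hn : 0 < n)
    (hno : ∀ u, 0 < u → u < n → ¬ (u * p + 1) ∣ (p - 1) * (n * p + 1))
    (hG : Nat.card G = p * (q * (n * p + 1)))
    (hrel : (centralizer ((P : Subgroup G) : Set G)).relIndex (normalizer ((P : Subgroup G) : Set G)) = q) :
    ∃ (f : ℕ) (τ : ℤ), Nonempty (BData G p q t n f τ x) ∧
      ((τ = -1 ∧ f = q ∧ 2 ≤ t) ∨ (τ = 1 ∧ t * f = n * p + 1)) := by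
  classical
  have hp : p.Prime := Fact.out
  have hp3 : 3 ≤ p := by have := Nat.le_mul_of_pos_right q ht; omega
  have hqt : q * t = p - 1 := by omega
  have hup : ∀ {d : ℕ}, d ∣ q * (n * p + 1) → d ∣ (p - 1) * (n * p + 1) := fun h =>
    h.trans (mul_dvd_mul_right ⟨t, hqt.symm⟩ _)
  have hP : Nat.card (P : Subgroup G) = p := by rw [hPx, L.card_zpowers_eq]
  obtain ⟨M, hM⟩ := CfsgLib.Invol.exists_isPModular p hp
  haveI := hM.2.1
  obtain ⟨X, Y, hB, hXY, hXc, hYc, -, εX, ε, hX, hε, hYdeg, hYeq, hYrel⟩ :=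
    principal_block_prime_sylow P hM hP q hrel
  rw [show (p - 1) / q = t by rw [hpq, Nat.add_sub_cancel, Nat.mul_div_cancel_left _ (by omega)]] at hYc
  set one : Cfsg.IrrCharacter G := CfsgLib.Char.irrOne with hone
  have hone_deg : deg one = 1 := deg_irrOne
  have hone_val : ∀ g : G, (one : G → ℂ) g = 1 := fun g => by rw [hone, CfsgLib.Char.irrOne_apply]
  let Xf : Finset (Cfsg.IrrCharacter G) := Finset.univ.filter (· ∈ X)
  let Yf : Finset (Cfsg.IrrCharacter G) := Finset.univ.filter (· ∈ Y)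
  have hXf : ∀ χ, χ ∈ Xf ↔ χ ∈ X := fun χ => by simp [Xf]
  have hYf : ∀ χ, χ ∈ Yf ↔ χ ∈ Y := fun χ => by simp [Yf]
  have hXcard : Xf.card = q := by
    rw [← hXc, Nat.card_eq_fintype_card, Fintype.card_subtype]
  have hYcard : Yf.card = t := by
    rw [← hYc, Nat.card_eq_fintype_card, Fintype.card_subtype]
  have hblock : ∀ χ, χ ∈ Cfsg.principalBlock M G ↔ χ ∈ Xf ∪ Yf := fun χ => by
    rw [hB, Finset.mem_union, hXf, hYf, Set.mem_union]
  have hdisj : Disjoint Xf Yf := Finset.disjoint_left.mpr fun χ h h' =>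
    Set.disjoint_left.mp hXY ((hXf χ).mp h) ((hYf χ).mp h')
  have hsumBlock : ∀ F : Cfsg.IrrCharacter G → ℂ,
      (∑ χ, if χ ∈ Cfsg.principalBlock M G then F χ else 0) = ∑ χ ∈ Xf, F χ + ∑ χ ∈ Yf, F χ := fun F => by
    rw [← Finset.sum_union hdisj, ← Finset.sum_filter]
    exact Finset.sum_congr (by ext χ; simp [hblock]) fun _ _ => rfl
  -- the nontrivial elements of `P`
  have hmem : ∀ u ∈ zpowers x, u ≠ 1 → ∃ i : ZMod p, i ≠ 0 ∧ pw P hP i = u := fun u hu h1 => by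
    obtain ⟨i, hi⟩ := pw_surjOn P hP (hPx ▸ hu : u ∈ (P : Subgroup G))
    exact ⟨i, fun h => h1 (by rw [← hi, h, pw_zero]), hi⟩
  have hpwne : ∀ i : ZMod p, i ≠ 0 → pw P hP i ∈ zpowers x ∧ pw P hP i ≠ 1 := fun i hi =>
    ⟨hPx ▸ pw_mem P hP i, fun h => hi ((pw_eq_one_iff P hP).mp h)⟩
  have hXval : ∀ χ ∈ Xf, ∀ u ∈ zpowers x, u ≠ 1 → (χ : G → ℂ) u = (εX χ : ℂ) := by
    intro χ hχ u hu h1
    have := (hX χ ((hXf χ).mp hχ)).2.2 u (hPx ▸ hu) h1 1 (one_mem _) (by rw [orderOf_one]; exact hp.not_dvd_one)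
    rwa [mul_one] at this
  -- the characters outside the block vanish on `P`
  have hzero : ∀ χ, χ ∉ Xf → χ ∉ Yf → ∀ u ∈ zpowers x, u ≠ 1 → (χ : G → ℂ) u = 0 := by
    intro χ hχX hχY u hu h1
    obtain ⟨i, hi, rfl⟩ := hmem u hu h1
    have hb := column_inner P hM hP hi hi
    rw [if_pos (IsConj.refl _)] at hb
    have hall := CfsgLib.Char.second_orthogonality (pw P hP i) (pw P hP i)
    rw [if_pos (IsConj.refl _), L.centralizer_of_mem hu h1, L.card_zpowers_eq] at hall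
    have hdiff : ∑ χ : Cfsg.IrrCharacter G, (if χ ∈ Cfsg.principalBlock M G then 0 else
        Complex.normSq ((χ : G → ℂ) (pw P hP i)) : ℝ) = 0 := by
      have h2 : (∑ χ : Cfsg.IrrCharacter G, ((if χ ∈ Cfsg.principalBlock M G then 0 else
          Complex.normSq ((χ : G → ℂ) (pw P hP i)) : ℝ) : ℂ)) = 0 := by
        calc _ = ∑ χ : Cfsg.IrrCharacter G, ((χ : G → ℂ) (pw P hP i) * conj ((χ : G → ℂ) (pw P hP i)) -
              if χ ∈ Cfsg.principalBlock M G then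
                (χ : G → ℂ) (pw P hP i) * conj ((χ : G → ℂ) (pw P hP i)) else 0) :=
              Finset.sum_congr rfl fun χ _ => by split_ifs <;> simp [Complex.mul_conj]
          _ = 0 := by rw [Finset.sum_sub_distrib, hall, hb, sub_self]
      exact_mod_cast h2
    have h3 := (Finset.sum_eq_zero_iff_of_nonneg fun χ _ => by
      split_ifs
      · exact le_rfl
      · exact Complex.normSq_nonneg _).mp hdiff χ (Finset.mem_univ χ)
    rw [if_neg (by rw [hblock, Finset.mem_union]; tauto)] at h3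
    exact Complex.normSq_eq_zero.mp h3
  have hdivp : ∀ χ, χ ∉ Xf → χ ∉ Yf → p ∣ deg χ := by
    intro χ hχX hχY
    obtain ⟨a, ha⟩ := exists_fourier P hP χ
    have h := ha 0
    haveI : NeZero p := ⟨hp.ne_zero⟩
    rw [Finset.sum_eq_single (0 : ZMod p)] at h
    · rw [mul_zero, neg_zero, AddChar.map_zero_eq_one, one_mul, pw_zero, deg_spec χ] at h
      have h' : (p : ℤ) * a 0 = (deg χ : ℤ) := by exact_mod_cast h
      exact Int.natCast_dvd_natCast.mp ⟨a 0, h'.symm⟩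
    · intro i _ hi
      rw [hzero χ hχX hχY _ (hpwne i hi).1 (hpwne i hi).2, mul_zero]
    · simp
  -- the column at an element of `P` against the column at 1
  have hcol : ∀ u ∈ zpowers x, u ≠ 1 →
      ∑ χ ∈ Xf, (εX χ : ℂ) * (deg χ : ℂ) + ∑ χ ∈ Yf, (χ : G → ℂ) u * (deg χ : ℂ) = 0 := by
    intro u hu h1
    obtain ⟨i, hi, rfl⟩ := hmem u hu h1
    have h := column_regular P hM hP hi (g := 1) (by rw [orderOf_one]; exact hp.not_dvd_one)
    rw [hsumBlock] at h
    simp only [fun χ : Cfsg.IrrCharacter G => deg_spec χ] at h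
    rw [← h]
    congr 1
    exact Finset.sum_congr rfl fun χ hχ => by rw [hXval χ hχ _ hu h1]
  obtain ⟨θ₀, hθ₀⟩ := Finset.card_pos.mp (hYcard ▸ ht : 0 < Yf.card)
  set f₀ := deg θ₀ with hf₀
  have hYd : ∀ θ ∈ Yf, deg θ = f₀ := by
    intro θ hθ
    have h := hYeq θ ((hYf θ).mp hθ) θ₀ ((hYf θ₀).mp hθ₀) 1 (by rw [orderOf_one]; exact hp.not_dvd_one)
    rw [deg_spec θ, deg_spec θ₀] at h
    exact_mod_cast h
  have hrel1 : ∑ χ ∈ Xf, (εX χ : ℂ) * (deg χ : ℂ) = (ε : ℂ) * (f₀ : ℂ) := by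
    have h := hYrel θ₀ ((hYf θ₀).mp hθ₀) 1 (by rw [orderOf_one]; exact hp.not_dvd_one)
    rw [finsum_mem_eq_sum_of_inter_support_eq (t := Xf) _ (by ext χ; simp [Xf])] at h
    simp only [fun χ : Cfsg.IrrCharacter G => deg_spec χ] at h
    exact h.symm
  have hsumY : ∀ u ∈ zpowers x, u ≠ 1 → ∑ θ ∈ Yf, (θ : G → ℂ) u = -(ε : ℂ) := by
    intro u hu h1
    have h := hcol u hu h1
    rw [hrel1, Finset.sum_congr rfl fun θ hθ => by rw [hYd θ hθ], ← Finset.sum_mul] at h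
    have hf : (f₀ : ℂ) ≠ 0 := by exact_mod_cast (deg_pos θ₀).ne'
    have h' : (∑ θ ∈ Yf, (θ : G → ℂ) u + (ε : ℂ)) * (f₀ : ℂ) = 0 := by linear_combination h
    linear_combination (mul_eq_zero.mp h').resolve_right hf
  have hYmod : (p : ℤ) ∣ (f₀ : ℤ) - ε * q := by
    have h := hYdeg θ₀ ((hYf θ₀).mp hθ₀)
    rw [deg_eq_charDegree] at h
    exact Int.ModEq.dvd h.symm
  have hXmod : ∀ χ ∈ Xf, (εX χ = 1 ∨ εX χ = -1) ∧ (p : ℤ) ∣ (deg χ : ℤ) - εX χ := fun χ hχ => by
    obtain ⟨h1, h2, -⟩ := hX χ ((hXf χ).mp hχ)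
    rw [deg_eq_charDegree] at h2
    exact ⟨h1, Int.ModEq.dvd h2.symm⟩
  -- classification of a character with value `σ = ± 1` on `P`
  have classify : ∀ (χ : Cfsg.IrrCharacter G) (σ : ℤ), χ ≠ one → (σ = 1 ∨ σ = -1) →
      (p : ℤ) ∣ (deg χ : ℤ) - σ → (σ = 1 ∧ deg χ = n * p + 1) ∨ (σ = -1 ∧ deg χ = p - 1) := by
    intro χ σ hne hσ hmod
    have hd2 := one_lt_deg L.perfect hne
    have hndvd : ¬ p ∣ deg χ := fun h' => by
      have h1 : (p : ℤ) ∣ σ := by
        have := dvd_sub (Int.natCast_dvd_natCast.mpr h') hmod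
        simpa using this
      rcases hσ with rfl | rfl
      · exact hp.not_dvd_one (by exact_mod_cast h1)
      · exact hp.not_dvd_one (by exact_mod_cast (dvd_neg.mp h1))
    have hdG : deg χ ∣ q * (n * p + 1) :=
      (Nat.Coprime.dvd_mul_left (hp.coprime_iff_not_dvd.mpr hndvd).symm).mp
        (hG ▸ CfsgLib.Char.degree_dvd_card χ.2 (deg_spec χ))
    obtain ⟨w, hw⟩ := hdG
    have hw0 : 0 < w := Nat.pos_of_ne_zero fun h => by
      rw [h, mul_zero] at hw
      have : 0 < q * (n * p + 1) := Nat.mul_pos (by omega) (Nat.succ_pos _)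
      omega
    rcases hσ with rfl | rfl
    · refine Or.inl ⟨rfl, (dvd_plus_cases (by omega) hno (hup ⟨w, hw⟩) hmod).resolve_left (by omega)⟩
    · refine Or.inr ⟨rfl, (dvd_minus_cases (by omega) hno (hup ⟨w, hw⟩) (by simpa using hmod)).resolve_right
        fun hbig => ?_⟩
      have hsize := sum_deg_sq_le (S := {χ}) (by simpa using Ne.symm hne)
      rw [Finset.sum_singleton, hG] at hsize
      have hle : q * (n * p + 1) ≤ deg χ := by
        rw [hbig]; exact Nat.mul_le_mul_right _ (by rw [← hqt]; exact Nat.le_mul_of_pos_right q ht)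
      have h1 : p + 1 ≤ deg χ := by
        rw [hbig]
        refine le_trans ?_ (Nat.le_mul_of_pos_left _ (by omega))
        exact Nat.add_le_add_right (Nat.le_mul_of_pos_left p hn) 1
      have h2 : p * (q * (n * p + 1)) ≤ deg χ ^ 2 := by
        rw [pow_two]; exact Nat.mul_le_mul (by omega) hle
      omega
  -- assembling, given the exceptional set
  have assemble : ∀ (W T : Finset (Cfsg.IrrCharacter G)) (σ : Cfsg.IrrCharacter G → ℤ) (f : ℕ) (τ : ℤ),
      insert one (W ∪ T) = Xf ∪ Yf → one ∉ W ∪ T → Disjoint W T → W.card + 1 = q → T.card = t →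
      (∀ χ ∈ W, (σ χ = 1 ∨ σ χ = -1) ∧ (p : ℤ) ∣ (deg χ : ℤ) - σ χ ∧
        ∀ u ∈ zpowers x, u ≠ 1 → (χ : G → ℂ) u = (σ χ : ℂ)) →
      (∀ χ ∈ T, deg χ = f) →
      (∀ χ ∈ T, ∀ χ' ∈ T, ∀ g : G, ¬ p ∣ orderOf g → (χ : G → ℂ) g = (χ' : G → ℂ) g) →
      (∀ u ∈ zpowers x, u ≠ 1 → ∑ χ ∈ T, (χ : G → ℂ) u = (τ : ℂ)) →
      Nonempty (BData G p q t n f τ x) := by
    intro W T σ f τ hU h1 hWT hWc hTc hW hTf hTe hTs
    have hcl : ∀ χ ∈ W, (σ χ = 1 ∧ deg χ = n * p + 1) ∨ (σ χ = -1 ∧ deg χ = p - 1) := fun χ hχ =>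
      classify χ (σ χ) (fun e => h1 (Finset.mem_union_left _ (e ▸ hχ))) (hW χ hχ).1 (hW χ hχ).2.1
    refine ⟨{
      A := W.filter (fun χ => σ χ = 1)
      B := W.filter (fun χ => ¬ σ χ = 1)
      T := T
      O := Finset.univ.filter (fun χ => χ ∉ Xf ∪ Yf)
      card_AB := by rw [Finset.card_filter_add_card_filter_not]; exact hWc
      card_T := hTc
      split := ?_
      deg_A := fun χ hχ => ?_
      val_A := fun χ hχ u hu hu1 => ?_
      deg_B := fun χ hχ => ?_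
      val_B := fun χ hχ u hu hu1 => ?_
      deg_T := hTf
      eq_T := hTe
      sum_T := hTs
      deg_O := fun χ hχ => ?_
      val_O := fun χ hχ u hu hu1 => ?_ }⟩
    · intro inst F
      rw [Subsingleton.elim inst (inferInstance : Fintype (Cfsg.IrrCharacter G)),
        ← Finset.sum_filter_add_sum_filter_not Finset.univ (fun χ => χ ∈ Xf ∪ Yf),
        show Finset.univ.filter (fun χ => χ ∈ Xf ∪ Yf) = insert one (W ∪ T) by rw [hU]; ext χ; simp,
        Finset.sum_insert h1, Finset.sum_union hWT, ← Finset.sum_filter_add_sum_filter_not W (fun χ => σ χ = 1), ← hone]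
      simp only [← add_assoc]
      congr!
    · obtain ⟨hW', hσ⟩ := Finset.mem_filter.mp hχ
      exact ((hcl χ hW').resolve_right fun h => by omega).2
    · obtain ⟨hW', hσ⟩ := Finset.mem_filter.mp hχ
      rw [(hW χ hW').2.2 u hu hu1, hσ, Int.cast_one]
    · obtain ⟨hW', hσ⟩ := Finset.mem_filter.mp hχ
      exact ((hcl χ hW').resolve_left fun h => hσ h.1).2
    · obtain ⟨hW', hσ⟩ := Finset.mem_filter.mp hχ
      rw [(hW χ hW').2.2 u hu hu1, ((hW χ hW').1.resolve_left hσ), Int.cast_neg, Int.cast_one]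
    · obtain ⟨-, h⟩ := Finset.mem_filter.mp hχ
      rw [Finset.mem_union] at h; push Not at h
      exact hdivp χ h.1 h.2
    · obtain ⟨-, h⟩ := Finset.mem_filter.mp hχ
      rw [Finset.mem_union] at h; push Not at h
      exact hzero χ h.1 h.2 u hu hu1
  have honeB : one ∈ Xf ∪ Yf := (hblock one).mp irrOne_mem_principalBlock
  rcases (show t = 1 ∨ 2 ≤ t by omega) with ht1 | ht2
  · -- all the nontrivial characters of the block take the values `± 1`
    have hY1 : Yf = {θ₀} := by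
      obtain ⟨θ, hθ⟩ := Finset.card_eq_one.mp (hYcard.trans ht1)
      rw [hθ] at hθ₀ ⊢
      rw [Finset.mem_singleton.mp hθ₀]
    let σ : Cfsg.IrrCharacter G → ℤ := fun χ => if χ ∈ Xf then εX χ else -ε
    set W := (Xf ∪ Yf).erase one with hW
    have hσ : ∀ χ ∈ Xf ∪ Yf, (σ χ = 1 ∨ σ χ = -1) ∧ (p : ℤ) ∣ (deg χ : ℤ) - σ χ ∧
        ∀ u ∈ zpowers x, u ≠ 1 → (χ : G → ℂ) u = (σ χ : ℂ) := by
      intro χ hχ
      by_cases hχX : χ ∈ Xf
      · simp only [σ, if_pos hχX]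
        exact ⟨(hXmod χ hχX).1, (hXmod χ hχX).2, hXval χ hχX⟩
      · have hχY : χ ∈ Yf := (Finset.mem_union.mp hχ).resolve_left hχX
        rw [hY1, Finset.mem_singleton] at hχY
        subst hχY
        simp only [σ, if_neg hχX]
        refine ⟨?_, ?_, fun u hu hu1 => ?_⟩
        · rcases hε with rfl | rfl <;> norm_num
        · have : (q : ℤ) = (p : ℤ) - 1 := by rw [hpq, ht1]; push_cast; ring
          obtain ⟨k, hk⟩ := hYmod
          exact ⟨k + ε, by rw [← hf₀]; linear_combination hk + ε * this⟩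
        · have := hsumY u hu hu1
          rw [hY1, Finset.sum_singleton] at this
          rw [this, Int.cast_neg]
    have hWcard : W.card = q := by
      rw [hW, Finset.card_erase_of_mem honeB, Finset.card_union_of_disjoint hdisj, hXcard, hYcard, ht1,
        Nat.add_sub_cancel]
    obtain ⟨χ₀, hχ₀, hσ₀⟩ : ∃ χ ∈ W, σ χ = 1 := by
      by_contra hcon
      push Not at hcon
      have hall : ∀ χ ∈ W, σ χ = -1 ∧ deg χ = p - 1 := fun χ hχ => by
        obtain ⟨hne, hχ'⟩ := Finset.mem_erase.mp hχ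
        rcases classify χ (σ χ) hne (hσ χ hχ').1 (hσ χ hχ').2.1 with h | h
        · exact absurd h.1 (hcon χ hχ)
        · exact h
      have h := hcol x (mem_zpowers x) L.ne_one
      rw [Finset.sum_congr rfl fun χ hχ => by rw [← hXval χ hχ x (mem_zpowers x) L.ne_one],
        ← Finset.sum_union hdisj, ← Finset.add_sum_erase _ _ honeB, hone_val, one_mul, hone_deg, Nat.cast_one,
        Finset.sum_congr rfl fun χ hχ => by
          rw [(hσ χ (Finset.mem_erase.mp hχ).2).2.2 x (mem_zpowers x) L.ne_one, (hall χ hχ).1, (hall χ hχ).2],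
        Finset.sum_const, ← hW, hWcard, nsmul_eq_mul] at h
      have h' : ((1 : ℤ) + (q : ℤ) * (-1 * ((p - 1 : ℕ) : ℤ))) = 0 := by
        apply Int.cast_injective (α := ℂ)
        push_cast at h ⊢
        exact h
      have : 2 * 2 ≤ q * (p - 1) := Nat.mul_le_mul hq (by omega)
      have h2 : (q : ℤ) * ((p - 1 : ℕ) : ℤ) = 1 := by linarith
      have h3 : q * (p - 1) = 1 := by exact_mod_cast h2
      omega
    obtain ⟨hne₀, hχ₀'⟩ := Finset.mem_erase.mp hχ₀
    have hd₀ : deg χ₀ = n * p + 1 :=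
      ((classify χ₀ (σ χ₀) hne₀ (hσ χ₀ hχ₀').1 (hσ χ₀ hχ₀').2.1).resolve_right fun h => by omega).2
    refine ⟨n * p + 1, 1, assemble (W.erase χ₀) {χ₀} σ _ _ ?_ ?_ ?_ ?_ ?_ ?_ ?_ ?_ ?_, Or.inr ⟨rfl, by rw [ht1, one_mul]⟩⟩
    · rw [Finset.union_comm, ← Finset.insert_eq, Finset.insert_erase hχ₀, hW, Finset.insert_erase honeB]
    · rw [Finset.union_comm, ← Finset.insert_eq, Finset.insert_erase hχ₀, hW]
      exact Finset.notMem_erase _ _
    · simp
    · rw [Finset.card_erase_of_mem hχ₀, hWcard]; omega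
    · rw [Finset.card_singleton, ht1]
    · intro χ hχ
      exact hσ χ (Finset.mem_erase.mp (Finset.mem_erase.mp hχ).2).2
    · intro χ hχ; rw [Finset.mem_singleton.mp hχ, hd₀]
    · intro χ hχ χ' hχ' g _; rw [Finset.mem_singleton.mp hχ, Finset.mem_singleton.mp hχ']
    · intro u hu hu1
      rw [Finset.sum_singleton, (hσ χ₀ hχ₀').2.2 u hu hu1, hσ₀]
  -- the trivial character is not exceptional
  have honeX : one ∈ Xf := by
    refine (Finset.mem_union.mp honeB).resolve_right fun hY1 => ?_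
    obtain ⟨θ, hθ, hne⟩ := Finset.exists_mem_ne (by omega : 1 < Yf.card) one
    have h1 := hYd θ hθ
    rw [← hYd one hY1, hone_deg] at h1
    have := one_lt_deg L.perfect hne
    omega
  have hYne : ∀ θ ∈ Yf, θ ≠ one := fun θ hθ e => Finset.disjoint_left.mp hdisj honeX (e ▸ hθ)
  have hf2 : 2 ≤ f₀ := one_lt_deg L.perfect (hYne θ₀ hθ₀)
  have hq_lt : q < p := by have := Nat.le_mul_of_pos_right q ht; omega
  have hndvd : ¬ p ∣ f₀ := fun h' => by
    have h1 : (p : ℤ) ∣ ε * q := by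
      have := dvd_sub (Int.natCast_dvd_natCast.mpr h') hYmod
      simpa using this
    have h2 : (p : ℤ) ∣ (q : ℤ) := by rcases hε with rfl | rfl <;> simpa using h1
    have := Nat.le_of_dvd (by omega) (Int.natCast_dvd_natCast.mp h2)
    omega
  have hdG : f₀ ∣ q * (n * p + 1) :=
    (Nat.Coprime.dvd_mul_left (hp.coprime_iff_not_dvd.mpr hndvd).symm).mp
      (hG ▸ CfsgLib.Char.degree_dvd_card θ₀.2 (deg_spec θ₀))
  obtain ⟨w, hw⟩ := hdG
  have hw0 : 0 < w := Nat.pos_of_ne_zero fun h => by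
    rw [h, mul_zero] at hw
    have : 0 < q * (n * p + 1) := Nat.mul_pos (by omega) (Nat.succ_pos _)
    omega
  have hwmod : (p : ℤ) ∣ (w : ℤ) - ε := by
    obtain ⟨k, hk⟩ := hYmod
    have hwz : (f₀ : ℤ) * w = q * (n * p + 1) := by exact_mod_cast hw.symm
    have h1 : (p : ℤ) ∣ (q : ℤ) * ((w : ℤ) - ε) := by
      rcases hε with rfl | rfl
      · exact ⟨(q : ℤ) * n - (w : ℤ) * k, by linear_combination hwz - (w : ℤ) * hk⟩
      · exact ⟨-((q : ℤ) * n) + (w : ℤ) * k + 0, by linear_combination -hwz + (w : ℤ) * hk⟩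
    refine ((Nat.prime_iff_prime_int.mp hp).dvd_or_dvd h1).resolve_left fun h => ?_
    have := Nat.le_of_dvd (by omega) (Int.natCast_dvd_natCast.mp h)
    omega
  have hsq : t * f₀ ^ 2 < Nat.card G := by
    have := sum_deg_sq_le (S := Yf) fun h => hYne one h rfl
    rw [Finset.sum_congr rfl fun θ hθ => by rw [hYd θ hθ], Finset.sum_const, hYcard, smul_eq_mul] at this
    omega
  have hXW : ∀ χ ∈ Xf.erase one, (εX χ = 1 ∨ εX χ = -1) ∧ (p : ℤ) ∣ (deg χ : ℤ) - εX χ ∧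
      ∀ u ∈ zpowers x, u ≠ 1 → (χ : G → ℂ) u = (εX χ : ℂ) := fun χ hχ =>
    ⟨(hXmod χ (Finset.mem_erase.mp hχ).2).1, (hXmod χ (Finset.mem_erase.mp hχ).2).2,
      hXval χ (Finset.mem_erase.mp hχ).2⟩
  refine ⟨f₀, -ε, assemble (Xf.erase one) Yf εX _ _ ?_ ?_ ?_ ?_ hYcard hXW hYd
    (fun θ hθ θ' hθ' => hYeq θ ((hYf θ).mp hθ) θ' ((hYf θ').mp hθ'))
    (fun u hu hu1 => by rw [hsumY u hu hu1, Int.cast_neg]), ?_⟩
  · rw [← Finset.insert_union, Finset.insert_erase honeX]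
  · rw [Finset.mem_union]
    rintro (h | h)
    · exact Finset.notMem_erase _ _ h
    · exact hYne one h rfl
  · exact Finset.disjoint_of_subset_left (Finset.erase_subset _ _) hdisj
  · rw [Finset.card_erase_of_mem honeX, hXcard]; omega
  rcases hε with rfl | rfl
  · refine Or.inl ⟨rfl, ?_, ht2⟩
    rcases (show w = 1 ∨ 2 ≤ w by omega) with rfl | hw2
    · exfalso
      rw [mul_one] at hw
      rw [hG, hw, show t * f₀ ^ 2 = (t * f₀) * f₀ by ring] at hsq
      have h2 : t * f₀ < p := Nat.lt_of_mul_lt_mul_right hsq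
      have h3 : q * (p + 1) ≤ f₀ := by
        rw [← hw]
        exact Nat.mul_le_mul_left q (Nat.succ_le_succ (Nat.le_mul_of_pos_left p hn))
      have h4 := Nat.mul_le_mul_left t h3
      have h5 : p + 1 ≤ q * t * (p + 1) := Nat.le_mul_of_pos_left _ (Nat.mul_pos (by omega) ht)
      have h6 : t * (q * (p + 1)) = q * t * (p + 1) := by ring
      omega
    · have hw' : w = n * p + 1 :=
        (dvd_plus_cases (by omega) hno (hup ⟨f₀, by rw [hw, mul_comm]⟩) hwmod).resolve_left (by omega)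
      rw [hw'] at hw
      exact (Nat.eq_of_mul_eq_mul_right (Nat.succ_pos _) hw).symm
  · refine Or.inr ⟨rfl, ?_⟩
    have hdvd : w ∣ q * (n * p + 1) := ⟨f₀, by rw [hw, mul_comm]⟩
    have hw' : w = q * t := by
      rw [hqt]
      refine (dvd_minus_cases (by omega) hno (hup hdvd) (by simpa using hwmod)).resolve_right fun h => ?_
      have h1 := Nat.le_of_dvd (Nat.mul_pos (by omega) (Nat.succ_pos _)) hdvd
      rw [h] at h1
      have h2 := Nat.le_of_mul_le_mul_right h1 (Nat.succ_pos _)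
      have h3 := Nat.mul_le_mul_left q ht2
      omega
    rw [hw'] at hw
    apply Nat.eq_of_mul_eq_mul_left (show 0 < q by omega)
    rw [hw]; ring

/-- The special case of few Sylow subgroups. -/
theorem exists_bdata (L : Loc G p x) (P : Sylow p G) (hPx : (P : Subgroup G) = zpowers x) {q t n : ℕ}
    (hq : 2 ≤ q) (ht : 0 < t) (hpq : p = q * t + 1) (hn : 0 < n) (hnb : 2 * n ≤ p + 1)
    (hG : Nat.card G = p * (q * (n * p + 1)))
    (hrel : (centralizer ((P : Subgroup G) : Set G)).relIndex (normalizer ((P : Subgroup G) : Set G)) = q) :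
    ∃ (f : ℕ) (τ : ℤ), Nonempty (BData G p q t n f τ x) ∧
      ((τ = -1 ∧ f = q ∧ 2 ≤ t) ∨ (τ = 1 ∧ t * f = n * p + 1)) := by
  have hp : p.Prime := Fact.out
  refine exists_bdata_of_no_divisor L P hPx hq ht hpq hn (fun u hu hun h => ?_) hG hrel
  obtain ⟨w, hw⟩ := h
  have hw0 : 0 < w := Nat.pos_of_ne_zero fun h => by
    have : 0 < (p - 1) * (n * p + 1) := Nat.mul_pos (by have := hp.two_le; omega) (Nat.succ_pos _)
    rw [h, mul_zero] at hw; omega
  have h1 := divisor_plus (p := (p : ℤ)) (q := ((p - 1 : ℕ) : ℤ)) (t := 1) (n := (n : ℤ))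
    (d := ((u * p + 1 : ℕ) : ℤ)) (w := (w : ℤ)) (by exact_mod_cast (by have := hp.two_le; omega : 0 < p - 1))
    one_pos (by rw [Nat.cast_sub hp.one_le]; push_cast; ring) (by exact_mod_cast hnb) (by exact_mod_cast hw.symm)
    ⟨u, by push_cast; ring⟩ (by exact_mod_cast (show 2 ≤ u * p + 1 by have := Nat.mul_pos hu hp.pos; omega))
    (by exact_mod_cast hw0)
  have h2 : u * p = n * p := by exact_mod_cast (by push_cast at h1; linarith : (u : ℤ) * p = n * p)
  exact hun.ne (Nat.eq_of_mul_eq_mul_right hp.pos h2)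

end CfsgLib.SmallGroups.BrauerFew
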