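import Cfsg.Agent.Lib.SmallGroups.BrauerFew.Sums
import Mathlib

/-!
Exceptional characters of degree `q` force `n = 1` and `q = (p - 1) / 2`: the character
`∑ θ θ̄` has too many trivial constituents on `⟨x⟩` otherwise.
-/

set_option autoImplicit false

namespace CfsgLib.SmallGroups.BrauerFew

open Subgroup CfsgLib.InvolChar
open scoped ComplexConjugate

variable {G : Type*} [Group G] [Fintype G] {p : ℕ} [Fact p.Prime] {x : G}

set_option maxHeartbeats 800000 in
theorem BData.plus_case (L : Loc G p x) {q t n : ℕ} (D : BData G p q t n q (-1) x) (hq : 2 ≤ q) (ht : 2 ≤ t)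
    (hpq : p = q * t + 1) (hn : 0 < n) : n = 1 ∧ 2 * q + 1 = p := by
  classical
  set one : Cfsg.IrrCharacter G := CfsgLib.Char.irrOne with hone
  set F : G → ℂ := fun g => ∑ θ ∈ D.T, (θ : G → ℂ) g * conj ((θ : G → ℂ) g) with hF
  have hFc : Cfsg.IsCharacter G F := by
    have h := CfsgLib.Char.isCharacter_sum (G := G) D.T (f := fun θ : Cfsg.IrrCharacter G => fun g => (θ : G → ℂ) g * conj ((θ : G → ℂ) g))
      fun θ _ => CfsgLib.Char.isCharacter_mul (CfsgLib.Char.isCharacter_of_isIrr θ.2)
        (CfsgLib.Char.isCharacter_conj (CfsgLib.Char.isCharacter_of_isIrr θ.2))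
    have e : (∑ θ ∈ D.T, fun g => (θ : G → ℂ) g * conj ((θ : G → ℂ) g)) = F := by
      funext g; rw [Finset.sum_apply]
    rwa [e] at h
  choose m hm using fun χ : Cfsg.IrrCharacter G => CfsgLib.Char.classInner_char_nat hFc
    (CfsgLib.Char.isCharacter_of_isIrr χ.2)
  choose k hk using fun χ : Cfsg.IrrCharacter G => sumP_nat L (CfsgLib.Char.isCharacter_of_isIrr χ.2)
  have hexp : ∀ g, F g = ∑ χ : Cfsg.IrrCharacter G, (m χ : ℂ) * (χ : G → ℂ) g := by
    intro g
    have h := congrFun (CfsgLib.Char.classFun_eq_sum (CfsgLib.Char.isClassFunction_of_isCharacter hFc)) g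
    rw [Finset.sum_apply] at h
    rw [h]
    exact Finset.sum_congr rfl fun χ _ => by rw [Pi.smul_apply, smul_eq_mul, hm χ]
  have hone_val : ∀ g, (one : G → ℂ) g = 1 := fun g => by rw [hone, CfsgLib.Char.irrOne_apply]
  -- multiplicity of the trivial character
  have hm1 : m one = t := by
    have h := hm one
    have e1 : (one : G → ℂ) = fun _ => 1 := funext hone_val
    rw [e1, CfsgLib.Char.classInner_one_right, hF, Finset.sum_comm,
      Finset.sum_congr rfl fun θ _ => by
        rw [← CfsgLib.Char.card_mul_classInner, CfsgLib.Char.classInner_irr_self θ.2, mul_one],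
      Finset.sum_const, D.card_T, nsmul_eq_mul, mul_comm, mul_assoc,
      mul_inv_cancel₀ CfsgLib.Char.card_ne_zero', mul_one] at h
    exact_mod_cast h.symm
  -- the two totals
  have hF1 : F 1 = ((t * (q * q) : ℕ) : ℂ) := by
    simp only [hF]
    rw [Finset.sum_congr rfl fun θ hθ => by rw [deg_spec θ, D.deg_T θ hθ, map_natCast], Finset.sum_const,
      D.card_T, nsmul_eq_mul]
    push_cast; ring
  have hFu : ∀ u ∈ zpowers x, u ≠ 1 → F u = (p : ℂ) - q := by
    intro u hu h1
    have h := CfsgLib.Char.second_orthogonality u u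
    rw [if_pos (IsConj.refl u), L.centralizer_of_mem hu h1, L.card_zpowers_eq, D.split,
      Finset.sum_congr rfl fun χ hχ => by rw [D.val_A χ hχ u hu h1, map_one, mul_one],
      Finset.sum_congr (s₁ := D.B) rfl fun χ hχ => by rw [D.val_B χ hχ u hu h1, map_neg, map_one, neg_mul_neg, mul_one],
      Finset.sum_congr (s₁ := D.O) rfl fun χ hχ => by rw [D.val_O χ hχ u hu h1, zero_mul],
      Finset.sum_const_zero, Finset.sum_const, Finset.sum_const, nsmul_one, nsmul_one,
      CfsgLib.Char.irrOne_apply, map_one, mul_one, add_zero] at h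
    have hcard : (D.A.card : ℂ) + D.B.card + 1 = q := by exact_mod_cast D.card_AB
    simp only [hF]
    linear_combination h - hcard
  have hK : ∑ χ, m χ * k χ = t * q := by
    have h : sumP x F = ∑ χ : Cfsg.IrrCharacter G, (m χ : ℂ) * sumP x (χ : G → ℂ) := by
      rw [show F = fun g => ∑ χ : Cfsg.IrrCharacter G, (m χ : ℂ) * (χ : G → ℂ) g from funext hexp,
        sumP_finset_sum]
      exact Finset.sum_congr rfl fun χ _ => by rw [sumP_eq, sumP_eq, Finset.mul_sum]
    rw [sumP_const L hFu, hF1, Finset.sum_congr rfl fun χ _ => by rw [hk χ]] at h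
    have hp0 : (p : ℂ) ≠ 0 := by exact_mod_cast (Fact.out : p.Prime).ne_zero
    have hpc : (p : ℂ) = q * t + 1 := by exact_mod_cast hpq
    have h' : (p : ℂ) * ((∑ χ, m χ * k χ : ℕ) : ℂ) = (p : ℂ) * ((t * q : ℕ) : ℂ) := by
      rw [Nat.cast_sum, Finset.mul_sum]
      rw [Finset.sum_congr rfl fun χ _ => show (p : ℂ) * ((m χ * k χ : ℕ) : ℂ) = (m χ : ℂ) * ((p : ℂ) * k χ) by
        push_cast; ring, ← h]
      push_cast
      linear_combination ((p : ℂ) - q) * hpc
    exact_mod_cast mul_left_cancel₀ hp0 h'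
  have hD : ∑ χ, m χ * deg χ = t * (q * q) := by
    have h := hexp 1
    rw [hF1, Finset.sum_congr rfl fun χ _ => by rw [deg_spec χ]] at h
    exact_mod_cast h.symm
  -- the bound for each nontrivial constituent
  have hTzero : ∀ θ ∈ D.T, k θ = 0 := by
    have h := D.sumP_T L
    rw [Finset.sum_congr rfl fun χ _ => hk χ, ← Finset.mul_sum] at h
    have hpc : (p : ℂ) = q * t + 1 := by exact_mod_cast hpq
    have h' : (p : ℂ) * ((∑ θ ∈ D.T, k θ : ℕ) : ℂ) = 0 := by
      push_cast at h ⊢
      linear_combination h - hpc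
    have h2 := (mul_eq_zero.mp h').resolve_left (by exact_mod_cast (Fact.out : p.Prime).ne_zero)
    have h3 : ∑ θ ∈ D.T, k θ = 0 := by exact_mod_cast h2
    exact fun θ hθ => (Finset.sum_eq_zero_iff.mp h3) θ hθ
  have hbound : ∀ χ, χ ≠ one → k χ * (n * p + 1) ≤ (n + 1) * deg χ := by
    intro χ hne
    have hcases : χ ∈ D.A ∨ χ ∈ D.B ∨ χ ∈ D.T ∨ χ ∈ D.O := by
      by_contra hcon
      push Not at hcon
      obtain ⟨hA, hB, hT, hO⟩ := hcon
      have h := D.split (fun ψ => if ψ = χ then (1 : ℂ) else 0)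
      rw [Finset.sum_ite_eq' Finset.univ χ, if_pos (Finset.mem_univ _), if_neg (Ne.symm hne),
        Finset.sum_ite_eq', if_neg hA, Finset.sum_ite_eq', if_neg hB, Finset.sum_ite_eq', if_neg hT,
        Finset.sum_ite_eq', if_neg hO] at h
      norm_num at h
    have hp0 : (p : ℂ) ≠ 0 := by exact_mod_cast (Fact.out : p.Prime).ne_zero
    rcases hcases with h | h | h | h
    · have h1 := (hk χ).symm.trans (D.sumP_A L h)
      have h2 : k χ = n + 1 := by exact_mod_cast mul_left_cancel₀ hp0 h1
      rw [h2, D.deg_A χ h]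
    · have h1 := (hk χ).symm.trans (D.sumP_B L h)
      have h2 : k χ = 0 := by exact_mod_cast (mul_eq_zero.mp h1).resolve_left hp0
      rw [h2, zero_mul]; exact Nat.zero_le _
    · rw [hTzero χ h, zero_mul]; exact Nat.zero_le _
    · have h1 := (hk χ).symm.trans (D.sumP_O L h)
      have h2 : p * k χ = deg χ := by exact_mod_cast h1
      rw [← h2, show (n + 1) * (p * k χ) = k χ * ((n + 1) * p) by ring]
      exact Nat.mul_le_mul_left _ (by have := (Fact.out : p.Prime).one_le; rw [add_mul, one_mul]; omega)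
  have hk1 : k one = 1 := by
    have h := (hk one).symm.trans (sumP_const L (σ := (1 : ℂ)) fun u _ _ => hone_val u)
    rw [hone_val, mul_one] at h
    have : (p : ℂ) * (k one : ℂ) = (p : ℂ) * 1 := by linear_combination h
    exact_mod_cast mul_left_cancel₀ (by exact_mod_cast (Fact.out : p.Prime).ne_zero) this
  have hd1 : deg one = 1 := deg_irrOne
  have key : (∑ χ ∈ Finset.univ.erase one, m χ * k χ) * (n * p + 1) ≤
      (n + 1) * ∑ χ ∈ Finset.univ.erase one, m χ * deg χ := by
    rw [Finset.sum_mul, Finset.mul_sum]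
    refine Finset.sum_le_sum fun χ hχ => ?_
    calc m χ * k χ * (n * p + 1) = m χ * (k χ * (n * p + 1)) := mul_assoc _ _ _
      _ ≤ m χ * ((n + 1) * deg χ) := Nat.mul_le_mul_left _ (hbound χ (Finset.ne_of_mem_erase hχ))
      _ = (n + 1) * (m χ * deg χ) := by ring
  have e1 := Finset.add_sum_erase (Finset.univ : Finset (Cfsg.IrrCharacter G)) (fun χ => m χ * k χ) (Finset.mem_univ one)
  have e2 := Finset.add_sum_erase (Finset.univ : Finset (Cfsg.IrrCharacter G)) (fun χ => m χ * deg χ) (Finset.mem_univ one)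
  rw [hK, hk1, hm1] at e1
  rw [hD, hd1, hm1] at e2
  obtain ⟨q', rfl⟩ : ∃ q', q = q' + 1 := ⟨q - 1, by omega⟩
  have e1' : ∑ χ ∈ Finset.univ.erase one, m χ * k χ = t * q' := by
    have : t * (q' + 1) = t + t * q' := by ring
    omega
  have e2' : ∑ χ ∈ Finset.univ.erase one, m χ * deg χ = t * (q' * (q' + 2)) := by
    have : t * ((q' + 1) * (q' + 1)) = t + t * (q' * (q' + 2)) := by ring
    omega
  rw [e1', e2'] at key
  have key2 : n * p + 1 ≤ (n + 1) * (q' + 2) := by
    refine Nat.le_of_mul_le_mul_left ?_ (show 0 < t * q' from Nat.mul_pos (by omega) (by omega))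
    calc t * q' * (n * p + 1) ≤ (n + 1) * (t * (q' * (q' + 2))) := key
      _ = _ := by ring
  have hp2 : 2 * (q' + 1) + 1 ≤ p := by
    have := Nat.mul_le_mul_left (q' + 1) ht
    omega
  have key3 : n * (2 * (q' + 1) + 1) + 1 ≤ (n + 1) * (q' + 2) :=
    le_trans (Nat.add_le_add_right (Nat.mul_le_mul_left n hp2) 1) key2
  have hn1 : n = 1 := by
    have h : n * (q' + 1) ≤ 1 * (q' + 1) := by
      have : n * (2 * (q' + 1) + 1) + 1 + (q' + 1) = (n + 1) * (q' + 2) + n * (q' + 1) := by ring
      omega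
    have := Nat.le_of_mul_le_mul_right h (by omega)
    omega
  subst hn1
  exact ⟨rfl, by omega⟩

end CfsgLib.SmallGroups.BrauerFew
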