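import Cfsg.Agent.Lib.SmallGroups.BrauerFew.Two
import Cfsg.Agent.Lib.SmallGroups.BrauerFew.Plus
import Cfsg.Agent.Lib.SmallGroups.EvenCharRecog
import Cfsg.Agent.Lib.SmallGroups.Basic
import Cfsg.Agent.Lib.Classical.Dickson.PSLMap
import Cfsg.Agent.S0732
import Cfsg.Agent.S0495
import Mathlib

/-!
Brauer's theorem: a perfect group with a self-centralising element of prime order `p` and fewer than
`(p + 1) (p + 2) / 2` Sylow `p`-subgroups is `PSL(2, p)` or `PSL(2, p - 1)`.
-/

set_option autoImplicit false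

namespace CfsgLib.SmallGroups.BrauerFew

open Subgroup CfsgLib.InvolChar

variable {G : Type*} [Group G] [Fintype G] {p : ℕ} [Fact p.Prime] {x : G}

set_option maxHeartbeats 800000 in
/-- The case `q = 2`, `t ≥ 3`. -/
theorem Inverting.psl_even (L : Loc G p x) [IsSimpleGroup G] {t n f : ℕ} {D : BData G p 2 t n f 1 x}
    (I : Inverting G p 2 t n f x D) (ht : 3 ≤ t) (hpq : p = 2 * t + 1) (hf : t * f = n * p + 1)
    (hcard : Nat.card G = p * (2 * (n * p + 1))) (hS : Nat.card (Sylow p G) = n * p + 1) :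
    ∃ (m : ℕ) (F : Type) (_ : Field F) (_ : Fintype F), Fintype.card F = 2 ^ m ∧ p = 2 ^ m + 1 ∧
      Nonempty (G ≃* Matrix.ProjectiveSpecialLinearGroup (Fin 2) F) := by
  classical
  have hp : p.Prime := Fact.out
  haveI : Fact (Nat.Prime 2) := ⟨Nat.prime_two⟩
  obtain ⟨P, hPx, hP⟩ := L.exists_sylow
  have hn1 := I.n_eq
  have hk := I.class_number L
  obtain ⟨τ, rfl⟩ : ∃ τ, t = τ + 1 := ⟨t - 1, by omega⟩
  obtain rfl : n = τ := by omega
  subst hpq
  have hnp : n * (2 * (n + 1) + 1) + 1 = (n + 1) * (2 * n + 1) := by ring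
  set cc : G → ℕ := fun u => Nat.card (centralizer ({u} : Set G)) with hcc
  set U : Finset G := Finset.univ.filter
    (fun u => u ≠ 1 ∧ ¬ (2 * (n + 1) + 1) ∣ orderOf u ∧ ¬ IsConj I.s u) with hU
  set Iset : Finset G := Finset.univ.filter (fun u => IsConj I.s u) with hI
  set Pp : Finset G := Finset.univ.filter (fun u => orderOf u = 2 * (n + 1) + 1) with hPp
  have hmemU : ∀ {u : G}, u ∈ U ↔ u ≠ 1 ∧ ¬ (2 * (n + 1) + 1) ∣ orderOf u ∧ ¬ IsConj I.s u := fun {u} => by
    simp [hU]
  have hcI : ∀ u ∈ Iset, cc u = 2 * (n + 1) := fun u hu => by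
    have h := (Finset.mem_filter.mp hu).2
    have h1 := CfsgLib.Invol.card_conjugates_mul u
    have h2 := CfsgLib.Invol.card_conjugates_mul I.s
    have e : Nat.card {y : G // IsConj u y} = Nat.card {y : G // IsConj I.s y} :=
      Nat.card_congr (Equiv.subtypeEquivRight fun y => ⟨fun hy => h.trans hy, fun hy => h.symm.trans hy⟩)
    haveI : Nonempty {y : G // IsConj I.s y} := ⟨⟨I.s, IsConj.refl _⟩⟩
    rw [e, ← h2] at h1
    rw [hcc]
    rw [← I.cent_s]
    exact Nat.eq_of_mul_eq_mul_left Nat.card_pos h1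
  have hdecomp : ∀ F : G → ℕ, ∑ u, F u = F 1 + ∑ u ∈ Iset, F u + ∑ u ∈ Pp, F u + ∑ u ∈ U, F u := by
    intro F
    have e1 : Finset.univ.filter (fun u : G => u ≠ 1) = Iset ∪ Pp ∪ U := by
      ext u
      simp only [hI, hPp, hU, Finset.mem_union, Finset.mem_filter, Finset.mem_univ, true_and]
      constructor
      · intro h1
        by_cases h2 : IsConj I.s u
        · exact Or.inl (Or.inl h2)
        by_cases h3 : (2 * (n + 1) + 1) ∣ orderOf u
        · exact Or.inl (Or.inr (L.orderOf_eq h3))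
        · exact Or.inr ⟨h1, h3, h2⟩
      · rintro ((h | h) | h) e
        · subst e
          have := CfsgLib.Invol.orderOf_eq_of_isConj h
          rw [I.order_s, orderOf_one] at this; omega
        · rw [e, orderOf_one] at h; omega
        · exact h.1 e
    have d1 : Disjoint Iset Pp := Finset.disjoint_filter.mpr fun u _ h h' => by
      have := CfsgLib.Invol.orderOf_eq_of_isConj h
      rw [I.order_s, h'] at this; omega
    have d2 : Disjoint (Iset ∪ Pp) U := Finset.disjoint_left.mpr fun u h h' => by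
      obtain ⟨-, h3, h4⟩ := hmemU.mp h'
      rcases Finset.mem_union.mp h with h | h
      · exact h4 (Finset.mem_filter.mp h).2
      · exact h3 (dvd_of_eq (Finset.mem_filter.mp h).2.symm)
    rw [← Finset.add_sum_erase _ _ (Finset.mem_univ (1 : G)), ← Finset.filter_ne' (Finset.univ : Finset G) 1, e1,
      Finset.sum_union d2, Finset.sum_union d1]
    ring
  have hcardI : Iset.card * (2 * (n + 1)) = Nat.card G := by
    rw [← I.cent_s, ← CfsgLib.Invol.card_conjugates_mul I.s]
    congr 1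
    rw [hI, Nat.card_eq_fintype_card, Fintype.card_subtype]
  have hcardI' : Iset.card = (2 * (n + 1) + 1) * (2 * n + 1) := by
    apply Nat.eq_of_mul_eq_mul_right (show 0 < 2 * (n + 1) by omega)
    rw [hcardI, hcard, hnp]; ring
  have hcardP : Pp.card = (n + 1) * (2 * n + 1) * (2 * (n + 1)) := by
    rw [hPp, ← Fintype.card_subtype, ← Nat.card_eq_fintype_card, L.card_order_p, hS, hnp, Nat.add_sub_cancel]
  have hcardG : Nat.card G = (2 * (n + 1) + 1) * (2 * ((n + 1) * (2 * n + 1))) := by rw [hcard, hnp]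
  have hcardU : U.card = 2 * (n + 1) * n * (2 * (n + 1) + 1) := by
    have h := hdecomp (fun _ => 1)
    simp only [Finset.sum_const, smul_eq_mul, mul_one, Finset.card_univ, ← Nat.card_eq_fintype_card] at h
    rw [hcardI', hcardP, hcardG] at h
    have : (2 * (n + 1) + 1) * (2 * ((n + 1) * (2 * n + 1))) = 1 + (2 * (n + 1) + 1) * (2 * n + 1) +
        (n + 1) * (2 * n + 1) * (2 * (n + 1)) + 2 * (n + 1) * n * (2 * (n + 1) + 1) := by ring
    omega
  have hge : ∀ u ∈ U, 2 * n + 1 ≤ cc u := fun u hu => by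
    obtain ⟨h1, h2, h3⟩ := hmemU.mp hu
    have := I.centralizer_ge L (by omega) rfl hf hcard h1 h2 h3
    rw [hcc]; simp only
    omega
  have hsum : ∑ u ∈ U, cc u ≤ ∑ _u ∈ U, (2 * n + 1) := by
    have h := hdecomp cc
    rw [show ∑ u, cc u = Nat.card (ConjClasses G) * Nat.card G from sum_card_centralizer,
      Finset.sum_congr rfl hcI, Finset.sum_congr (s₁ := Pp) rfl fun u hu =>
        (show cc u = 2 * (n + 1) + 1 from SmallPiece.card_centralizer_eq P hP L.order L.cent (Finset.mem_filter.mp hu).2),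
      Finset.sum_const, Finset.sum_const, smul_eq_mul, smul_eq_mul, hcardI', hcardP] at h
    have h1 : cc 1 = Nat.card G := by
      rw [hcc]; simp only
      rw [show centralizer ({1} : Set G) = ⊤ from Subgroup.centralizer_eq_top_iff_subset.mpr (by simp), card_top]
    rw [h1, hcardG] at h
    rw [Finset.sum_const, smul_eq_mul, hcardU]
    have h2 := Nat.mul_le_mul_right ((2 * (n + 1) + 1) * (2 * ((n + 1) * (2 * n + 1))))
      (show Nat.card (ConjClasses G) ≤ 2 * (n + 1) + 1 by omega)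
    rw [h] at h2
    have e : (2 * (n + 1) + 1) * ((2 * (n + 1) + 1) * (2 * ((n + 1) * (2 * n + 1)))) =
        (2 * (n + 1) + 1) * (2 * ((n + 1) * (2 * n + 1))) + (2 * (n + 1) + 1) * (2 * n + 1) * (2 * (n + 1)) +
          (n + 1) * (2 * n + 1) * (2 * (n + 1)) * (2 * (n + 1) + 1) +
          2 * (n + 1) * n * (2 * (n + 1) + 1) * (2 * n + 1) := by ring
    omega
  have hexact : ∀ u ∈ U, cc u = 2 * n + 1 := fun u hu =>
    ((Finset.sum_eq_sum_iff_of_le hge).mp (le_antisymm (Finset.sum_le_sum hge) hsum) u hu).symm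
  -- every element of `C(s)` squares to `1`
  have hCs : ∀ w ∈ centralizer ({I.s} : Set G), w * w = 1 := by
    intro w hw
    by_cases h1 : w = 1
    · rw [h1, mul_one]
    by_cases h2 : IsConj I.s w
    · exact conj_mul_self I.sq h2
    exfalso
    by_cases h3 : (2 * (n + 1) + 1) ∣ orderOf w
    · have h4 := h3.trans (orderOf_dvd_natCard _ hw)
      rw [I.cent_s] at h4
      have := Nat.le_of_dvd (by omega) h4
      omega
    · have h4 : orderOf I.s ∣ cc w := orderOf_dvd_natCard _ (mem_centralizer_singleton_iff.mpr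
        (mem_centralizer_singleton_iff.mp hw).symm)
      rw [hexact w (hmemU.mpr ⟨h1, h3, h2⟩), I.order_s] at h4
      omega
  obtain ⟨m, hm⟩ : ∃ m, Nat.card (centralizer ({I.s} : Set G)) = 2 ^ m := by
    have hpg : IsPGroup 2 (centralizer ({I.s} : Set G)) := fun w =>
      ⟨1, Subtype.ext (by
        show ((w : G)) ^ (2 ^ 1) = 1
        rw [pow_one, pow_two]; exact hCs w w.2)⟩
    exact hpg.exists_card_eq
  rw [I.cent_s] at hm
  have hm2 : 2 ≤ m := by
    by_contra hcon
    have : 2 ^ m ≤ 2 ^ 1 := Nat.pow_le_pow_right two_pos (by omega)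
    omega
  have hinvol : ∀ u : G, orderOf u = 2 → u ∈ Iset := by
    intro u hu
    refine Finset.mem_filter.mpr ⟨Finset.mem_univ _, ?_⟩
    by_contra hcon
    have h1 : u ∈ U := hmemU.mpr ⟨fun e => by rw [e, orderOf_one] at hu; norm_num at hu,
      fun e => by rw [hu] at e; have := Nat.le_of_dvd two_pos e; omega, hcon⟩
    have h4 : orderOf u ∣ cc u := orderOf_dvd_natCard _ (mem_centralizer_singleton_iff.mpr rfl)
    rw [hexact u h1, hu] at h4
    omega
  obtain ⟨K, hKF, hK⟩ : ∃ (K : Type) (_ : Field K), Nat.card K = 2 ^ m :=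
    ⟨GaloisField 2 m, inferInstance, GaloisField.card 2 m (by omega)⟩
  haveI : Finite K := Nat.finite_of_card_ne_zero (by rw [hK]; exact (pow_pos two_pos m).ne')
  letI := Fintype.ofFinite K
  rw [Nat.card_eq_fintype_card] at hK
  refine ⟨m, K, hKF, inferInstance, hK, by omega, EvenCharRecog.nonempty_psl_even hm2 ?_ ?_ ?_ ?_ hK⟩
  · rw [← hm, hcardG, show 2 * (n + 1) - 1 = 2 * n + 1 by omega]; ring
  · intro y hy
    by_cases h1 : y = 1
    · rw [h1, mul_one]
    by_cases h2 : IsConj I.s y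
    · exact conj_mul_self I.sq h2
    exfalso
    obtain ⟨i, -, hi⟩ := (Nat.dvd_prime_pow Nat.prime_two).mp (orderOf_dvd_of_pow_eq_one hy)
    have hi0 : i ≠ 0 := fun e => h1 (orderOf_eq_one_iff.mp (by rw [hi, e, pow_zero]))
    have heven : 2 ∣ orderOf y := hi ▸ dvd_pow_self 2 hi0
    by_cases h3 : (2 * (n + 1) + 1) ∣ orderOf y
    · rw [hi] at h3
      have := (Nat.prime_dvd_prime_iff_eq hp Nat.prime_two).mp (hp.dvd_of_dvd_pow h3)
      omega
    · have h4 : orderOf y ∣ cc y := orderOf_dvd_natCard _ (mem_centralizer_singleton_iff.mpr rfl)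
      rw [hexact y (hmemU.mpr ⟨h1, h3, h2⟩)] at h4
      have := heven.trans h4
      omega
  · intro u hu
    exact (hcI u (hinvol u hu)).trans hm
  · rw [← hm, ← hcardI]
    refine Nat.mul_le_mul_right _ ?_
    rw [Nat.card_eq_fintype_card, Fintype.card_subtype]
    exact Finset.card_le_card fun u hu => hinvol u (Finset.mem_filter.mp hu).2

/-- The case `n = 1`, `q = (p - 1) / 2`. -/
theorem Loc.psl_prime (L : Loc G p x) [IsSimpleGroup G] {q : ℕ} (hq : 2 ≤ q) (hpq : 2 * q + 1 = p)
    (hcard : Nat.card G = p * (q * (1 * p + 1))) (hS : Nat.card (Sylow p G) = p + 1) :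
    ∃ (F : Type) (_ : Field F) (_ : Fintype F), Fintype.card F = p ∧
      Nonempty (G ≃* Matrix.ProjectiveSpecialLinearGroup (Fin 2) F) := by
  classical
  have hp : p.Prime := Fact.out
  haveI : NeZero p := ⟨hp.ne_zero⟩
  refine ⟨ZMod p, inferInstance, inferInstance, ZMod.card p, ?_⟩
  by_cases h7 : p = 7
  · exact Cfsg.Agent.S0495.result (by rw [hcard, show q = 3 by omega, h7]) (by rw [ZMod.card, h7])
  cases nonempty_fintype (Sylow p G)
  obtain ⟨P⟩ : Nonempty (Sylow p G) := inferInstance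
  have hmove : ∃ (g : G) (S : Sylow p G), g • S ≠ S := by
    haveI : Nontrivial (Sylow p G) := by rw [← Finite.one_lt_card_iff_nontrivial, hS]; omega
    obtain ⟨P', hP'⟩ := exists_ne P
    obtain ⟨g, hg⟩ := MulAction.exists_smul_eq G P P'
    exact ⟨g, P, fun h => hP' (hg ▸ h)⟩
  set φ := MulAction.toPermHom G (Sylow p G) with hφ
  have e : G ≃* φ.range :=
    MonoidHom.ofInjective (CfsgLib.SmallGroups.toPermHom_injective_of_not_trivial hmove)
  haveI : MulAction.IsPretransitive φ.range (Sylow p G) := ⟨fun a b => by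
    obtain ⟨g, hg⟩ := MulAction.exists_smul_eq G a b
    exact ⟨⟨φ g, g, rfl⟩, hg⟩⟩
  rcases Cfsg.Agent.S0732.result hp (by rw [← Nat.card_eq_fintype_card, hS]) φ.range
      (by rw [← Nat.card_congr e.toEquiv, hcard]; ring) (by omega : q < p) with
    ⟨h, -⟩ | ⟨-, ⟨g⟩⟩ | ⟨r, hr, hr2, hdr, -⟩
  · omega
  · exact ⟨e.trans g⟩
  · exfalso
    rcases hdr with h | h
    · omega
    · subst h
      have h3 : q ≤ 3 := by
        by_contra hcon
        have : 2 ^ q ≥ 2 * q + 3 := by
          have : ∀ k, 2 * (k + 4) + 3 ≤ 2 ^ (k + 4) := fun k => by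
            induction k with
            | zero => norm_num
            | succ k ih => rw [show k + 1 + 4 = (k + 4) + 1 by omega, pow_succ]; omega
          have h := this (q - 4)
          rwa [show q - 4 + 4 = q by omega] at h
        omega
      interval_cases q <;> omega

/-- Brauer's theorem. -/
theorem main (hperf : commutator G = ⊤) (hx : orderOf x = p)
    (hC : centralizer ({x} : Set G) = zpowers x) (hn : 2 * Nat.card (Sylow p G) < (p + 1) * (p + 2)) :
    IsSimpleGroup G ∧ 3 < p ∧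
      ((∃ (F : Type) (_ : Field F) (_ : Fintype F), Fintype.card F = p ∧
          Nonempty (G ≃* Matrix.ProjectiveSpecialLinearGroup (Fin 2) F)) ∨
        ∃ (m : ℕ) (F : Type) (_ : Field F) (_ : Fintype F), Fintype.card F = 2 ^ m ∧ p = 2 ^ m + 1 ∧
          Nonempty (G ≃* Matrix.ProjectiveSpecialLinearGroup (Fin 2) F)) := by
  have hp : p.Prime := Fact.out
  have L : Loc G p x := ⟨hperf, hx, hC⟩
  haveI := L.isSimpleGroup hn
  obtain ⟨P, hPx, hP⟩ := L.exists_sylow
  obtain ⟨q, t, n, hq, ht, hn0, hpq, hS, hN, hcard, hrel, -⟩ := L.exists_numbers P hPx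
  have hodd : p % 2 = 1 := Nat.odd_iff.mp (hp.odd_of_ne_two (by
    intro h
    have := Nat.le_mul_of_pos_right q ht
    omega))
  have hnb : 2 * n ≤ p + 1 := by
    rw [hS] at hn
    have : 2 * n < p + 3 := by
      by_contra hcon
      push Not at hcon
      have := Nat.mul_le_mul_right p hcon
      nlinarith
    omega
  have prime_case : n = 1 → 2 * q + 1 = p → ∃ (F : Type) (_ : Field F) (_ : Fintype F), Fintype.card F = p ∧
      Nonempty (G ≃* Matrix.ProjectiveSpecialLinearGroup (Fin 2) F) := fun h1 h2 => by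
    subst h1
    exact L.psl_prime hq h2 hcard (by rw [hS, one_mul])
  obtain ⟨f, τ, ⟨D⟩, ⟨rfl, rfl, ht2⟩ | ⟨rfl, hf⟩⟩ := exists_bdata L P hPx hq ht hpq hn0 hnb hcard hrel
  · obtain ⟨h1, h2⟩ := D.plus_case L hq ht2 hpq hn0
    exact ⟨inferInstance, by omega, Or.inl (prime_case h1 h2)⟩
  obtain ⟨I⟩ := D.exists_inverting L hq ht hn0 hpq hf hcard hPx hN
  have hn1 := I.n_eq
  rcases (show t = 2 ∨ 3 ≤ t by omega) with rfl | ht3
  · exact ⟨inferInstance, by omega, Or.inl (prime_case (by omega) (by omega))⟩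
  · obtain rfl := I.q_eq_two L hpq ht3 hcard
    exact ⟨inferInstance, by omega, Or.inr (I.psl_even L ht3 hpq hf hcard hS)⟩

end CfsgLib.SmallGroups.BrauerFew
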