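import Cfsg.Agent.Lib.SmallGroups.BrauerFew.Minus
import Mathlib

/-!
The negative case: `q` is even, an involution inverting `x` has centraliser of order `q t` and
`n + 1 = t`.
-/

set_option autoImplicit false

namespace CfsgLib.SmallGroups.BrauerFew

open Subgroup CfsgLib.InvolChar
open scoped ComplexConjugate

variable {G : Type*} [Group G] [Fintype G] {p : ℕ} [Fact p.Prime] {x : G}

theorem BData.even_q (L : Loc G p x) {q t n f : ℕ} (D : BData G p q t n f 1 x) (hq : 2 ≤ q) (ht : 0 < t)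
    (hpq : p = q * t + 1) (hf : t * f = n * p + 1) (hcard : Nat.card G = p * (q * (n * p + 1)))
    {P : Sylow p G} (hPx : (P : Subgroup G) = zpowers x)
    (hN : Nat.card (normalizer ((P : Subgroup G) : Set G)) = p * q) : 2 ∣ q := by
  classical
  by_contra hodd
  have hp : p.Prime := Fact.out
  haveI : Fact (Nat.Prime 2) := ⟨Nat.prime_two⟩
  obtain ⟨k, hk1, hk2, ha, -, -⟩ := D.exists_k L ht hpq hf hcard
  have hp2 : p ≠ 2 := by have := Nat.le_mul_of_pos_right q ht; omega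
  have hpodd : p % 2 = 1 := Nat.odd_iff.mp (hp.odd_of_ne_two hp2)
  have hqodd : q % 2 = 1 := by omega
  have hte : 2 ∣ t := by
    rcases Nat.mod_two_eq_zero_or_one t with h | h
    · exact Nat.dvd_of_mod_eq_zero h
    · have : q * t % 2 = 1 := by rw [Nat.mul_mod, hqodd, h]
      omega
  have hke : 2 ∣ k := by
    rw [hk1] at ha
    have h1 : 2 ∣ D.A.card * (t * k) := (hte.mul_right k).mul_left _
    omega
  have hfodd : ¬ 2 ∣ f := fun h => by
    have h1 : 2 ∣ p * k := hke.mul_left p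
    omega
  have hG2 : Nat.card G = (p - 1) * (p * f) := by
    rw [hcard, ← hf, show p - 1 = q * t by omega]; ring
  have hfac := Nat.ordProj_dvd (p - 1) 2
  have hndvd : ¬ 2 ^ ((p - 1).factorization 2 + 1) ∣ Nat.card G := fun h => by
    rw [hG2] at h
    have hco : Nat.Coprime (2 ^ ((p - 1).factorization 2 + 1)) (p * f) :=
      Nat.Coprime.pow_left _ (Nat.Coprime.mul_right ((Nat.coprime_primes Nat.prime_two hp).mpr hp2.symm)
        (Nat.prime_two.coprime_iff_not_dvd.mpr hfodd))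
    exact Nat.pow_succ_factorization_not_dvd (by have := hp.two_le; omega) Nat.prime_two (hco.dvd_of_dvd_mul_right h)
  obtain ⟨s, hs⟩ := exists_prime_orderOf_dvd_card' (G := G) 2 (by
    rw [hG2]; exact Dvd.dvd.mul_right (by omega) _)
  have hss : s * s = 1 := by rw [← pow_two, ← hs, pow_orderOf_eq_one]
  have hB : ∀ χ ∈ D.B, intVal χ hss = 0 := fun χ hχ => by
    have h := CfsgLib.Char.vanish_of_defect_zero χ.2 Nat.prime_two
      (hfac.trans (Dvd.intro _ hG2.symm)) hndvd (deg_spec χ) (by rw [D.deg_B χ hχ]; exact hfac)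
      (x := s) (by rw [hs])
    rw [intVal_spec χ hss] at h
    exact_mod_cast h
  obtain ⟨θ₀, hθ₀⟩ := Finset.card_pos.mp (lt_of_lt_of_eq ht D.card_T.symm)
  have h := D.pairs_formula L hf hss hB hθ₀ (by rw [hs, Nat.prime_dvd_prime_iff_eq hp Nat.prime_two]; exact hp2)
  have hempty : IsEmpty {z : G × G // IsConj s z.1 ∧ IsConj s z.2 ∧ z.1 * z.2 = x} := by
    refine ⟨fun ⟨⟨a, b⟩, ha', hb', hab⟩ => ?_⟩
    have haa := conj_mul_self hss ha'
    have hinv := inverts_of_pair haa (conj_mul_self hss hb')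
    rw [show a * b = x from hab] at hinv
    have haN : a ∈ normalizer ((P : Subgroup G) : Set G) := by
      rw [hPx]
      refine mem_normalizer_iff_map_conj_eq.mpr ?_
      rw [MonoidHom.map_zpowers]
      show zpowers (a * x * a⁻¹) = zpowers x
      rw [hinv, zpowers_inv]
    have ho : orderOf a = 1 := Nat.eq_one_of_dvd_coprimes
      (Nat.coprime_two_left.mpr (Nat.odd_iff.mpr (by rw [Nat.mul_mod, hpodd, hqodd] : p * q % 2 = 1)))
      (orderOf_dvd_of_pow_eq_one (by rw [pow_two, haa])) ((orderOf_dvd_natCard _ haN).trans hN.dvd)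
    rw [orderOf_eq_one_iff.mp ho, one_mul, inv_one, mul_one] at hinv
    have h2 : orderOf x ∣ 2 := orderOf_dvd_of_pow_eq_one (by
      rw [pow_two]; nth_rewrite 1 [hinv]; exact inv_mul_cancel x)
    rw [L.order] at h2
    exact hp2 ((Nat.prime_dvd_prime_iff_eq hp Nat.prime_two).mp h2)
  rw [Nat.card_of_isEmpty (α := {z : G × G // IsConj s z.1 ∧ IsConj s z.2 ∧ z.1 * z.2 = x}), Nat.cast_zero, mul_zero,
    zero_mul] at h
  have h1 : (0 : ℤ) < Nat.card G := by exact_mod_cast Nat.card_pos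
  have h2 : (0 : ℤ) < ((n * p + 1 : ℕ) : ℤ) + ∑ χ ∈ D.A, intVal χ hss ^ 2 + (t : ℤ) * intVal θ₀ hss ^ 2 := by
    have : (0 : ℤ) ≤ ∑ χ ∈ D.A, intVal χ hss ^ 2 := Finset.sum_nonneg fun _ _ => sq_nonneg _
    have : (0 : ℤ) ≤ (t : ℤ) * intVal θ₀ hss ^ 2 := mul_nonneg (Nat.cast_nonneg _) (sq_nonneg _)
    have : (0 : ℤ) < ((n * p + 1 : ℕ) : ℤ) := by exact_mod_cast Nat.succ_pos _
    omega
  exact (mul_pos h1 h2).ne h

/-- The numerical core: `c² = q (n p + 1) + q Q` with `c = 1 + Q + n`. -/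
theorem involution_arith {p q t n k c : ℕ} {Q : ℤ} (hq : 2 ≤ q) (hn : 0 < n) (ht : 0 < t)
    (hpq : p = q * t + 1) (hk : n + 1 = t * k) (hQ : (c : ℤ) = 1 + Q + n)
    (hc : (c : ℤ) ^ 2 = q * (n * p + 1) + q * Q) (hdvd : c ∣ q * (n * p + 1)) :
    c = q * t ∧ k = 1 ∧ Q = (t : ℤ) * (q - 1) := by
  have hpz : (p : ℤ) = q * t + 1 := by exact_mod_cast hpq
  have h0 : (c : ℤ) ^ 2 - q * c = (q : ℤ) ^ 2 * (n * t) := by
    linear_combination hc - (q : ℤ) * hQ + (q : ℤ) * n * hpz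
  have h1 : (2 * (c : ℤ) - q) ^ 2 = (q : ℤ) ^ 2 * (1 + 4 * (n * t)) := by linear_combination 4 * h0
  obtain ⟨e, he⟩ : (q : ℤ) ∣ 2 * (c : ℤ) - q :=
    (Int.pow_dvd_pow_iff (by norm_num : (2 : ℕ) ≠ 0)).mp ⟨1 + 4 * (n * t), h1⟩
  have he2 : e ^ 2 = 1 + 4 * ((n : ℤ) * t) := by
    apply mul_left_cancel₀ (pow_ne_zero 2 (by omega : (q : ℤ) ≠ 0))
    rw [← h1, he]; ring
  obtain ⟨z, hz⟩ : ∃ z : ℤ, e + 1 = 2 * z := by
    have h3 : (2 : ℤ) ∣ (e + 1) ^ 2 := ⟨1 + e + 2 * (n * t), by linear_combination he2⟩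
    exact Int.prime_two.dvd_of_dvd_pow h3
  have hcz : (c : ℤ) = q * z := by
    apply mul_left_cancel₀ (by norm_num : (2 : ℤ) ≠ 0)
    linear_combination he + (q : ℤ) * hz
  have hz0 : 0 ≤ z := by
    by_contra hcon
    have : (q : ℤ) * z < 0 := mul_neg_of_pos_of_neg (by omega) (by omega)
    omega
  obtain ⟨z', rfl⟩ : ∃ m : ℕ, z = m := ⟨z.toNat, (Int.toNat_of_nonneg hz0).symm⟩
  have hc' : c = q * z' := by exact_mod_cast hcz
  have hzz : (z' : ℤ) * z' = z' + n * t := by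
    apply mul_left_cancel₀ (pow_ne_zero 2 (by omega : (q : ℤ) ≠ 0))
    rw [hcz] at h0
    linear_combination h0
  have hzn : z' * z' = z' + n * t := by exact_mod_cast hzz
  have hz1 : 2 ≤ z' := by
    have : 0 < n * t := Nat.mul_pos hn ht
    by_contra hcon
    rcases (show z' = 0 ∨ z' = 1 by omega) with h | h <;> rw [h] at hzn <;> omega
  have hd1 : z' ∣ n * p + 1 := by
    rw [hc'] at hdvd
    exact Nat.dvd_of_mul_dvd_mul_left (by omega) hdvd
  have hd2 : z' ∣ n * t := (Nat.dvd_add_right (dvd_refl z')).mp (hzn ▸ dvd_mul_right z' z')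
  have hd3 : z' ∣ n + 1 := by
    have h : n * p + 1 = q * (n * t) + (n + 1) := by rw [hpq]; ring
    rw [h] at hd1
    exact (Nat.dvd_add_right (hd2.mul_left q)).mp hd1
  obtain ⟨t₁, ht1⟩ : z' ∣ t := by
    have h : (n + 1) * t = n * t + t := by ring
    exact (Nat.dvd_add_right hd2).mp (h ▸ hd3.mul_right t)
  have hz2 : z' = 1 + n * t₁ := by
    apply Nat.eq_of_mul_eq_mul_left (show 0 < z' by omega)
    rw [hzn, ht1]; ring
  have ht10 : 0 < t₁ := Nat.pos_of_ne_zero fun h => by rw [h, mul_zero] at ht1; omega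
  have hk0 : 0 < k := Nat.pos_of_ne_zero fun h => by rw [h, mul_zero] at hk; omega
  have hk' : z' * (t₁ * k) = n + 1 := by rw [← mul_assoc, ← ht1, hk]
  have hle : n ≤ n * t₁ := Nat.le_mul_of_pos_right n ht10
  have htk : t₁ * k = 1 := by
    by_contra hne
    have : 2 ≤ t₁ * k := by have := Nat.mul_pos ht10 hk0; omega
    have := Nat.mul_le_mul_left z' this
    omega
  have ht11 : t₁ = 1 := Nat.eq_one_of_mul_eq_one_right htk
  have hk11 : k = 1 := Nat.eq_one_of_mul_eq_one_left htk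
  subst ht11 hk11
  rw [mul_one] at ht1
  subst ht1
  refine ⟨hc', rfl, ?_⟩
  have hkz : (n : ℤ) + 1 = (t : ℤ) := by exact_mod_cast hk.trans (mul_one _)
  have hcq : (c : ℤ) = q * t := by exact_mod_cast hc'
  linear_combination -hQ + hcq - hkz

/-- What is known about an involution inverting `x` in the negative case. -/
structure Inverting (G : Type*) [Group G] [Fintype G] (p q t n f : ℕ) (x : G) (D : BData G p q t n f 1 x) where
  s : G
  sq : s * s = 1
  order_s : orderOf s = 2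
  inverts_s : s * x * s⁻¹ = x⁻¹
  cent_s : Nat.card (centralizer ({s} : Set G)) = q * t
  n_eq : n + 1 = t
  deg_s : ∀ χ ∈ D.O, (deg χ : ℤ) = p * intVal χ sq
  val_B0 : ∀ χ ∈ D.B, intVal χ sq = 0
  sum_T0 : ∀ θ ∈ D.T, 1 + ∑ χ ∈ D.A, intVal χ sq + intVal θ sq = 0
  card_B : D.B.card = D.A.card * n + 1
  q_eq : D.A.card * t + 2 = q
  sum_O : ∑ χ ∈ D.O, deg χ ^ 2 = p ^ 2 * n
  pairs_x : Nat.card {z : G × G // IsConj s z.1 ∧ IsConj s z.2 ∧ z.1 * z.2 = x} = p

set_option maxHeartbeats 800000 in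
theorem BData.exists_inverting (L : Loc G p x) {q t n f : ℕ} (D : BData G p q t n f 1 x) (hq : 2 ≤ q)
    (ht : 0 < t) (hn : 0 < n)
    (hpq : p = q * t + 1) (hf : t * f = n * p + 1) (hcard : Nat.card G = p * (q * (n * p + 1)))
    {P : Sylow p G} (hPx : (P : Subgroup G) = zpowers x)
    (hN : Nat.card (normalizer ((P : Subgroup G) : Set G)) = p * q) :
    Nonempty (Inverting G p q t n f x D) := by
  classical
  have hp : p.Prime := Fact.out
  haveI : Fact (Nat.Prime 2) := ⟨Nat.prime_two⟩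
  have hp2 : p ≠ 2 := by have := Nat.le_mul_of_pos_right q ht; omega
  obtain ⟨k, hk1, hk2, ha, hb, hO⟩ := D.exists_k L ht hpq hf hcard
  have h2q := D.even_q L hq ht hpq hf hcard hPx hN
  obtain ⟨⟨s, hsN⟩, hs⟩ := exists_prime_orderOf_dvd_card'
    (G := normalizer ((P : Subgroup G) : Set G)) 2 (hN ▸ h2q.mul_left p)
  rw [Subgroup.orderOf_mk] at hs
  rw [hPx] at hsN
  have hss : s * s = 1 := by rw [← pow_two, ← hs, pow_orderOf_eq_one]
  have hs1 : s ≠ 1 := fun h => by rw [h, orderOf_one] at hs; norm_num at hs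
  have hinv := PrimeOrderChar.inverts L.order hp2 L.cent hsN hs
  have hpairs := PrimeOrderChar.card_pairs L.order hp2 L.cent hsN hs
  choose m hm using fun χ : Cfsg.IrrCharacter G => sumP_nat L (CfsgLib.Char.isCharacter_of_isIrr χ.2)
  have hbound : ∀ χ, |intVal χ hss| ≤ (m χ : ℤ) := fun χ =>
    abs_value_le L hss hinv (CfsgLib.Char.isCharacter_of_isIrr χ.2) (intVal_spec χ hss) (hm χ)
  have hp0 : (p : ℂ) ≠ 0 := by exact_mod_cast hp.ne_zero
  have hB : ∀ χ ∈ D.B, intVal χ hss = 0 := fun χ hχ => by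
    have h1 := (hm χ).symm.trans (D.sumP_B L hχ)
    have h2 : m χ = 0 := by exact_mod_cast (mul_eq_zero.mp h1).resolve_left hp0
    have h3 := hbound χ
    rw [h2, Nat.cast_zero] at h3
    exact abs_nonpos_iff.mp h3
  obtain ⟨θ₀, hθ₀⟩ := Finset.card_pos.mp (lt_of_lt_of_eq ht D.card_T.symm)
  have hsp : ¬ p ∣ orderOf s := by rw [hs, Nat.prime_dvd_prime_iff_eq hp Nat.prime_two]; exact hp2
  have hW : ∀ θ ∈ D.T, intVal θ hss = intVal θ₀ hss := fun θ hθ => by
    have h := D.eq_T θ hθ θ₀ hθ₀ s hsp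
    rw [intVal_spec θ hss, intVal_spec θ₀ hss] at h
    exact_mod_cast h
  set W := intVal θ₀ hss with hWdef
  -- `(x, s)`
  have hxs : 1 + ∑ χ ∈ D.A, intVal χ hss + W = 0 := by
    have h := CfsgLib.Char.second_orthogonality s x
    rw [if_neg (not_isConj_of_sq hp2 L.order hs), D.split,
      Finset.sum_congr rfl fun χ hχ => by rw [intVal_spec χ hss, D.val_A χ hχ x (mem_zpowers x) L.ne_one, map_one, mul_one],
      Finset.sum_congr (s₁ := D.B) rfl fun χ hχ => by rw [intVal_spec χ hss, hB χ hχ, Int.cast_zero, zero_mul],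
      Finset.sum_congr (s₁ := D.T) rfl fun χ hχ => by rw [intVal_spec χ hss, hW χ hχ],
      Finset.sum_congr (s₁ := D.O) rfl fun χ hχ => by rw [D.val_O χ hχ x (mem_zpowers x) L.ne_one, map_zero, mul_zero],
      Finset.sum_const_zero, Finset.sum_const_zero, ← Finset.mul_sum, ← map_sum,
      D.sum_T x (mem_zpowers x) L.ne_one, CfsgLib.Char.irrOne_apply, CfsgLib.Char.irrOne_apply, Int.cast_one,
      map_one, mul_one, mul_one, add_zero, add_zero] at h
    apply Int.cast_injective (α := ℂ)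
    push_cast
    exact h
  -- the characters of degree divisible by `p`
  have h1s : ∑ χ ∈ D.O, (deg χ : ℤ) * intVal χ hss = n * p := by
    have h := sum_deg_mul_intVal hss hs1
    have h' : ((∑ χ, (deg χ : ℤ) * intVal χ hss : ℤ) : ℂ) = 0 := by rw [h, Int.cast_zero]
    rw [Int.cast_sum, D.split,
      Finset.sum_congr rfl fun χ hχ => by rw [D.deg_A χ hχ, Int.cast_mul],
      Finset.sum_congr (s₁ := D.B) rfl fun χ hχ => by rw [hB χ hχ, mul_zero, Int.cast_zero],
      Finset.sum_congr (s₁ := D.T) rfl fun χ hχ => by rw [D.deg_T χ hχ, hW χ hχ],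
      Finset.sum_const_zero, Finset.sum_const, D.card_T, deg_irrOne, intVal_irrOne, ← Finset.mul_sum,
      nsmul_eq_mul] at h'
    apply Int.cast_injective (α := ℂ)
    have hxs' : (1 : ℂ) + ∑ χ ∈ D.A, (intVal χ hss : ℂ) + (W : ℂ) = 0 := by exact_mod_cast congrArg (Int.cast : ℤ → ℂ) hxs
    have hfc : (t : ℂ) * f = n * p + 1 := by exact_mod_cast hf
    push_cast at h' ⊢
    linear_combination h' - ((n : ℂ) * p + 1) * hxs' - (W : ℂ) * hfc
  have hdeg : ∀ χ ∈ D.O, (deg χ : ℤ) = p * intVal χ hss := by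
    have hle : ∀ χ ∈ D.O, (p : ℤ) ^ 2 * intVal χ hss ^ 2 ≤ (deg χ : ℤ) ^ 2 := fun χ hχ => by
      have h1 := (hm χ).symm.trans (D.sumP_O L hχ)
      have h2 : (p : ℤ) * m χ = deg χ := by exact_mod_cast h1
      rw [← h2, mul_pow]
      refine mul_le_mul_of_nonneg_left ?_ (sq_nonneg _)
      rw [← sq_abs (intVal χ hss)]
      exact pow_le_pow_left₀ (abs_nonneg _) (hbound χ) 2
    have hOz : ∑ χ ∈ D.O, (deg χ : ℤ) ^ 2 = (p : ℤ) ^ 2 * n := by exact_mod_cast hO
    have h3 : ∑ χ ∈ D.O, ((deg χ : ℤ) - p * intVal χ hss) ^ 2 ≤ 0 := by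
      have h4 := Finset.sum_le_sum hle
      rw [hOz, ← Finset.mul_sum] at h4
      have h5 : ∑ χ ∈ D.O, ((deg χ : ℤ) - p * intVal χ hss) ^ 2 = ∑ χ ∈ D.O, (deg χ : ℤ) ^ 2 -
          2 * p * ∑ χ ∈ D.O, (deg χ : ℤ) * intVal χ hss + (p : ℤ) ^ 2 * ∑ χ ∈ D.O, intVal χ hss ^ 2 := by
        rw [Finset.mul_sum, Finset.mul_sum, ← Finset.sum_sub_distrib, ← Finset.sum_add_distrib]
        exact Finset.sum_congr rfl fun χ _ => by ring
      rw [h5, hOz, h1s]
      nlinarith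
    intro χ hχ
    have h6 := (Finset.sum_eq_zero_iff_of_nonneg fun ψ _ => sq_nonneg _).mp
      (le_antisymm h3 (Finset.sum_nonneg fun ψ _ => sq_nonneg _)) χ hχ
    exact sub_eq_zero.mp (pow_eq_zero_iff two_ne_zero |>.mp h6)
  have hO2 : ∑ χ ∈ D.O, intVal χ hss ^ 2 = (n : ℤ) := by
    have hOz : ∑ χ ∈ D.O, (deg χ : ℤ) ^ 2 = (p : ℤ) ^ 2 * n := by exact_mod_cast hO
    rw [Finset.sum_congr rfl fun χ hχ => by rw [hdeg χ hχ, mul_pow], ← Finset.mul_sum] at hOz
    exact mul_left_cancel₀ (pow_ne_zero 2 (by exact_mod_cast hp.ne_zero)) hOz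
  set c := Nat.card (centralizer ({s} : Set G)) with hc
  set Q : ℤ := ∑ χ ∈ D.A, intVal χ hss ^ 2 + (t : ℤ) * W ^ 2 with hQ
  have hcQ : (c : ℤ) = 1 + Q + n := by
    have h := sum_intVal_sq hss
    have h' : ((∑ χ, intVal χ hss ^ 2 : ℤ) : ℂ) = ((c : ℤ) : ℂ) := by rw [h]
    rw [Int.cast_sum, D.split,
      Finset.sum_congr (s₁ := D.B) rfl fun χ hχ => by rw [hB χ hχ, zero_pow two_ne_zero, Int.cast_zero],
      Finset.sum_congr (s₁ := D.T) rfl fun χ hχ => by rw [hW χ hχ],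
      Finset.sum_const_zero, Finset.sum_const, D.card_T, intVal_irrOne, nsmul_eq_mul] at h'
    apply Int.cast_injective (α := ℂ)
    have hO2' : ∑ χ ∈ D.O, ((intVal χ hss : ℂ)) ^ 2 = (n : ℂ) := by exact_mod_cast congrArg (Int.cast : ℤ → ℂ) hO2
    rw [hQ]
    push_cast at h' ⊢
    linear_combination -h' + hO2'
  have hc2 : (c : ℤ) ^ 2 = q * (n * p + 1) + q * Q := by
    have h := D.pairs_formula L hf hss hB hθ₀ hsp
    rw [hpairs, hcard, ← hc, ← hWdef, add_assoc, ← hQ] at h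
    push_cast at h
    apply mul_left_cancel₀ (mul_ne_zero (by exact_mod_cast hp.ne_zero : (p : ℤ) ≠ 0)
      (by exact_mod_cast Nat.succ_ne_zero (n * p) : ((n : ℤ) * p + 1) ≠ 0))
    linear_combination h
  have hdvd : c ∣ q * (n * p + 1) :=
    (Nat.Coprime.dvd_mul_left ((hp.coprime_iff_not_dvd.mpr (L.not_dvd_centralizer hsp hs1)).symm)).mp
      (hcard ▸ card_subgroup_dvd_card _)
  obtain ⟨hct, hk, -⟩ := involution_arith hq hn ht hpq hk1 hcQ hc2 hdvd
  subst hk
  rw [mul_one] at hk1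
  exact ⟨{ s := s, sq := hss, order_s := hs, inverts_s := hinv, cent_s := hct, n_eq := hk1, deg_s := hdeg,
           val_B0 := hB, sum_T0 := fun θ hθ => by rw [hW θ hθ]; exact hxs, card_B := hb,
           q_eq := by rw [hk1] at ha; omega, sum_O := hO, pairs_x := hpairs }⟩

end CfsgLib.SmallGroups.BrauerFew
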