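import Cfsg.Agent.Lib.SmallGroups.BrauerFew.Sums
import Cfsg.Agent.Lib.SmallGroups.InvertingInvolution
import Cfsg.Agent.Lib.Char.DefectZero
import Mathlib

/-!
Exceptional characters of degree `(n p + 1) / t`: an involution inverting `x` has centraliser of
order `q t`, `n = t - 1`, and then `q = 2` or `t ≤ 2`.
-/

set_option autoImplicit false

namespace CfsgLib.SmallGroups.BrauerFew

open Subgroup CfsgLib.InvolChar
open scoped ComplexConjugate

variable {G : Type*} [Group G] [Fintype G] {p : ℕ} [Fact p.Prime] {x : G}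

/-- `t` exceptional characters, `n + 1 = t k`. -/
theorem BData.exists_k (L : Loc G p x) {q t n f : ℕ} (D : BData G p q t n f 1 x) (ht : 0 < t)
    (hpq : p = q * t + 1) (hf : t * f = n * p + 1)
    (hcard : Nat.card G = p * (q * (n * p + 1))) :
    ∃ k : ℕ, n + 1 = t * k ∧ f + q = p * k ∧ D.A.card * (n + 1) + k + 1 = q ∧
      D.B.card = D.A.card * n + k ∧ ∑ χ ∈ D.O, deg χ ^ 2 = p ^ 2 * n := by
  classical
  have hp : p.Prime := Fact.out
  have hco : p.Coprime t := hp.coprime_iff_not_dvd.mpr fun h => by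
    have := Nat.le_of_dvd ht h
    rcases Nat.eq_zero_or_pos q with rfl | hq
    · exact hp.ne_one (by omega)
    · have := Nat.le_mul_of_pos_left t hq; omega
  have h1 : t * (f + q) = p * (n + 1) := by
    have : t * (f + q) = t * f + q * t := by ring
    have : p * (n + 1) = n * p + p := by ring
    omega
  obtain ⟨k, hk⟩ : p ∣ f + q := hco.dvd_mul_left.mp ⟨n + 1, h1⟩
  have hk1 : n + 1 = t * k := by
    apply Nat.eq_of_mul_eq_mul_left hp.pos
    rw [← h1, hk]; ring
  -- the column at `x` against the column at `1`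
  have hcol := CfsgLib.Char.sum_degree_mul_apply x
  rw [if_neg L.ne_one, D.split,
    Finset.sum_congr rfl fun χ hχ => by rw [deg_spec χ, D.deg_A χ hχ, D.val_A χ hχ x (mem_zpowers x) L.ne_one],
    Finset.sum_congr (s₁ := D.B) rfl fun χ hχ => by
      rw [deg_spec χ, D.deg_B χ hχ, D.val_B χ hχ x (mem_zpowers x) L.ne_one],
    Finset.sum_congr (s₁ := D.T) rfl fun χ hχ => by rw [deg_spec χ, D.deg_T χ hχ],
    Finset.sum_congr (s₁ := D.O) rfl fun χ hχ => by rw [D.val_O χ hχ x (mem_zpowers x) L.ne_one, mul_zero],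
    Finset.sum_const_zero, Finset.sum_const, Finset.sum_const, nsmul_eq_mul, nsmul_eq_mul, ← Finset.mul_sum,
    D.sum_T x (mem_zpowers x) L.ne_one, CfsgLib.Char.irrOne_apply, CfsgLib.Char.irrOne_apply,
    Nat.cast_sub hp.one_le] at hcol
  have hz : (1 : ℤ) + (D.A.card : ℤ) * (n * p + 1) - (D.B.card : ℤ) * (p - 1) + f = 0 := by
    apply Int.cast_injective (α := ℂ)
    push_cast at hcol ⊢
    linear_combination hcol
  have hab : (D.A.card : ℤ) + D.B.card + 1 = q := by exact_mod_cast D.card_AB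
  have hkz : (f : ℤ) + q = p * k := by exact_mod_cast hk
  have hb : (D.B.card : ℤ) = D.A.card * n + k := by
    apply mul_left_cancel₀ (by exact_mod_cast hp.ne_zero : (p : ℤ) ≠ 0)
    linear_combination -hz + hab + hkz
  have hb' : D.B.card = D.A.card * n + k := by exact_mod_cast hb
  have ha' : D.A.card * (n + 1) + k + 1 = q := by
    have := D.card_AB
    rw [hb'] at this
    rw [mul_add, mul_one]; omega
  refine ⟨k, hk1, hk, ha', hb', ?_⟩
  -- the sum of the squares of the degrees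
  have hsq := CfsgLib.Char.sum_degree_sq (G := G)
  rw [D.split, Finset.sum_congr rfl fun χ hχ => by rw [deg_spec χ, D.deg_A χ hχ],
    Finset.sum_congr (s₁ := D.B) rfl fun χ hχ => by rw [deg_spec χ, D.deg_B χ hχ],
    Finset.sum_congr (s₁ := D.T) rfl fun χ hχ => by rw [deg_spec χ, D.deg_T χ hχ],
    Finset.sum_congr (s₁ := D.O) rfl fun χ _ => by rw [deg_spec χ],
    Finset.sum_const, Finset.sum_const, Finset.sum_const, nsmul_eq_mul, nsmul_eq_mul, nsmul_eq_mul,
    D.card_T, CfsgLib.Char.irrOne_apply, Nat.cast_sub hp.one_le, hb'] at hsq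
  have hG : (Nat.card G : ℂ) = (p : ℂ) * (q * (n * p + 1)) := by exact_mod_cast hcard
  rw [hG] at hsq
  apply Nat.cast_injective (R := ℂ)
  have hpc : (p : ℂ) = q * t + 1 := by exact_mod_cast hpq
  have hfc : (t : ℂ) * f = n * p + 1 := by exact_mod_cast hf
  have hkc : (f : ℂ) + q = p * k := by exact_mod_cast hk
  have hk1c : (n : ℂ) + 1 = t * k := by exact_mod_cast hk1
  have hac : (D.A.card : ℂ) * (n + 1) + k + 1 = q := by exact_mod_cast ha'
  push_cast at hsq ⊢
  linear_combination hsq - (n * p ^ 2 + 1) * hac - (f : ℂ) * hfc - (n * p + 1) * hkc -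
    (k : ℂ) * p * hpc + (p : ℂ) * q * hk1c

omit [Fact p.Prime] in
theorem not_isConj_of_sq (hp2 : p ≠ 2) (hx : orderOf x = p) {s : G} (hs : orderOf s = 2) : ¬ IsConj s x :=
  fun h => hp2 (by rw [← hx, CfsgLib.Invol.orderOf_eq_of_isConj h.symm, hs])

/-- The pairs of conjugates of an involution `s` with product `x`, when `s` vanishes on `B`. -/
theorem BData.pairs_formula (L : Loc G p x) {q t n f : ℕ} (D : BData G p q t n f 1 x)
    (hf : t * f = n * p + 1) {s : G} (hss : s * s = 1) (hB : ∀ χ ∈ D.B, intVal χ hss = 0)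
    {θ₀ : Cfsg.IrrCharacter G} (hθ₀ : θ₀ ∈ D.T) (hsp : ¬ p ∣ orderOf s) :
    (Nat.card (centralizer ({s} : Set G)) : ℤ) ^ 2 *
        (Nat.card {z : G × G // IsConj s z.1 ∧ IsConj s z.2 ∧ z.1 * z.2 = x} : ℤ) * ((n * p + 1 : ℕ) : ℤ) =
      (Nat.card G : ℤ) * (((n * p + 1 : ℕ) : ℤ) + ∑ χ ∈ D.A, intVal χ hss ^ 2 + (t : ℤ) * intVal θ₀ hss ^ 2) := by
  classical
  have hW : ∀ θ ∈ D.T, (θ : G → ℂ) s = (intVal θ₀ hss : ℂ) := fun θ hθ => by
    rw [D.eq_T θ hθ θ₀ hθ₀ s hsp, intVal_spec θ₀ hss]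
  have hf0 : (f : ℂ) ≠ 0 := by
    intro h
    have h' : f = 0 := by exact_mod_cast h
    rw [h', mul_zero] at hf; omega
  have hcI : (Nat.card {y : G // IsConj s y} : ℂ) * (Nat.card (centralizer ({s} : Set G)) : ℂ) = (Nat.card G : ℂ) := by
    exact_mod_cast CfsgLib.Invol.card_conjugates_mul s
  have h := CfsgLib.Char.card_classProduct_eq s s x
  rw [D.split, Finset.sum_congr rfl fun χ hχ => by
      rw [intVal_spec χ hss, D.val_A χ hχ x (mem_zpowers x) L.ne_one, deg_spec χ, D.deg_A χ hχ, map_one, mul_one,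
        ← pow_two],
    Finset.sum_congr (s₁ := D.B) rfl fun χ hχ => by
      rw [intVal_spec χ hss, hB χ hχ, Int.cast_zero, zero_mul, zero_mul, zero_div],
    Finset.sum_congr (s₁ := D.T) rfl fun χ hχ => by
      rw [hW χ hχ, deg_spec χ, D.deg_T χ hχ, mul_div_right_comm],
    Finset.sum_congr (s₁ := D.O) rfl fun χ hχ => by
      rw [D.val_O χ hχ x (mem_zpowers x) L.ne_one, map_zero, mul_zero, zero_div],
    Finset.sum_const_zero, Finset.sum_const_zero, ← Finset.mul_sum, ← map_sum, D.sum_T x (mem_zpowers x) L.ne_one,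
    ← Finset.sum_div, CfsgLib.Char.irrOne_apply, CfsgLib.Char.irrOne_apply, CfsgLib.Char.irrOne_apply,
    Int.cast_one, map_one, mul_one, mul_one, div_one, add_zero, add_zero] at h
  have hnp : ((n * p + 1 : ℕ) : ℂ) ≠ 0 := Nat.cast_ne_zero.mpr (Nat.succ_ne_zero _)
  have hfc : (t : ℂ) * f = ((n * p + 1 : ℕ) : ℂ) := by exact_mod_cast hf
  apply Int.cast_injective (α := ℂ)
  push_cast
  have hG0 : (Nat.card G : ℂ) ≠ 0 := by exact_mod_cast Nat.card_pos.ne'
  have hI : (Nat.card {z : G × G // IsConj s z.1 ∧ IsConj s z.2 ∧ z.1 * z.2 = x} : ℂ) *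
      (Nat.card (centralizer ({s} : Set G)) : ℂ) ^ 2 = (Nat.card G : ℂ) *
        (1 + (∑ χ ∈ D.A, (intVal χ hss : ℂ) ^ 2) / ((n * p + 1 : ℕ) : ℂ) +
          (intVal θ₀ hss : ℂ) * (intVal θ₀ hss : ℂ) / (f : ℂ)) := by
    rw [h]
    field_simp
    rw [← hcI]
    ring
  push_cast at hI hnp hfc
  field_simp at hI
  apply mul_left_cancel₀ hf0
  linear_combination hI - (Nat.card G : ℂ) * (intVal θ₀ hss : ℂ) ^ 2 * hfc

end CfsgLib.SmallGroups.BrauerFew
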