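import Cfsg.Agent.Lib.SmallGroups.BrauerFew.Block
import Mathlib

/-!
Sums of a character over the subgroup `⟨x⟩`, and their bound for the value at an inverting involution.
-/

set_option autoImplicit false

namespace CfsgLib.SmallGroups.BrauerFew

open Subgroup CfsgLib.InvolChar
open scoped ComplexConjugate

variable {G : Type*} [Group G] [Fintype G] {p : ℕ} [Fact p.Prime] {x : G}

/-- The sum of a function over `⟨x⟩`. -/
noncomputable def sumP (x : G) (χ : G → ℂ) : ℂ := ∑ᶠ u : zpowers x, χ u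

theorem sumP_eq [Fintype (zpowers x)] (χ : G → ℂ) : sumP x χ = ∑ u : zpowers x, χ u :=
  finsum_eq_sum_of_fintype _

theorem sumP_nat (L : Loc G p x) {χ : G → ℂ} (hχ : Cfsg.IsCharacter G χ) :
    ∃ m : ℕ, sumP x χ = (p : ℂ) * m := by
  classical
  obtain ⟨m, hm⟩ := CfsgLib.Char.classInner_char_nat (CfsgLib.Char.isCharacter_res (zpowers x) hχ)
    CfsgLib.Char.isCharacter_one
  refine ⟨m, ?_⟩
  rw [sumP_eq, ← hm, CfsgLib.Char.classInner_one_right, L.card_zpowers_eq, mul_inv_cancel_left₀]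
  exact_mod_cast (Fact.out : p.Prime).ne_zero

theorem sumP_const (L : Loc G p x) {χ : G → ℂ} {σ : ℂ} (h : ∀ u ∈ zpowers x, u ≠ 1 → χ u = σ) :
    sumP x χ = χ 1 + ((p : ℂ) - 1) * σ := by
  classical
  rw [sumP_eq, ← Finset.add_sum_erase _ _ (Finset.mem_univ 1), Finset.sum_congr rfl fun (u : zpowers x) hu =>
    h (u : G) u.2 fun e => Finset.ne_of_mem_erase hu (Subtype.ext e), Finset.sum_const,
    Finset.card_erase_of_mem (Finset.mem_univ _), Finset.card_univ, ← Nat.card_eq_fintype_card,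
    L.card_zpowers_eq, nsmul_eq_mul, Nat.cast_sub (Fact.out : p.Prime).one_le, Nat.cast_one,
    OneMemClass.coe_one]

theorem sumP_finset_sum {ι : Type*} (S : Finset ι) (F : ι → G → ℂ) :
    sumP x (fun g => ∑ i ∈ S, F i g) = ∑ i ∈ S, sumP x (F i) := by
  classical
  simp only [sumP_eq]
  exact Finset.sum_comm

omit [Fintype G] in
theorem zmod_pow_add (hx : orderOf x = p) (a b : ZMod p) : x ^ (a + b).val = x ^ a.val * x ^ b.val := by
  haveI : NeZero p := ⟨(Fact.out : p.Prime).ne_zero⟩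
  rw [← pow_add, ZMod.val_add]
  conv_rhs => rw [← pow_mod_orderOf, hx]

/-- The value at an involution inverting `x` is bounded by the average over `⟨x⟩`. -/
theorem abs_value_le (L : Loc G p x) {s : G} (hss : s * s = 1) (hinv : s * x * s⁻¹ = x⁻¹)
    {χ : G → ℂ} (hχ : Cfsg.IsCharacter G χ) {v : ℤ} (hv : χ s = (v : ℂ)) {m : ℕ}
    (hm : sumP x χ = (p : ℂ) * m) : |v| ≤ (m : ℤ) := by
  classical
  have hp : p.Prime := Fact.out
  haveI : NeZero p := ⟨hp.ne_zero⟩
  have hx := L.order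
  have hneg : ∀ a : ZMod p, x ^ (-a).val = (x ^ a.val)⁻¹ := fun a => by
    apply eq_inv_of_mul_eq_one_left
    rw [← zmod_pow_add hx, neg_add_cancel, ZMod.val_zero, pow_zero]
  have hs : ∀ a : ZMod p, s * x ^ a.val = x ^ (-a).val * s := fun a => by
    rw [hneg, ← inv_pow, ← hinv, conj_pow, inv_mul_cancel_right]
  let φ : DihedralGroup p →* G := MonoidHom.mk' (fun g => match g with
      | DihedralGroup.r i => x ^ i.val
      | DihedralGroup.sr i => s * x ^ i.val) (by
    rintro (i | i) (j | j)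
    · rw [DihedralGroup.r_mul_r]; exact zmod_pow_add hx i j
    · rw [DihedralGroup.r_mul_sr]
      show s * x ^ (j - i).val = x ^ i.val * (s * x ^ j.val)
      rw [← mul_assoc, show x ^ i.val * s = s * x ^ (-i).val by rw [hs, neg_neg], mul_assoc,
        ← zmod_pow_add hx, sub_eq_neg_add]
    · rw [DihedralGroup.sr_mul_r]
      show s * x ^ (i + j).val = s * x ^ i.val * x ^ j.val
      rw [zmod_pow_add hx, mul_assoc]
    · rw [DihedralGroup.sr_mul_sr]
      show x ^ (j - i).val = s * x ^ i.val * (s * x ^ j.val)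
      rw [hs i, mul_assoc, ← mul_assoc s s, hss, one_mul, ← zmod_pow_add hx, sub_eq_neg_add])
  let sgf : DihedralGroup p → ℂ := fun g => match g with
    | DihedralGroup.r _ => 1
    | DihedralGroup.sr _ => -1
  let sg : DihedralGroup p →* ℂ :=
    { toFun := sgf
      map_one' := rfl
      map_mul' := by rintro (i | i) (j | j) <;> simp [sgf] }
  obtain ⟨k₁, hk₁⟩ := CfsgLib.Char.classInner_char_nat (CfsgLib.Char.isCharacter_comp hχ φ)
    CfsgLib.Char.isCharacter_one
  obtain ⟨k₂, hk₂⟩ := CfsgLib.Char.classInner_char_nat (CfsgLib.Char.isCharacter_comp hχ φ)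
    (CfsgLib.Char.isCharacter_of_isIrr (CfsgLib.Char.isIrrCharacter_hom sg))
  rw [CfsgLib.Char.classInner_one_right] at hk₁
  rw [CfsgLib.Char.classInner_def] at hk₂
  let e : ZMod p ⊕ ZMod p ≃ DihedralGroup p :=
    { toFun := Sum.elim DihedralGroup.r DihedralGroup.sr
      invFun := fun g => match g with
        | DihedralGroup.r i => Sum.inl i
        | DihedralGroup.sr i => Sum.inr i
      left_inv := by rintro (i | i) <;> rfl
      right_inv := by rintro (i | i) <;> rfl }
  have hr : ∑ i : ZMod p, χ (x ^ i.val) = sumP x χ := by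
    rw [sumP_eq]
    refine Fintype.sum_bijective (fun i : ZMod p => (⟨x ^ i.val, pow_mem (mem_zpowers x) _⟩ : zpowers x))
      ((Fintype.bijective_iff_injective_and_card _).mpr ⟨fun i j h => ?_, ?_⟩) _ _ fun _ => rfl
    · have h' : x ^ i.val = x ^ j.val := congrArg Subtype.val h
      rw [pow_inj_mod, hx, Nat.mod_eq_of_lt i.val_lt, Nat.mod_eq_of_lt j.val_lt] at h'
      exact ZMod.val_injective _ h'
    · rw [ZMod.card, ← Nat.card_eq_fintype_card, L.card_zpowers_eq]
  have hsr : ∑ i : ZMod p, χ (s * x ^ i.val) = (p : ℂ) * v := by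
    have hconst : ∀ i : ZMod p, χ (s * x ^ i.val) = χ s := fun i => by
      obtain ⟨j, rfl⟩ : ∃ j : ZMod p, i = j + j := by
        refine ⟨i * (2 : ZMod p)⁻¹, ?_⟩
        rw [← mul_two, mul_assoc]
        by_cases h2 : (2 : ZMod p) = 0
        · exfalso
          obtain rfl : p = 2 := by
            exact ((Nat.prime_dvd_prime_iff_eq hp Nat.prime_two).mp
              ((ZMod.natCast_eq_zero_iff 2 p).mp (by exact_mod_cast h2)))
          obtain ⟨P, hPx, -⟩ := L.exists_sylow
          obtain ⟨q, t, n, hq, ht, -, hpq, -⟩ := L.exists_numbers P hPx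
          have := Nat.le_mul_of_pos_right q ht
          omega
        · rw [inv_mul_cancel₀ h2, mul_one]
      have : s * x ^ (j + j).val = (x ^ j.val)⁻¹ * s * ((x ^ j.val)⁻¹)⁻¹ := by
        rw [inv_inv, ← hneg, ← hs, zmod_pow_add hx, mul_assoc]
      rw [this]
      exact CfsgLib.Char.isClassFunction_of_isCharacter hχ _ _
    rw [Finset.sum_congr rfl fun i _ => hconst i, Finset.sum_const, Finset.card_univ, ZMod.card, nsmul_eq_mul, hv]
  rw [← e.sum_comp, Fintype.sum_sum_type] at hk₁ hk₂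
  have hcard : (Nat.card (DihedralGroup p) : ℂ) = 2 * p := by rw [DihedralGroup.nat_card]; push_cast; ring
  have a1 : (p : ℂ) * m + (p : ℂ) * v = 2 * p * k₁ := by
    have h : (∑ i : ZMod p, χ (x ^ i.val)) + ∑ i : ZMod p, χ (s * x ^ i.val) =
        (Nat.card (DihedralGroup p) : ℂ) * k₁ := by
      rw [← hk₁, mul_inv_cancel_left₀ (by rw [hcard]; exact_mod_cast (by have := hp.pos; omega : 2 * p ≠ 0))]
      rfl
    rw [hr, hsr, hm, hcard] at h
    exact h
  have a2 : (p : ℂ) * m - (p : ℂ) * v = 2 * p * k₂ := by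
    have h : (∑ i : ZMod p, χ (x ^ i.val)) - ∑ i : ZMod p, χ (s * x ^ i.val) =
        (Nat.card (DihedralGroup p) : ℂ) * k₂ := by
      rw [← hk₂, mul_inv_cancel_left₀ (by rw [hcard]; exact_mod_cast (by have := hp.pos; omega : 2 * p ≠ 0)),
        sub_eq_add_neg, ← Finset.sum_neg_distrib]
      congr 1
      · exact Finset.sum_congr rfl fun i _ => by
          show _ = χ (x ^ i.val) * conj (1 : ℂ)
          rw [map_one, mul_one]
      · exact Finset.sum_congr rfl fun i _ => by
          show _ = χ (s * x ^ i.val) * conj (-1 : ℂ)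
          rw [map_neg, map_one, mul_neg_one]
    rw [hr, hsr, hm, hcard] at h
    exact h
  have hp0 : (p : ℤ) ≠ 0 := by exact_mod_cast hp.ne_zero
  have b1 : (m : ℤ) + v = 2 * k₁ := by
    apply mul_left_cancel₀ hp0
    have : ((p : ℤ) : ℂ) * ((m : ℤ) + v) = ((p : ℤ) : ℂ) * (2 * (k₁ : ℤ)) := by push_cast; linear_combination a1
    exact_mod_cast this
  have b2 : (m : ℤ) - v = 2 * k₂ := by
    apply mul_left_cancel₀ hp0
    have : ((p : ℤ) : ℂ) * ((m : ℤ) - v) = ((p : ℤ) : ℂ) * (2 * (k₂ : ℤ)) := by push_cast; linear_combination a2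
    exact_mod_cast this
  rw [abs_le]; omega

variable {q t n f : ℕ} {τ : ℤ}

theorem BData.sumP_A (L : Loc G p x) (D : BData G p q t n f τ x) {χ : Cfsg.IrrCharacter G} (hχ : χ ∈ D.A) :
    sumP x (χ : G → ℂ) = (p : ℂ) * ((n + 1 : ℕ) : ℂ) := by
  rw [sumP_const L (D.val_A χ hχ), deg_spec χ, D.deg_A χ hχ]
  push_cast; ring

theorem BData.sumP_B (L : Loc G p x) (D : BData G p q t n f τ x) {χ : Cfsg.IrrCharacter G} (hχ : χ ∈ D.B) :
    sumP x (χ : G → ℂ) = 0 := by
  rw [sumP_const L (D.val_B χ hχ), deg_spec χ, D.deg_B χ hχ, Nat.cast_sub (Fact.out : p.Prime).one_le]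
  push_cast; ring

theorem BData.sumP_O (L : Loc G p x) (D : BData G p q t n f τ x) {χ : Cfsg.IrrCharacter G} (hχ : χ ∈ D.O) :
    sumP x (χ : G → ℂ) = (deg χ : ℂ) := by
  rw [sumP_const L (D.val_O χ hχ), deg_spec χ, mul_zero, add_zero]

theorem BData.sumP_T (L : Loc G p x) (D : BData G p q t n f τ x) :
    ∑ χ ∈ D.T, sumP x (χ : G → ℂ) = (t : ℂ) * f + ((p : ℂ) - 1) * τ := by
  rw [← sumP_finset_sum, sumP_const L (σ := (τ : ℂ)) fun u hu h1 => D.sum_T u hu h1,
    Finset.sum_congr rfl fun χ hχ => by rw [deg_spec χ, D.deg_T χ hχ], Finset.sum_const, D.card_T,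
    nsmul_eq_mul]

end CfsgLib.SmallGroups.BrauerFew
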