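import Cfsg.Agent.Lib.SmallGroups.BrauerFew.TuanTwo
import Mathlib

/-!
Brauer and Tuan, the sign `-1`: the exceptional characters have degree `p - e`, and the congruence
from the principal `2`-block forces `2 ^ b = p - 1`.
-/

set_option autoImplicit false

namespace CfsgLib.SmallGroups.BrauerFew

open Subgroup CfsgLib.InvolChar Cfsg

variable {G : Type*} [Group G] [Fintype G] {p e t f b : ℕ} [Fact p.Prime] {x : G}

/-- The case `e = 2`. -/
theorem TData.minus_two [IsSimpleGroup G] (hna : ¬ IsMulCommutative G) (D : TData G p 2 2 t f (-1) x)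
    (L : Loc G p x) (hf : f + 2 = p) (hodd : ¬ 2 ∣ f) (hb : 0 < b) (ht : 0 < t)
    (hG : Nat.card G = p * (2 ^ b * f)) : 2 ^ b + 1 = p := by
  classical
  have hp : p.Prime := Fact.out
  obtain ⟨φ, hφ⟩ : ∃ φ, D.W = {φ} := Finset.card_eq_one.mp (by have := D.card_W; omega)
  have hφW : φ ∈ D.W := hφ ▸ Finset.mem_singleton_self φ
  have hrel := D.rel
  rw [hφ, Finset.sum_singleton] at hrel
  have hd : deg φ = f + 1 ∧ D.sign φ = -1 := by
    rcases D.sign_W φ hφW with h | h <;> rw [h] at hrel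
    · exfalso; omega
    · exact ⟨by omega, h⟩
  have hco : Nat.Coprime (f + 1) f := (Nat.coprime_self_add_left.mpr (Nat.coprime_one_left f))
  have hdvd : f + 1 ∣ 2 ^ b := by
    refine hco.dvd_of_dvd_mul_right ?_
    rw [← hd.1]
    refine (Nat.Coprime.dvd_mul_left (hp.coprime_iff_not_dvd.mpr fun h => ?_).symm).mp
      (hG ▸ CfsgLib.Char.degree_dvd_card φ.2 (deg_spec φ))
    have := Nat.le_of_dvd (by omega) h
    omega
  obtain ⟨k, -, hk⟩ := (Nat.dvd_prime_pow Nat.prime_two).mp hdvd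
  obtain ⟨S, hSW, hS, hSd⟩ := D.two_block hna L (by intro h; rw [h] at hf; exact hodd (by omega)) hodd hb (Or.inr rfl) ht hG
  have hS0 : S = ∅ := Finset.eq_empty_of_forall_notMem fun χ hχ => by
    have h := hSW hχ
    rw [hφ, Finset.mem_singleton] at h
    exact hSd χ hχ k (by rw [h, hd.1, hk])
  rw [hS0, Finset.sum_empty, add_zero, show 1 - (-1 : ℤ) * (f : ℤ) = ((f + 1 : ℕ) : ℤ) by push_cast; ring] at hS
  have := Nat.dvd_antisymm hdvd (Int.natCast_dvd_natCast.mp hS)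
  omega

set_option maxHeartbeats 800000 in
/-- The case `e ≥ 4`. -/
theorem TData.minus_big [IsSimpleGroup G] (hna : ¬ IsMulCommutative G) {l n : ℕ}
    (D : TData G p 2 e t f (-1) x) (L : Loc G p x) (hel : e = 2 ^ l) (hl : 2 ≤ l) (ht : 2 ≤ t)
    (hpe : p = e * t + 1) (hf : f + e = p) (hlb : l ≤ b) (hG : Nat.card G = p * (2 ^ b * f))
    (hn : Nat.card G = p * (e * (n * p + 1))) :
    p = 2 * e + 1 ∧ 2 ^ b + 1 = p := by
  classical
  have hp : p.Prime := Fact.out
  have h4e : 4 ∣ e := hel ▸ pow_dvd_pow 2 hl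
  obtain ⟨e₄, he4⟩ := h4e
  have he0 : 4 ≤ e := Nat.le_of_dvd (hel ▸ Nat.two_pow_pos l) ⟨e₄, he4⟩
  have hf4 : f % 4 = 1 := by
    have h1 : e * t = 4 * (e₄ * t) := by rw [he4]; ring
    omega
  have hodd : ¬ 2 ∣ f := by omega
  have hp2 : p ≠ 2 := by intro h; omega
  obtain ⟨S, hSW, hS, hSd⟩ := D.two_block hna L hp2 hodd (by omega) (Or.inr rfl) (by omega) hG
  have hpd : ∀ χ ∈ S, ∃ k s, deg χ = 2 ^ k * s ∧ s ∣ f := fun χ hχ => by
    have hn' : ¬ p ∣ deg χ := fun h => by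
      have h1 : (p : ℤ) ∣ D.sign χ := by
        have := dvd_sub (Int.natCast_dvd_natCast.mpr h) (D.mod_W χ (hSW hχ))
        simpa using this
      rcases D.sign_W χ (hSW hχ) with h' | h' <;> rw [h'] at h1
      · exact hp.not_dvd_one (by exact_mod_cast h1)
      · exact hp.not_dvd_one (by exact_mod_cast (dvd_neg.mp h1))
    obtain ⟨y, s, hy, hs, hd⟩ := Nat.dvd_mul.mp ((Nat.Coprime.dvd_mul_left (hp.coprime_iff_not_dvd.mpr hn').symm).mp
      (hG ▸ CfsgLib.Char.degree_dvd_card χ.2 (deg_spec χ)))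
    obtain ⟨k, -, rfl⟩ := (Nat.dvd_prime_pow Nat.prime_two).mp hy
    exact ⟨k, s, hd.symm, hs⟩
  have hfpos : 0 < f := by omega
  have hfp : f < p := by omega
  -- a member of degree `2 s`
  obtain ⟨χ₁, hχ₁, h41⟩ : ∃ χ ∈ S, ¬ 4 ∣ deg χ := by
    by_contra hcon
    push Not at hcon
    have h1 : (4 : ℤ) ∣ ∑ χ ∈ S, D.sign χ * (deg χ : ℤ) := Finset.dvd_sum fun χ hχ =>
      (Int.natCast_dvd_natCast.mpr (hcon χ hχ)).mul_left _
    have h2 : (4 : ℤ) ∣ ((2 ^ b : ℕ) : ℤ) := Int.natCast_dvd_natCast.mpr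
      ((show 4 ∣ 2 ^ b from (pow_dvd_pow 2 (show 2 ≤ b by omega) : 2 ^ 2 ∣ 2 ^ b)))
    have h3 := (dvd_add_left h1).mp (h2.trans hS)
    omega
  have hf2 : 2 * f = p + 1 := by
    obtain ⟨k, s, hd, hs⟩ := hpd χ₁ hχ₁
    have hsodd : ¬ 2 ∣ s := fun h => hodd (h.trans hs)
    have heven := D.dvd_W χ₁ (hSW hχ₁)
    have hk : k = 1 := by
      rcases k with _ | _ | k
      · rw [hd, pow_zero, one_mul] at heven; exact absurd heven hsodd
      · rfl
      · exfalso; apply h41; rw [hd, pow_succ, pow_succ]; exact Dvd.dvd.mul_right ⟨2 ^ k, by ring⟩ s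
    rw [hk, pow_one] at hd
    have hsle := Nat.le_of_dvd hfpos hs
    have hs0 : 0 < s := Nat.pos_of_ne_zero fun h => hsodd (h ▸ dvd_zero 2)
    obtain ⟨c, hc⟩ := D.mod_W χ₁ (hSW hχ₁)
    have hfz : (f : ℤ) < p := by exact_mod_cast hfp
    have hsz : (s : ℤ) ≤ f := by exact_mod_cast hsle
    have hs0z : (0 : ℤ) < s := by exact_mod_cast hs0
    rw [hd] at hc
    push_cast at hc
    rcases D.sign_W χ₁ (hSW hχ₁) with h | h <;> rw [h] at hc
    · have hc1 : c = 1 := by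
        have h1 : 0 < c := by nlinarith
        have h2 : c < 2 := by nlinarith
        omega
      subst hc1
      have hs2 : 2 * s = p + 1 := by omega
      obtain ⟨w, hw⟩ := hs
      rcases (show w = 0 ∨ w = 1 ∨ 2 ≤ w by omega) with rfl | rfl | hw2
      · omega
      · omega
      · have := Nat.mul_le_mul_left s hw2; omega
    · exfalso
      have hc1 : c = 1 := by
        have h1 : 0 < c := by nlinarith
        have h2 : c < 2 := by nlinarith
        omega
      subst hc1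
      have hs2 : 2 * s + 1 = p := by omega
      have h1 : e * t = 4 * (e₄ * t) := by rw [he4]; ring
      omega
  have hpe2 : p = 2 * e + 1 := by omega
  refine ⟨hpe2, ?_⟩
  obtain ⟨j, hj⟩ : ∃ j, j = l + 1 := ⟨_, rfl⟩
  have hpj : p = 2 ^ j + 1 := by rw [hpe2, hel, hj, pow_succ, mul_comm]
  have hfj : 2 * f = 2 ^ j + 2 := by omega
  haveI : NeZero p := ⟨hp.ne_zero⟩
  have h2j : (2 : ZMod p) ^ j = -1 := by
    have h := congrArg (Nat.cast : ℕ → ZMod p) hpj
    push_cast at h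
    rw [ZMod.natCast_self] at h
    linear_combination -h
  have hpowj : ∀ r, r < j → 2 ^ r * 2 ≤ 2 ^ j := fun r hr => by
    rw [← pow_succ]; exact Nat.pow_le_pow_right two_pos hr
  -- every member has degree divisible by `f`
  have hfd : ∀ χ ∈ S, f ∣ deg χ := by
    intro χ hχ
    obtain ⟨k, s, hd, hs⟩ := hpd χ hχ
    rw [hd]
    refine Dvd.dvd.mul_left ?_ _
    have hsodd : ¬ 2 ∣ s := fun h => hodd (h.trans hs)
    have hsle := Nat.le_of_dvd hfpos hs
    have hs1 : s ≠ 1 := fun h => hSd χ hχ k (by rw [hd, h, mul_one])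
    have hmod := (ZMod.intCast_zmod_eq_zero_iff_dvd _ p).mpr (D.mod_W χ (hSW hχ))
    rw [hd] at hmod
    push_cast at hmod
    obtain ⟨i, k₀, hk, hk₀⟩ : ∃ i k₀, k = i * j + k₀ ∧ k₀ < j :=
      ⟨k / j, k % j, (Nat.div_add_mod' k j).symm, Nat.mod_lt _ (by omega)⟩
    obtain ⟨τ, hτ, hsτ⟩ : ∃ τ : ZMod p, (τ = 1 ∨ τ = -1) ∧ (s : ZMod p) = τ * (2 : ZMod p) ^ (j - k₀) := by
      refine ⟨(-1) * ((-1) ^ i * (D.sign χ : ZMod p)), ?_, ?_⟩
      · rcases neg_one_pow_eq_or (ZMod p) i with h | h <;>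
          rcases D.sign_W χ (hSW hχ) with h' | h' <;> simp [h, h']
      · rw [hk, pow_add, mul_comm i, pow_mul, h2j, sub_eq_zero] at hmod
        have e1 : (2 : ZMod p) ^ k₀ * (2 : ZMod p) ^ (j - k₀) = -1 := by
          rw [← pow_add, Nat.add_sub_cancel' hk₀.le, h2j]
        have e2 : ((-1 : ZMod p) ^ i) * ((-1 : ZMod p) ^ i) = 1 := by rw [← mul_pow]; simp
        linear_combination ((-1 : ZMod p) * (-1) ^ i * (2 : ZMod p) ^ (j - k₀)) * hmod +
          ((s : ZMod p) * ((-1 : ZMod p) ^ i * (-1) ^ i)) * e1 - (s : ZMod p) * e2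
    rcases Nat.eq_zero_or_pos k₀ with hk0 | hk0
    · exfalso
      rw [hk0, Nat.sub_zero, h2j] at hsτ
      rcases hτ with rfl | rfl
      · have h1 : ((s + 1 : ℕ) : ZMod p) = 0 := by push_cast; rw [hsτ]; ring
        have := Nat.le_of_dvd (Nat.succ_pos _) ((ZMod.natCast_eq_zero_iff _ _).mp h1)
        omega
      · have h1 := congrArg ZMod.val (show (s : ZMod p) = ((1 : ℕ) : ZMod p) by push_cast; rw [hsτ]; ring)
        rw [ZMod.val_natCast, ZMod.val_natCast, Nat.mod_eq_of_lt (by omega), Nat.mod_eq_of_lt (by omega)] at h1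
        exact hs1 h1
    have hpow := hpowj (j - k₀) (by omega)
    rcases hτ with rfl | rfl
    · exfalso
      rw [one_mul] at hsτ
      have h1 := congrArg ZMod.val (show (s : ZMod p) = ((2 ^ (j - k₀) : ℕ) : ZMod p) by push_cast; exact hsτ)
      rw [ZMod.val_natCast, ZMod.val_natCast, Nat.mod_eq_of_lt (by omega), Nat.mod_eq_of_lt (by omega)] at h1
      exact hsodd (h1 ▸ dvd_pow_self 2 (by omega))
    · have h1 : ((s + 2 ^ (j - k₀) : ℕ) : ZMod p) = 0 := by push_cast; rw [hsτ]; ring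
      have h2 := Nat.le_of_dvd (Nat.pos_of_ne_zero fun h => by
        have := Nat.two_pow_pos (j - k₀); omega) ((ZMod.natCast_eq_zero_iff _ _).mp h1)
      rw [show s = f by omega]
  -- the size of the congruent sum
  have hS0 : (1 : ℤ) - -1 * (f : ℤ) + ∑ χ ∈ S, D.sign χ * (deg χ : ℤ) ≠ 0 := by
    intro h
    have h1 : (f : ℤ) ∣ ∑ χ ∈ S, D.sign χ * (deg χ : ℤ) := Finset.dvd_sum fun χ hχ =>
      (Int.natCast_dvd_natCast.mpr (hfd χ hχ)).mul_left _
    have h2 : (f : ℤ) ∣ 1 := by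
      obtain ⟨c, hc⟩ := h1
      exact ⟨-1 - c, by linear_combination h - hc⟩
    have := Nat.le_of_dvd one_pos (Int.natCast_dvd_natCast.mp (by simpa using h2))
    omega
  let one : IrrCharacter G := CfsgLib.Char.irrOne
  obtain ⟨θ₀, hθ₀⟩ := Finset.card_pos.mp (by rw [D.card_T]; omega : 0 < D.T.card)
  have hθS : θ₀ ∉ S := fun h => Finset.disjoint_left.mp D.disj (hSW h) hθ₀
  have h1Z : one ∉ insert θ₀ S := by
    rw [Finset.mem_insert]
    rintro (h | h)
    · rw [← h] at hθ₀; exact D.one_T hθ₀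
    · exact D.one_W (hSW h)
  have hbound : 2 ^ b * 2 ^ b ≤ (e + 1) * Nat.card G := by
    have h1 : 2 ^ b ≤ ∑ χ ∈ insert one (insert θ₀ S), deg χ := by
      have h2 := Int.le_of_dvd (abs_pos.mpr hS0) ((dvd_abs _ _).mpr hS)
      have h3 : |∑ χ ∈ S, D.sign χ * (deg χ : ℤ)| ≤ ∑ χ ∈ S, (deg χ : ℤ) := by
        refine (Finset.abs_sum_le_sum_abs _ _).trans (Finset.sum_le_sum fun χ hχ => ?_)
        rcases D.sign_W χ (hSW hχ) with h | h <;> simp [h]
      rw [Finset.sum_insert h1Z, Finset.sum_insert hθS, D.deg_T θ₀ hθ₀, show deg one = 1 from deg_irrOne]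
      have h4 := abs_add_le ((1 : ℤ) - -1 * (f : ℤ)) (∑ χ ∈ S, D.sign χ * (deg χ : ℤ))
      have h5 : |(1 : ℤ) - -1 * (f : ℤ)| = 1 + f := by
        rw [abs_of_nonneg] <;> omega
      have h6 : ((2 ^ b : ℕ) : ℤ) ≤ ((1 + (f + ∑ χ ∈ S, deg χ) : ℕ) : ℤ) := by push_cast at *; linarith
      exact_mod_cast h6
    calc 2 ^ b * 2 ^ b ≤ (∑ χ ∈ insert one (insert θ₀ S), deg χ) * (∑ χ ∈ insert one (insert θ₀ S), deg χ) :=
          Nat.mul_le_mul h1 h1
      _ ≤ (insert one (insert θ₀ S)).card * ∑ χ ∈ insert one (insert θ₀ S), deg χ ^ 2 := by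
          rw [← pow_two]; exact sq_sum_le_card_mul_sum_sq
      _ ≤ (e + 1) * Nat.card G := by
          refine Nat.mul_le_mul ?_ ?_
          · rw [Finset.card_insert_of_notMem h1Z, Finset.card_insert_of_notMem hθS, ← D.card_W]
            have := Finset.card_le_card hSW
            omega
          · rw [Finset.sum_insert h1Z, show deg one = 1 from deg_irrOne, one_pow]
            exact sum_deg_sq_le h1Z
  rw [hG, show (e + 1) * (p * (2 ^ b * f)) = (e + 1) * p * f * 2 ^ b by ring] at hbound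
  have hb2 : 2 ^ b ≤ (e + 1) * p * f := Nat.le_of_mul_le_mul_right hbound (Nat.two_pow_pos b)
  -- `2 ^ b ≡ -1` modulo `p`
  have hmb : (2 : ZMod p) ^ b = -1 := by
    have h := hG.symm.trans hn
    have h' := congrArg (Nat.cast : ℕ → ZMod p) (Nat.eq_of_mul_eq_mul_left hp.pos h)
    push_cast at h'
    rw [ZMod.natCast_self, mul_zero, zero_add, mul_one] at h'
    have hfe : (f : ZMod p) = -(e : ZMod p) := by
      have h := congrArg (Nat.cast : ℕ → ZMod p) hf
      push_cast at h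
      rw [ZMod.natCast_self] at h
      linear_combination h
    have he0 : (e : ZMod p) ≠ 0 := fun h => by
      have := Nat.le_of_dvd (hel ▸ Nat.two_pow_pos l) ((ZMod.natCast_eq_zero_iff _ _).mp h)
      omega
    rw [hfe] at h'
    have e1 : (e : ZMod p) * ((2 : ZMod p) ^ b + 1) = 0 := by linear_combination -h'
    linear_combination (mul_eq_zero.mp e1).resolve_left he0
  obtain ⟨i, r, hb', hr⟩ : ∃ i r, b = i * j + r ∧ r < j :=
    ⟨b / j, b % j, (Nat.div_add_mod' b j).symm, Nat.mod_lt _ (by omega)⟩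
  rw [hb', pow_add, mul_comm i, pow_mul, h2j] at hmb
  have hrp := hpowj r hr
  have hneg : (-1 : ZMod p) ≠ 1 := fun h => by
    have h1 : ((2 : ℕ) : ZMod p) = 0 := by push_cast; linear_combination -h
    have := Nat.le_of_dvd two_pos ((ZMod.natCast_eq_zero_iff _ _).mp h1)
    omega
  rcases neg_one_pow_eq_or (ZMod p) i with hi | hi <;> rw [hi] at hmb
  · exfalso
    have h1 : ((2 ^ r + 1 : ℕ) : ZMod p) = 0 := by push_cast; linear_combination hmb
    have := Nat.le_of_dvd (Nat.succ_pos _) ((ZMod.natCast_eq_zero_iff _ _).mp h1)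
    omega
  have hr1 : 2 ^ r = 1 := by
    have h1 := congrArg ZMod.val (show ((2 ^ r : ℕ) : ZMod p) = ((1 : ℕ) : ZMod p) by push_cast; linear_combination -hmb)
    rwa [ZMod.val_natCast, ZMod.val_natCast, Nat.mod_eq_of_lt (by omega), Nat.mod_eq_of_lt (by omega)] at h1
  have hr0 : r = 0 := (Nat.pow_eq_one.mp hr1).resolve_left (by norm_num)
  subst hr0
  rcases (show i = 0 ∨ i = 1 ∨ i = 2 ∨ 3 ≤ i by omega) with rfl | rfl | rfl | hi3
  · exact absurd (show (-1 : ZMod p) = 1 by rw [← hi, pow_zero]) hneg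
  · rw [hb', one_mul, add_zero, hpj]
  · exact absurd (show (-1 : ZMod p) = 1 by rw [← hi]; ring) hneg
  · exfalso
    have h1 : (2 ^ j) ^ 3 ≤ 2 ^ b := by
      rw [← pow_mul, hb', add_zero, mul_comm j]; exact Nat.pow_le_pow_right two_pos (Nat.mul_le_mul_right j hi3)
    have h8 : 8 ≤ 2 ^ j := by
      rw [show (8 : ℕ) = 2 ^ 3 by norm_num]; exact Nat.pow_le_pow_right two_pos (by omega)
    obtain ⟨P, hP⟩ : ∃ P, P = 2 ^ j := ⟨_, rfl⟩
    rw [← hP] at h1 h8 hfj hpj
    have he1 : e + 1 = f := by omega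
    rw [he1] at hb2
    have h2 : P ^ 3 * 4 ≤ (P + 2) * (P + 1) * (P + 2) := by
      calc P ^ 3 * 4 ≤ f * p * f * 4 := Nat.mul_le_mul_right 4 (h1.trans hb2)
        _ = (2 * f) * p * (2 * f) := by ring
        _ = _ := by rw [hfj, hpj]
    have h3 : 8 * (P * P) ≤ P * (P * P) := Nat.mul_le_mul_right _ h8
    nlinarith

end CfsgLib.SmallGroups.BrauerFew
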