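import Cfsg.Agent.Lib.SmallGroups.BrauerFew.TuanPlus
import Cfsg.Agent.Lib.SmallGroups.BrauerFew.TuanMinus
import Mathlib

/-!
Brauer and Tuan: a simple group of order `p q ^ b g₀` with `g₀ < p - 1` is `PSL(2, p)` or
`PSL(2, p - 1)`, and `p` is `2 ^ m ± 1`.
-/

set_option autoImplicit false

namespace CfsgLib.SmallGroups.BrauerFew

open Subgroup CfsgLib.InvolChar Cfsg

variable {G : Type*} [Group G] [Fintype G] {p : ℕ} [Fact p.Prime]

/-- The local data: `p = 2 ^ m ± 1` and there are few Sylow `p`-subgroups. -/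
theorem tuan_local [IsSimpleGroup G] (hna : ¬ IsMulCommutative G) {q b g₀ : ℕ} (hq : q.Prime) (hpq : p ≠ q)
    (hG : Nat.card G = p * (q ^ b * g₀)) (hqg : ¬ q ∣ g₀) (hg : g₀ < p - 1) :
    ∃ (x : G) (m : ℕ), Loc G p x ∧ (p = 2 ^ m + 1 ∨ p = 2 ^ m - 1) ∧
      2 * Nat.card (Sylow p G) < (p + 1) * (p + 2) := by
  classical
  have hp : p.Prime := Fact.out
  obtain ⟨x, e, t, f, n, ε, L, hpe, he, ht, hn, hcard, hS, hε, hfg, ⟨D⟩⟩ := exists_tdata hna hq hpq hG hqg hg
  have h0 : q ^ b * g₀ = e * (n * p + 1) := Nat.eq_of_mul_eq_mul_left hp.pos (hG.symm.trans hcard)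
  have hg0 : 0 < g₀ := Nat.pos_of_ne_zero fun h => by rw [h, mul_zero, mul_zero] at hG; exact Nat.card_pos.ne' hG
  have hsum : (q : ℤ) ∣ ∑ χ ∈ D.W, D.sign χ * (deg χ : ℤ) := Finset.dvd_sum fun χ hχ =>
    (Int.natCast_dvd_natCast.mpr (D.dvd_W χ hχ)).mul_left _
  have hrel := D.rel
  rcases hε with ⟨rfl, rfl⟩ | ⟨rfl, hf⟩
  · obtain ⟨rfl, χ, hχ, hd⟩ := D.plus_structure L he ht hpe
    obtain rfl : q = 2 := by
      have h1 : (q : ℤ) ∣ 4 := by
        have h2 : (q : ℤ) ∣ ((deg χ : ℕ) : ℤ) := Int.natCast_dvd_natCast.mpr (D.dvd_W χ hχ)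
        obtain ⟨a, ha⟩ := h2
        obtain ⟨c, hc⟩ := hsum
        have h3 : (p : ℤ) = f * 2 + 1 := by exact_mod_cast hpe
        have h4 : ((deg χ : ℕ) : ℤ) = p + 1 := by exact_mod_cast hd
        exact ⟨a - 2 * c, by linear_combination ha - h4 - h3 - 2 * hrel - 2 * hc⟩
      have h2 : q ∣ 2 * 2 := Int.natCast_dvd_natCast.mp h1
      rcases hq.dvd_mul.mp h2 with h | h <;> exact (Nat.prime_dvd_prime_iff_eq hq Nat.prime_two).mp h
    have hodd : ¬ 2 ∣ f := fun h => hqg (h.trans hfg)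
    obtain ⟨w, hw⟩ := hfg
    have hgf : g₀ = f := by
      rcases (show w = 0 ∨ w = 1 ∨ 2 ≤ w by omega) with rfl | rfl | hw2
      · omega
      · omega
      · have := Nat.mul_le_mul_left f hw2; omega
    subst hgf
    have h2b := D.plus_two hna L (by omega) hodd (by omega) hG ⟨χ, hχ, hd⟩
    refine ⟨x, b, L, Or.inr (by omega), ?_⟩
    have hnp : n * p + 1 = 2 ^ b := Nat.eq_of_mul_eq_mul_left (show 0 < g₀ by omega) (by rw [← h0, mul_comm])
    rw [hS, hnp, h2b, mul_comm 2]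
    exact Nat.mul_lt_mul_of_pos_left (by have := hp.two_le; omega) (Nat.succ_pos p)
  · have hgf : g₀ = f := by
      obtain ⟨w, hw⟩ := hfg
      have h1 : 2 * e < p := by
        rw [hpe]; have := Nat.mul_le_mul_left e ht; omega
      rcases (show w = 0 ∨ w = 1 ∨ 2 ≤ w by omega) with rfl | rfl | hw2
      · omega
      · omega
      · have := Nat.mul_le_mul_left f hw2; omega
    subst hgf
    have hep : e < p := by omega
    have hco : Nat.Coprime e g₀ := by
      have h1 : Nat.Coprime e p := (hp.coprime_iff_not_dvd.mpr fun h => by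
        have := Nat.le_of_dvd (by omega) h; omega).symm
      rw [← hf] at h1
      exact Nat.coprime_add_self_right.mp h1
    obtain ⟨l, hlb, hel⟩ := (Nat.dvd_prime_pow hq).mp (hco.dvd_of_dvd_mul_right ⟨_, h0⟩)
    have hl : l ≠ 0 := fun h => by rw [h, pow_zero] at hel; omega
    obtain rfl : q = 2 := by
      have hqe : q ∣ e := hel ▸ dvd_pow_self q hl
      have h1 : (q : ℤ) ∣ (g₀ : ℤ) + 1 := by
        obtain ⟨c, hc⟩ := hsum
        exact ⟨-c, by linear_combination -hrel - hc⟩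
      have h2 : q ∣ g₀ + 1 + e := dvd_add (Int.natCast_dvd_natCast.mp (by exact_mod_cast h1)) hqe
      have h4 : q ∣ e * t := hqe.mul_right t
      have h3 : q ∣ 2 := by
        rw [show g₀ + 1 + e = e * t + 2 by omega] at h2
        exact (Nat.dvd_add_right h4).mp h2
      exact (Nat.prime_dvd_prime_iff_eq hq Nat.prime_two).mp h3
    rcases (show l = 1 ∨ 2 ≤ l by omega) with rfl | hl2
    · rw [pow_one] at hel
      subst hel
      have h2b := D.minus_two hna L hf hqg (by omega) (by omega) hG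
      refine ⟨x, b, L, Or.inl h2b.symm, ?_⟩
      rw [hS, ← h0, show 2 ^ b * g₀ = g₀ * 2 ^ b by ring]
      exact Nat.mul_lt_mul_of_lt_of_le (by omega) (by omega) (by omega)
    · obtain ⟨hp2, h2b⟩ := D.minus_big hna L hel hl2 ht hpe hf hlb hG hcard
      refine ⟨x, b, L, Or.inl h2b.symm, ?_⟩
      have hnp : n * p + 1 = p + 1 := by
        apply Nat.eq_of_mul_eq_mul_left (show 0 < e by omega)
        rw [← h0, show 2 ^ b = 2 * e by omega, show g₀ = e + 1 by omega, hp2]; ring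
      rw [hS, hnp, mul_comm 2]
      exact Nat.mul_lt_mul_of_pos_left (by omega) (Nat.succ_pos p)

/-- The theorem of Brauer and Tuan. -/
theorem tuan [IsSimpleGroup G] (hna : ¬ IsMulCommutative G) {q b g₀ : ℕ} (hq : q.Prime) (hpq : p ≠ q)
    (hG : Nat.card G = p * q ^ b * g₀) (hg : g₀ < p - 1) :
    3 < p ∧ (∃ m, p = 2 ^ m + 1 ∨ p = 2 ^ m - 1) ∧
      ((∃ (F : Type) (_ : Field F) (_ : Fintype F), Fintype.card F = p ∧
          Nonempty (G ≃* Matrix.ProjectiveSpecialLinearGroup (Fin 2) F)) ∨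
        ∃ (m : ℕ) (F : Type) (_ : Field F) (_ : Fintype F), Fintype.card F = 2 ^ m ∧ p = 2 ^ m + 1 ∧
          Nonempty (G ≃* Matrix.ProjectiveSpecialLinearGroup (Fin 2) F)) := by
  have hg0 : g₀ ≠ 0 := fun h => by rw [h, mul_zero] at hG; exact Nat.card_pos.ne' hG
  obtain ⟨c, g', hqg, hgg⟩ := Nat.exists_eq_pow_mul_and_not_dvd hg0 q hq.ne_one
  have hg'le : g' ≤ g₀ := hgg ▸ Nat.le_mul_of_pos_left g' (pow_pos hq.pos c)
  obtain ⟨x, m, L, hm, hn⟩ := tuan_local hna hq hpq (b := b + c) (g₀ := g')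
    (by rw [hG, hgg, pow_add]; ring) hqg (by omega)
  obtain ⟨-, h3, hiso⟩ := main L.perfect L.order L.cent hn
  exact ⟨h3, ⟨m, hm⟩, hiso⟩

end CfsgLib.SmallGroups.BrauerFew
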