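import Cfsg.Agent.Lib.SmallGroups.BrauerFew.TuanTwo
import Mathlib

/-!
Brauer and Tuan, the sign `+1`: the exceptional characters have degree `e`, and their squares force
`t = 2` and a character of degree `p + 1`.
-/

set_option autoImplicit false

namespace CfsgLib.SmallGroups.BrauerFew

open Subgroup CfsgLib.InvolChar Cfsg
open scoped ComplexConjugate

variable {G : Type*} [Group G] [Fintype G] {p q e t : ℕ} [Fact p.Prime] {x : G}

set_option maxHeartbeats 800000 in
/-- `t = 2`, and some character of the block has degree `p + 1`. -/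
theorem TData.plus_structure (D : TData G p q e t e 1 x) (L : Loc G p x) (he : 2 ≤ e) (ht : 2 ≤ t)
    (hpe : p = e * t + 1) :
    t = 2 ∧ ∃ χ ∈ D.W, deg χ = p + 1 := by
  classical
  have hp : p.Prime := Fact.out
  let one : IrrCharacter G := CfsgLib.Char.irrOne
  haveI := Fintype.ofFinite (zpowers x)
  have hpC : (p : ℂ) ≠ 0 := by exact_mod_cast hp.ne_zero
  have hpz : (p : ℤ) = e * t + 1 := by exact_mod_cast hpe
  -- fixed points of `⟨x⟩`
  choose k hk using fun χ : IrrCharacter G => sumP_nat L (CfsgLib.Char.isCharacter_of_isIrr χ.2)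
  have hkW : ∀ χ ∈ D.W, (p : ℤ) * k χ = (deg χ : ℤ) + ((p : ℤ) - 1) * D.sign χ := fun χ hχ => by
    apply Int.cast_injective (α := ℂ)
    push_cast
    rw [← hk χ, sumP_const L (D.val_W χ hχ), deg_spec χ]
  have hkone : k one = 1 := by
    have h := hk one
    rw [sumP_const L (σ := 1) (fun u _ _ => CfsgLib.Char.irrOne_apply u)] at h
    rw [show (one : G → ℂ) 1 = 1 from CfsgLib.Char.irrOne_apply 1] at h
    have : ((p : ℂ)) * (k one : ℂ) = (p : ℂ) * 1 := by linear_combination -h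
    exact_mod_cast mul_left_cancel₀ hpC this
  have hkT : ∀ θ ∈ D.T, k θ = 0 := by
    have h : (p : ℤ) * ((∑ θ ∈ D.T, k θ : ℕ) : ℤ) = 0 := by
      apply Int.cast_injective (α := ℂ)
      push_cast
      rw [Finset.mul_sum, ← Finset.sum_congr rfl fun θ _ => hk θ, ← sumP_finset_sum, sumP_const L (σ := -1)
        (fun u hu hu1 => by rw [D.sum_T u hu hu1]; norm_num)]
      rw [Finset.sum_congr rfl fun θ hθ => (deg_spec θ).trans (congrArg Nat.cast (D.deg_T θ hθ)),
        Finset.sum_const, D.card_T, nsmul_eq_mul]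
      have : (p : ℂ) = (e : ℂ) * t + 1 := by exact_mod_cast hpe
      linear_combination -this
    have h' : (∑ θ ∈ D.T, k θ) = 0 := by
      have := (mul_eq_zero.mp h).resolve_left (by exact_mod_cast hp.ne_zero)
      exact_mod_cast this
    exact Finset.sum_eq_zero_iff.mp h'
  have hkey : ∀ χ : IrrCharacter G, χ ≠ one → k χ * (p + 1) ≤ 2 * deg χ ∧
      (k χ * (p + 1) = 2 * deg χ → χ ∈ D.W ∧ deg χ = p + 1) := by
    intro χ hne
    have hd2 := one_lt_deg L.perfect hne
    have hp1 : (1 : ℤ) < p := by exact_mod_cast hp.one_lt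
    by_cases hW : χ ∈ D.W
    · have h1 := hkW χ hW
      rcases D.sign_W χ hW with hs | hs <;> rw [hs] at h1
      · obtain ⟨a, ha⟩ := D.mod_W χ hW
        rw [hs] at ha
        have ha1 : 1 ≤ a := by nlinarith
        have e1 : (p : ℤ) * (2 * (deg χ : ℤ) - k χ * (p + 1)) = ((p : ℤ) - 1) * ((deg χ : ℤ) - p - 1) := by
          linear_combination -((p : ℤ) + 1) * h1
        have hge : (p : ℤ) + 1 ≤ deg χ := by nlinarith
        have h2 : (k χ : ℤ) * (p + 1) ≤ 2 * (deg χ : ℤ) := by nlinarith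
        refine ⟨by exact_mod_cast h2, fun h => ⟨hW, ?_⟩⟩
        have h' : (k χ : ℤ) * (p + 1) = 2 * (deg χ : ℤ) := by exact_mod_cast h
        rw [h', sub_self, mul_zero] at e1
        have := (mul_eq_zero.mp e1.symm).resolve_left (by linarith)
        omega
      · have e1 : (p : ℤ) * (2 * (deg χ : ℤ) - k χ * (p + 1)) = ((p : ℤ) - 1) * ((deg χ : ℤ) + p + 1) := by
          linear_combination -((p : ℤ) + 1) * h1
        have hpos : (0 : ℤ) < ((p : ℤ) - 1) * ((deg χ : ℤ) + p + 1) := by positivity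
        have h2 : (k χ : ℤ) * (p + 1) < 2 * (deg χ : ℤ) := by nlinarith
        have h3 : k χ * (p + 1) < 2 * deg χ := by exact_mod_cast h2
        exact ⟨h3.le, fun h => absurd h h3.ne⟩
    by_cases hT : χ ∈ D.T
    · rw [hkT χ hT, zero_mul]; exact ⟨Nat.zero_le _, fun h => by omega⟩
    · have h := hk χ
      rw [sumP_const L (σ := 0) (D.outside χ hne hW hT), mul_zero, add_zero, deg_spec χ] at h
      have hd : deg χ = p * k χ := by exact_mod_cast h
      have hk0 : 0 < k χ := Nat.pos_of_ne_zero fun e => by rw [e, mul_zero] at hd; omega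
      have h2 : k χ * (p + 1) < 2 * deg χ := by
        rw [hd, mul_add, mul_one, mul_comm (k χ) p, two_mul]
        exact Nat.add_lt_add_left (lt_mul_of_one_lt_left hk0 hp.one_lt) _
      exact ⟨h2.le, fun h => absurd h h2.ne⟩
  -- the character `∑ θ θ̄`
  set Φ : G → ℂ := ∑ θ ∈ D.T, (θ : G → ℂ) * fun g => conj ((θ : G → ℂ) g) with hΦ
  have hΦc : Cfsg.IsCharacter G Φ := CfsgLib.Char.isCharacter_sum _ fun θ _ => CfsgLib.Char.isCharacter_mul
    (CfsgLib.Char.isCharacter_of_isIrr θ.2) (CfsgLib.Char.isCharacter_conj (CfsgLib.Char.isCharacter_of_isIrr θ.2))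
  obtain ⟨m, hm, hmi⟩ := CfsgLib.Char.char_decomp hΦc
  have hΦa : ∀ g, Φ g = ∑ θ ∈ D.T, (θ : G → ℂ) g * conj ((θ : G → ℂ) g) := fun g => by
    rw [hΦ, Finset.sum_apply]; rfl
  have hmone : m one = t := by
    have h := hmi one
    rw [show (one : G → ℂ) = fun _ => 1 from funext CfsgLib.Char.irrOne_apply, CfsgLib.Char.classInner_one_right,
      Finset.sum_congr rfl fun g _ => hΦa g, Finset.sum_comm, Finset.mul_sum] at h
    rw [Finset.sum_congr rfl fun (θ : IrrCharacter G) _ => show (Nat.card G : ℂ)⁻¹ * ∑ g, (θ : G → ℂ) g * conj ((θ : G → ℂ) g) = 1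
      from CfsgLib.Char.classInner_irr_self θ.2, Finset.sum_const, D.card_T, nsmul_one] at h
    exact_mod_cast h.symm
  have hdeg : ∑ χ, m χ * deg χ = t * (e * e) := by
    have h : Φ 1 = ∑ χ, (m χ : ℂ) * (deg χ : ℂ) := by
      conv_lhs => rw [hm]
      simp only [Finset.sum_apply, Pi.smul_apply, smul_eq_mul, deg_spec]
    rw [hΦa, Finset.sum_congr rfl fun θ hθ => by
      rw [deg_spec θ, map_natCast, D.deg_T θ hθ], Finset.sum_const, D.card_T, nsmul_eq_mul] at h
    exact_mod_cast h.symm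
  have hfix : ∑ χ, m χ * k χ = t * e := by
    have h1 : sumP x Φ = ∑ χ, (m χ : ℂ) * ((p : ℂ) * k χ) := by
      conv_lhs => rw [hm]
      rw [show (∑ χ : IrrCharacter G, (m χ : ℂ) • (χ : G → ℂ)) = fun g => ∑ χ : IrrCharacter G,
        (m χ : ℂ) * (χ : G → ℂ) g from funext fun g => by simp [Finset.sum_apply], sumP_finset_sum]
      refine Finset.sum_congr rfl fun χ _ => ?_
      rw [← hk χ]
      simp only [sumP_eq, Finset.mul_sum]
    rw [sumP_const L (σ := (p : ℂ) - e) (fun u hu hu1 => by rw [hΦa, D.sq_T u hu hu1]), hΦa,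
      Finset.sum_congr rfl fun θ hθ => by rw [deg_spec θ, map_natCast, D.deg_T θ hθ],
      Finset.sum_const, D.card_T, nsmul_eq_mul] at h1
    have h2 : (p : ℂ) * ((∑ χ, m χ * k χ : ℕ) : ℂ) = (p : ℂ) * ((t * e : ℕ) : ℂ) := by
      push_cast
      rw [Finset.mul_sum, Finset.sum_congr rfl fun χ _ => show (p : ℂ) * ((m χ : ℂ) * k χ) = (m χ : ℂ) * ((p : ℂ) * k χ) by ring,
        ← h1]
      have : (p : ℂ) = (e : ℂ) * t + 1 := by exact_mod_cast hpe
      rw [this]; ring
    exact_mod_cast mul_left_cancel₀ hpC h2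
  rw [← Finset.add_sum_erase _ _ (Finset.mem_univ one), hmone] at hdeg hfix
  rw [show deg one = 1 from deg_irrOne] at hdeg
  rw [hkone] at hfix
  have hle : (∑ χ ∈ Finset.univ.erase one, m χ * k χ) * (p + 1) ≤
      2 * ∑ χ ∈ Finset.univ.erase one, m χ * deg χ := by
    rw [Finset.sum_mul, Finset.mul_sum]
    refine Finset.sum_le_sum fun χ hχ => ?_
    rw [mul_assoc, mul_left_comm 2]
    exact Nat.mul_le_mul_left _ (hkey χ (Finset.ne_of_mem_erase hχ)).1
  obtain ⟨e', rfl⟩ : ∃ e', e = e' + 1 := ⟨e - 1, by omega⟩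
  have hS1 : ∑ χ ∈ Finset.univ.erase one, m χ * k χ = t * e' := by
    rw [mul_add, mul_one] at hfix; omega
  have hS2 : ∑ χ ∈ Finset.univ.erase one, m χ * deg χ = t * e' * (e' + 2) := by
    have : t * ((e' + 1) * (e' + 1)) = t * e' * (e' + 2) + t := by ring
    omega
  have hte : 0 < t * e' := Nat.mul_pos (by omega) (by omega)
  rw [hS1, hS2] at hle
  have hp2 : p + 1 ≤ 2 * (e' + 2) := by
    refine Nat.le_of_mul_le_mul_left ?_ hte
    calc t * e' * (p + 1) ≤ 2 * (t * e' * (e' + 2)) := hle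
      _ = t * e' * (2 * (e' + 2)) := by ring
  obtain rfl : t = 2 := by
    by_contra hne
    have := Nat.mul_le_mul_left (e' + 1) (show 3 ≤ t by omega)
    omega
  refine ⟨rfl, ?_⟩
  by_contra hcon
  push Not at hcon
  have hlt : (∑ χ ∈ Finset.univ.erase one, m χ * k χ) * (p + 1) <
      2 * ∑ χ ∈ Finset.univ.erase one, m χ * deg χ := by
    rw [Finset.sum_mul, Finset.mul_sum]
    obtain ⟨χ₀, hχ₀, hm0⟩ : ∃ χ ∈ Finset.univ.erase one, m χ * k χ ≠ 0 := by
      by_contra h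
      push Not at h
      rw [Finset.sum_eq_zero h] at hS1
      omega
    refine Finset.sum_lt_sum (fun χ hχ => ?_) ⟨χ₀, hχ₀, ?_⟩
    · rw [mul_assoc, mul_left_comm 2]
      exact Nat.mul_le_mul_left _ (hkey χ (Finset.ne_of_mem_erase hχ)).1
    · rw [mul_assoc, mul_left_comm 2]
      obtain ⟨h1, h2⟩ := hkey χ₀ (Finset.ne_of_mem_erase hχ₀)
      refine Nat.mul_lt_mul_of_pos_left (lt_of_le_of_ne h1 fun h => ?_) (Nat.pos_of_ne_zero (left_ne_zero_of_mul hm0))
      exact hcon χ₀ (h2 h).1 (h2 h).2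
  rw [hS1, hS2] at hlt
  have h3 : 2 * e' * (p + 1) = 2 * (2 * e' * (e' + 2)) := by rw [hpe]; ring
  omega

/-- If `p = 2 e + 1` with a character of degree `p + 1`, then `2 ^ b = p + 1`. -/
theorem TData.plus_two [IsSimpleGroup G] (hna : ¬ IsMulCommutative G) {b : ℕ} (D : TData G p 2 e 2 e 1 x)
    (L : Loc G p x) (he : 3 ≤ e) (hodd : ¬ 2 ∣ e) (hpe : p = 2 * e + 1)
    (hG : Nat.card G = p * (2 ^ b * e)) (hW : ∃ χ ∈ D.W, deg χ = p + 1) :
    2 ^ b = p + 1 := by
  classical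
  have hp : p.Prime := Fact.out
  have hpd : ∀ χ : IrrCharacter G, ¬ p ∣ deg χ → deg χ ∣ 2 ^ b * e := fun χ h =>
    (Nat.Coprime.dvd_mul_left (hp.coprime_iff_not_dvd.mpr h).symm).mp
      (hG ▸ CfsgLib.Char.degree_dvd_card χ.2 (deg_spec χ))
  obtain ⟨χ₁, hχ₁, hd₁⟩ := hW
  have hco : Nat.Coprime (p + 1) e := by
    rw [hpe, show 2 * e + 1 + 1 = 2 + e * 2 by ring, Nat.coprime_add_mul_left_left]
    exact Nat.prime_two.coprime_iff_not_dvd.mpr hodd
  have hdvd : p + 1 ∣ 2 ^ b := by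
    have h := hpd χ₁ (by
      rw [hd₁]; intro h
      exact hp.not_dvd_one ((Nat.dvd_add_right dvd_rfl).mp h))
    rw [hd₁] at h
    exact hco.dvd_of_dvd_mul_right h
  obtain ⟨m, hmb, hm⟩ := (Nat.dvd_prime_pow Nat.prime_two).mp hdvd
  rcases hmb.eq_or_lt with rfl | hlt
  · exact hm.symm
  exfalso
  have hm3 : 3 ≤ m := by
    by_contra h
    have := Nat.pow_le_pow_right (n := 2) two_pos (show m ≤ 2 by omega)
    omega
  obtain ⟨j, rfl⟩ : ∃ j, m = j + 3 := ⟨m - 3, by omega⟩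
  have hp2 : p ≠ 2 := by omega
  obtain ⟨S, hSW, hS, hSd⟩ := D.two_block hna L hp2 hodd (by omega) (Or.inl rfl) two_pos hG
  -- the degrees of the members
  haveI : NeZero p := ⟨hp.ne_zero⟩
  have h2m : (2 : ZMod p) ^ (j + 3) = 1 := by
    have h := congrArg (Nat.cast : ℕ → ZMod p) hm
    push_cast at h
    rw [← h, ZMod.natCast_self, zero_add]
  have hmem : ∀ χ ∈ S, D.sign χ = -1 ∧ (deg χ = 2 * e ∨ 2 ^ (j + 4) ∣ deg χ) := by
    intro χ hχ
    have hmod := (ZMod.intCast_zmod_eq_zero_iff_dvd _ p).mpr (D.mod_W χ (hSW hχ))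
    push_cast at hmod
    have hpdvd : ¬ p ∣ deg χ := fun h => by
      rw [(ZMod.natCast_eq_zero_iff _ _).mpr h, zero_sub, neg_eq_zero] at hmod
      rcases D.sign_W χ (hSW hχ) with h' | h' <;> simp [h'] at hmod
    obtain ⟨y, s, hy, hs, hd⟩ := Nat.dvd_mul.mp (hpd χ hpdvd)
    obtain ⟨k, -, rfl⟩ := (Nat.dvd_prime_pow Nat.prime_two).mp hy
    have hsle : s ≤ e := Nat.le_of_dvd (by omega) hs
    have hsodd : ¬ 2 ∣ s := fun h => hodd (h.trans hs)
    obtain ⟨i, k₀, hk, hk₀⟩ : ∃ i k₀, k = i * (j + 3) + k₀ ∧ k₀ < j + 3 :=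
      ⟨k / (j + 3), k % (j + 3), (Nat.div_add_mod' k (j + 3)).symm, Nat.mod_lt _ (by omega)⟩
    have hs' : (s : ZMod p) = (D.sign χ : ZMod p) * (2 : ZMod p) ^ (j + 3 - k₀) := by
      rw [← hd, hk] at hmod
      push_cast at hmod
      rw [pow_add, mul_comm i, pow_mul, h2m, one_pow, one_mul, sub_eq_zero] at hmod
      rw [← hmod, mul_comm ((2 : ZMod p) ^ k₀), mul_assoc, ← pow_add, Nat.add_sub_cancel' hk₀.le, h2m, mul_one]
    rcases Nat.eq_zero_or_pos k₀ with hk0 | hk0
    · rw [hk0, Nat.sub_zero, h2m, mul_one] at hs'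
      rcases D.sign_W χ (hSW hχ) with h' | h' <;> rw [h'] at hs' <;> push_cast at hs'
      · exfalso
        have : s = 1 := by
          have := congrArg ZMod.val hs'
          rwa [ZMod.val_natCast, Nat.mod_eq_of_lt (by omega), ZMod.val_one'' (by omega)] at this
        exact hSd χ hχ k (by rw [← hd, this, mul_one])
      · exfalso
        have h1 : ((s + 1 : ℕ) : ZMod p) = 0 := by push_cast; rw [hs', neg_add_cancel]
        have := Nat.le_of_dvd (Nat.succ_pos _) ((ZMod.natCast_eq_zero_iff _ _).mp h1)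
        omega
    · have hpow : 2 ^ (j + 3 - k₀) * 2 ≤ 2 ^ (j + 3) := by
        rw [← pow_succ]; exact Nat.pow_le_pow_right two_pos (by omega)
      rcases D.sign_W χ (hSW hχ) with h' | h' <;> rw [h'] at hs' <;> push_cast at hs'
      · exfalso
        rw [one_mul] at hs'
        have h1 := congrArg ZMod.val (show (s : ZMod p) = ((2 ^ (j + 3 - k₀) : ℕ) : ZMod p) by push_cast; exact hs')
        rw [ZMod.val_natCast, ZMod.val_natCast, Nat.mod_eq_of_lt (by omega), Nat.mod_eq_of_lt (by omega)] at h1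
        exact hsodd (h1 ▸ dvd_pow_self 2 (by omega))
      · refine ⟨h', ?_⟩
        have h1 : ((s + 2 ^ (j + 3 - k₀) : ℕ) : ZMod p) = 0 := by push_cast; rw [hs']; ring
        obtain ⟨c, hc⟩ := (ZMod.natCast_eq_zero_iff _ _).mp h1
        have hs0 : 0 < s := Nat.pos_of_ne_zero fun h => hsodd (h ▸ dvd_zero 2)
        have hc1 : c = 1 := by
          have hclt : p * c < p * 2 := by omega
          have := Nat.lt_of_mul_lt_mul_left hclt
          rcases Nat.eq_zero_or_pos c with h0 | h0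
          · rw [h0, mul_zero] at hc; omega
          · omega
        rw [hc1, mul_one] at hc
        have hk1 : k₀ = 1 := by
          by_contra hne
          have h2 : 2 ^ (j + 3 - k₀) * 4 ≤ 2 ^ (j + 3) := by
            rw [show (4 : ℕ) = 2 ^ 2 by norm_num, ← pow_add]; exact Nat.pow_le_pow_right two_pos (by omega)
          omega
        have hse : s = e := by
          subst hk1
          rw [show j + 3 - 1 = j + 2 by omega] at hc
          rw [pow_succ] at hm
          omega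
        rcases Nat.eq_zero_or_pos i with hi | hi
        · left; rw [← hd, hse, hk, hi, hk1, zero_mul, zero_add, pow_one]
        · right
          rw [← hd, hk, hk1]
          refine Dvd.dvd.mul_right (pow_dvd_pow 2 ?_) s
          have := Nat.le_mul_of_pos_left (j + 3) hi
          omega
  -- the congruence modulo `2 ^ (j + 4)`
  set S₀ := S.filter (fun χ => deg χ = 2 * e) with hS₀
  have hcong : ((2 ^ (j + 4) : ℕ) : ℤ) ∣
      ∑ χ ∈ S, D.sign χ * (deg χ : ℤ) + 2 * (e : ℤ) * (S₀.card : ℤ) := by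
    rw [← Finset.sum_filter_add_sum_filter_not S (fun χ => deg χ = 2 * e),
      Finset.sum_congr rfl fun χ hχ => show D.sign χ * (deg χ : ℤ) = -(2 * (e : ℤ)) by
        obtain ⟨h1, h2⟩ := Finset.mem_filter.mp hχ
        rw [(hmem χ h1).1, h2]; push_cast; ring,
      Finset.sum_const, ← hS₀, nsmul_eq_mul,
      show (S₀.card : ℤ) * -(2 * (e : ℤ)) + ∑ χ ∈ S.filter (fun χ => ¬ deg χ = 2 * e), D.sign χ * (deg χ : ℤ) +
        2 * (e : ℤ) * (S₀.card : ℤ) = ∑ χ ∈ S.filter (fun χ => ¬ deg χ = 2 * e), D.sign χ * (deg χ : ℤ) by ring]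
    refine Finset.dvd_sum fun χ hχ => ?_
    obtain ⟨h1, h2⟩ := Finset.mem_filter.mp hχ
    exact (Int.natCast_dvd_natCast.mpr ((hmem χ h1).2.resolve_left h2)).mul_left _
  have hbig : ((2 ^ (j + 4) : ℕ) : ℤ) ∣ 1 - 1 * (e : ℤ) - 2 * (e : ℤ) * (S₀.card : ℤ) := by
    have h1 : ((2 ^ (j + 4) : ℕ) : ℤ) ∣ 1 - 1 * (e : ℤ) + ∑ χ ∈ S, D.sign χ * (deg χ : ℤ) :=
      (Int.natCast_dvd_natCast.mpr (pow_dvd_pow 2 (by omega))).trans hS
    obtain ⟨c₁, hc₁⟩ := h1
    obtain ⟨c₂, hc₂⟩ := hcong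
    exact ⟨c₁ - c₂, by linear_combination hc₁ - hc₂⟩
  have hcard : S₀.card + 1 ≤ e := by
    rw [← D.card_W]
    exact Nat.add_le_add_right (Finset.card_le_card ((Finset.filter_subset _ _).trans hSW)) 1
  obtain ⟨J, hJ, hJ0⟩ : ∃ J : ℤ, ((2 ^ j : ℕ) : ℤ) = J ∧ 0 < J := ⟨_, rfl, by positivity⟩
  have hez : (e : ℤ) = 4 * J - 1 := by
    have h1 : (p : ℤ) + 1 = ((2 ^ (j + 3) : ℕ) : ℤ) := by exact_mod_cast hm
    have h2 : ((2 ^ (j + 3) : ℕ) : ℤ) = 8 * J := by rw [← hJ]; push_cast; ring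
    have h3 : (p : ℤ) = 2 * e + 1 := by exact_mod_cast hpe
    linarith
  have hN : ((2 ^ (j + 4) : ℕ) : ℤ) = 16 * J := by rw [← hJ]; push_cast; ring
  obtain ⟨c, hc⟩ := hbig
  rw [hN, hez] at hc
  set β : ℤ := (S₀.card : ℤ) with hβ
  have hβle : β + 1 ≤ 4 * J - 1 := by rw [← hez, hβ]; exact_mod_cast hcard
  have hβ0 : 0 ≤ β := by positivity
  have e1 : β + 1 - 2 * J = 4 * J * (2 * c + β) := by linarith
  have hβeq : β + 1 = 2 * J := by
    have := Int.eq_zero_of_abs_lt_dvd (Dvd.intro _ e1.symm) (by rw [abs_lt]; constructor <;> linarith)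
    linarith
  have e2 : 8 * J * (1 - 2 * J - 2 * c) = 0 := by
    rw [show β = 2 * J - 1 by linarith] at hc
    linear_combination hc
  have := (mul_eq_zero.mp e2).resolve_left (by linarith)
  omega

end CfsgLib.SmallGroups.BrauerFew
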