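import Cfsg.Agent.Lib.SmallGroups.BrauerFew.TuanSetup
import Mathlib

/-!
Brauer and Tuan, `q = 2`: the principal `2`-block meets the principal `p`-block in a congruence
modulo the order of a Sylow `2`-subgroup.
-/

set_option autoImplicit false

namespace CfsgLib.SmallGroups.BrauerFew

open Subgroup CfsgLib.InvolChar CfsgLib.Blocks Cfsg
open scoped ComplexConjugate

variable {G : Type*} [Group G] [Fintype G] {p e t f b : ℕ} [Fact p.Prime] {ε : ℤ} {x : G}

/-- The congruence from the principal `2`-block. -/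
theorem TData.two_block [IsSimpleGroup G] (hna : ¬ IsMulCommutative G) (D : TData G p 2 e t f ε x)
    (L : Loc G p x) (hp2 : p ≠ 2) (hf : ¬ 2 ∣ f) (hb : 0 < b) (hε : ε = 1 ∨ ε = -1) (ht : 0 < t)
    (hG : Nat.card G = p * (2 ^ b * f)) :
    ∃ S : Finset (IrrCharacter G), S ⊆ D.W ∧
      ((2 ^ b : ℕ) : ℤ) ∣ 1 - ε * (f : ℤ) + ∑ χ ∈ S, D.sign χ * (deg χ : ℤ) ∧
      ∀ χ ∈ S, ∀ k : ℕ, deg χ ≠ 2 ^ k := by
  classical
  have hp : p.Prime := Fact.out
  haveI : Fact (Nat.Prime 2) := ⟨Nat.prime_two⟩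
  obtain ⟨M, hM⟩ := CfsgLib.Invol.exists_isPModular 2 Nat.prime_two
  haveI := hM.2.1
  obtain ⟨T₂⟩ : Nonempty (Sylow 2 G) := inferInstance
  have hpf : ¬ 2 ∣ p * f := fun h => (Nat.prime_two.dvd_mul.mp h).elim
    (fun h => hp2 ((Nat.prime_dvd_prime_iff_eq Nat.prime_two hp).mp h).symm) hf
  have hT : Nat.card (T₂ : Subgroup G) = 2 ^ b := by
    rw [T₂.card_eq_multiplicity, hG, show p * (2 ^ b * f) = 2 ^ b * (p * f) by ring,
      Nat.factorization_mul (pow_ne_zero _ two_ne_zero) (fun h => hpf (by rw [h]; exact dvd_zero 2)),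
      Finsupp.coe_add, Pi.add_apply, Nat.prime_two.factorization_pow, Finsupp.single_eq_same,
      Nat.factorization_eq_zero_of_not_dvd hpf, add_zero]
  set B := principalBlock M G with hBdef
  have hBblock : IsPBlock M B := isPBlock_principalBlock
  have hxne : x ≠ 1 := L.ne_one
  have hx2 : ¬ 2 ∣ orderOf x := by
    rw [L.order]
    exact fun h => hp2 ((Nat.prime_dvd_prime_iff_eq Nat.prime_two hp).mp h).symm
  obtain ⟨θ₀, hθ₀⟩ := Finset.card_pos.mp (by rw [D.card_T]; exact ht : 0 < D.T.card)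
  have hagree : θ₀ ∈ B → ∀ θ ∈ D.T, θ ∈ B := fun h θ hθ => by
    rw [isPBlock_eq_blockOf hBblock h]
    exact sameBlock_of_agree hM L (f := f) (c := 2 ^ (b - 1))
      (by rw [hG, ← pow_succ', Nat.sub_add_cancel hb, mul_comm (2 ^ b) f]) (D.deg_T θ₀ hθ₀) (D.deg_T θ hθ)
      (D.eq_T θ₀ hθ₀ θ hθ)
  have hagree' : θ₀ ∉ B → ∀ θ ∈ D.T, θ ∉ B := fun h θ hθ hθB => h (by
    rw [isPBlock_eq_blockOf hBblock hθB]
    exact sameBlock_of_agree hM L (f := f) (c := 2 ^ (b - 1))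
      (by rw [hG, ← pow_succ', Nat.sub_add_cancel hb, mul_comm (2 ^ b) f]) (D.deg_T θ hθ) (D.deg_T θ₀ hθ₀)
      (D.eq_T θ hθ θ₀ hθ₀))
  set S := D.W.filter (· ∈ B) with hS
  let one : IrrCharacter G := CfsgLib.Char.irrOne
  have hsplit : ∑ χ : IrrCharacter G, (if χ ∈ B then (deg χ : ℂ) * conj ((χ : G → ℂ) x) else 0) =
      1 + ((∑ χ ∈ S, D.sign χ * (deg χ : ℤ) : ℤ) : ℂ) +
        (if θ₀ ∈ B then ((-(ε * (f : ℤ)) : ℤ) : ℂ) else 0) := by
    rw [← Finset.sum_subset (Finset.subset_univ (insert one (D.W ∪ D.T))) fun χ _ hχ => by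
        rw [Finset.mem_insert, Finset.mem_union] at hχ
        push Not at hχ
        rw [D.outside χ hχ.1 hχ.2.1 hχ.2.2 x (mem_zpowers x) hxne, map_zero, mul_zero, ite_self],
      Finset.sum_insert (by rw [Finset.mem_union]; exact fun h => h.elim D.one_W D.one_T),
      Finset.sum_union D.disj, add_assoc]
    congr 1
    · rw [if_pos irrOne_mem_principalBlock, deg_irrOne, CfsgLib.Char.irrOne_apply]; simp
    congr 1
    · rw [hS, Finset.sum_filter, Int.cast_sum]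
      refine Finset.sum_congr rfl fun χ hχ => ?_
      rw [D.val_W χ hχ x (mem_zpowers x) hxne]
      split_ifs
      · push_cast; rw [map_intCast]; ring
      · simp
    · by_cases h : θ₀ ∈ B
      · rw [if_pos h, Finset.sum_congr rfl fun θ hθ => by rw [if_pos (hagree h θ hθ), D.deg_T θ hθ],
          ← Finset.mul_sum, ← map_sum, D.sum_T x (mem_zpowers x) hxne]
        push_cast; rw [map_neg, map_intCast]; ring
      · rw [if_neg h]
        exact Finset.sum_eq_zero fun θ hθ => if_neg (hagree' h θ hθ)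
  have hSeven : (2 : ℤ) ∣ ∑ χ ∈ S, D.sign χ * (deg χ : ℤ) := Finset.dvd_sum fun χ hχ =>
    (Int.natCast_dvd_natCast.mpr (D.dvd_W χ (Finset.mem_filter.mp hχ).1)).mul_left _
  have hin : θ₀ ∈ B := by
    by_contra h
    rw [if_neg h, add_zero] at hsplit
    have hd := dvd_block_sum hM hBblock hx2 (T₂ : Subgroup G) T₂.2
      (N := 1 + ∑ χ ∈ S, D.sign χ * (deg χ : ℤ)) (by rw [hsplit]; push_cast; ring)
    rw [hT] at hd
    have h2 : (2 : ℤ) ∣ 1 + ∑ χ ∈ S, D.sign χ * (deg χ : ℤ) :=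
      (Int.natCast_dvd_natCast.mpr (dvd_pow_self 2 hb.ne')).trans hd
    have := (dvd_add_left hSeven).mp h2
    omega
  rw [if_pos hin] at hsplit
  have hd := dvd_block_sum hM hBblock hx2 (T₂ : Subgroup G) T₂.2
    (N := 1 - ε * (f : ℤ) + ∑ χ ∈ S, D.sign χ * (deg χ : ℤ)) (by rw [hsplit]; push_cast; ring)
  rw [hT] at hd
  refine ⟨S, Finset.filter_subset _ _, hd, fun χ hχ k hk => ?_⟩
  obtain ⟨hχW, hχB⟩ := Finset.mem_filter.mp hχ
  haveI : Nontrivial (T₂ : Subgroup G) := Finite.one_lt_card_iff_nontrivial.mp (by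
    rw [hT]; exact Nat.one_lt_two_pow hb.ne')
  haveI := T₂.2.center_nontrivial
  obtain ⟨⟨z, hz⟩, hz1⟩ := exists_ne (1 : center (T₂ : Subgroup G))
  have hzne : (z : G) ≠ 1 := fun h => hz1 (Subtype.ext (Subtype.ext h))
  have hle : (T₂ : Subgroup G) ≤ centralizer ({(z : G)} : Set G) := fun w hw =>
    mem_centralizer_singleton_iff.mpr (congrArg Subtype.val (Subgroup.mem_center_iff.mp hz ⟨w, hw⟩))
  have hodd : ¬ 2 ∣ (centralizer ({(z : G)} : Set G)).index := fun h =>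
    T₂.not_dvd_index (h.trans (Subgroup.index_dvd_of_le hle))
  refine ne_zero_of_mem_principal hM hχB hodd (eq_zero_of_coprime hna (fun h => D.one_W (h ▸ hχW)) hzne ?_)
  rw [hk]
  exact Nat.Coprime.pow_left k (Nat.prime_two.coprime_iff_not_dvd.mpr hodd)

end CfsgLib.SmallGroups.BrauerFew
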