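import Cfsg.Agent.Lib.SmallGroups.BrauerFew.Involution
import Mathlib

/-!
The class number forces `q = 2` for `t ≥ 3`; then `p - 1` is a power of `2` and `G` has the element
centralisers of `PSL(2, p - 1)`.
-/

set_option autoImplicit false

namespace CfsgLib.SmallGroups.BrauerFew

open Subgroup CfsgLib.InvolChar
open scoped ComplexConjugate

variable {G : Type*} [Group G] [Fintype G] {p : ℕ} [Fact p.Prime] {x : G}

theorem Inverting.class_number (L : Loc G p x) {q t n f : ℕ} {D : BData G p q t n f 1 x}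
    (I : Inverting G p q t n f x D) :
    Nat.card (ConjClasses G) + 1 ≤ q + 2 * t := by
  classical
  have hp : p.Prime := Fact.out
  have hk : Nat.card (Cfsg.IrrCharacter G) = q + t + D.O.card := by
    have h := D.split (fun _ => (1 : ℂ))
    simp only [Finset.sum_const, nsmul_one, Finset.card_univ, D.card_T] at h
    have hab : (D.A.card : ℂ) + D.B.card + 1 = q := by exact_mod_cast D.card_AB
    have h' : ((Fintype.card (Cfsg.IrrCharacter G) : ℕ) : ℂ) = ((q + t + D.O.card : ℕ) : ℂ) := by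
      rw [h]; push_cast; linear_combination hab
    rw [Nat.card_eq_fintype_card]
    exact_mod_cast h'
  have hO : D.O.card ≤ n := by
    refine Nat.le_of_mul_le_mul_left ?_ (pow_pos hp.pos 2)
    rw [← I.sum_O, mul_comm, ← smul_eq_mul, ← Finset.sum_const]
    exact Finset.sum_le_sum fun χ hχ => Nat.pow_le_pow_left (Nat.le_of_dvd (deg_pos χ) (D.deg_O χ hχ)) 2
  rw [← CfsgLib.Char.card_irr_eq_card_conjClasses, hk]
  have := I.n_eq
  omega

theorem Inverting.q_eq_two (L : Loc G p x) {q t n f : ℕ} {D : BData G p q t n f 1 x}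
    (I : Inverting G p q t n f x D) (hpq : p = q * t + 1) (ht : 3 ≤ t) (hcard : Nat.card G = p * (q * (n * p + 1))) :
    q = 2 := by
  have h := card_le_sq_centralizer_mul I.sq
  rw [I.cent_s, hcard] at h
  have hk := I.class_number L
  have hn : n * p + 1 = t * (q * n + 1) := by
    have := I.n_eq
    rw [hpq, mul_add, mul_one, show n * (q * t) = t * (q * n) by ring, mul_add, mul_one]; omega
  have hq := I.q_eq
  set k := Nat.card (ConjClasses G)
  rw [hn] at h
  have hq0 : 0 < q := by omega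
  have h2 : p * (q * n + 1) ≤ q * t * k := by
    refine Nat.le_of_mul_le_mul_left ?_ (show 0 < q * t from Nat.mul_pos hq0 (by omega))
    calc q * t * (p * (q * n + 1)) = p * (q * (t * (q * n + 1))) := by ring
      _ ≤ (q * t) ^ 2 * k := h
      _ = _ := by ring
  have h3 : q * n + 1 < k := by
    by_contra hcon
    push Not at hcon
    have : q * t * k ≤ q * t * (q * n + 1) := Nat.mul_le_mul_left _ hcon
    have : q * t * (q * n + 1) < p * (q * n + 1) :=
      Nat.mul_lt_mul_of_pos_right (by omega) (Nat.succ_pos _)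
    omega
  by_contra hq2
  have ha : 1 ≤ D.A.card := by
    rcases Nat.eq_zero_or_pos D.A.card with h0 | h0
    · rw [h0, zero_mul] at hq; omega
    · exact h0
  have h4 : 1 * t ≤ D.A.card * t := Nat.mul_le_mul_right t ha
  obtain ⟨m, rfl⟩ : ∃ m, n = m + 1 := ⟨n - 1, by have := I.n_eq; omega⟩
  have := I.n_eq
  have : (t + 2) * m ≤ q * m := Nat.mul_le_mul_right m (by omega)
  have : (t + 2) * m = t * m + 2 * m := by ring
  have : q * (m + 1) = q * m + q := by ring
  have : 1 * t ≤ m * t := Nat.mul_le_mul_right t (by omega)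
  have : m * t = t * m := mul_comm _ _
  omega

set_option maxHeartbeats 800000 in
/-- For `q = 2` the centraliser of a regular element outside the class of `s` has order at least `p - 2`. -/
theorem Inverting.centralizer_ge (L : Loc G p x) {t n f : ℕ} {D : BData G p 2 t n f 1 x}
    (I : Inverting G p 2 t n f x D) (hn : 0 < n) (hpq : p = 2 * t + 1) (hf : t * f = n * p + 1)
    (hcard : Nat.card G = p * (2 * (n * p + 1))) {u : G} (hu1 : u ≠ 1) (hup : ¬ p ∣ orderOf u)
    (hus : ¬ IsConj I.s u) : p - 2 ≤ Nat.card (centralizer ({u} : Set G)) := by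
  classical
  have hp : p.Prime := Fact.out
  have hn1 := I.n_eq
  have hA : D.A.card = 0 := by
    rcases Nat.eq_zero_or_pos D.A.card with h | h
    · exact h
    · have := Nat.le_mul_of_pos_left t h
      have := I.q_eq; omega
  have hA' : D.A = ∅ := Finset.card_eq_zero.mp hA
  have hB1 : D.B.card = 1 := by rw [I.card_B, hA, zero_mul, zero_add]
  obtain ⟨φ, hφ⟩ := Finset.card_eq_one.mp hB1
  obtain ⟨θ₀, hθ₀⟩ := Finset.card_pos.mp (lt_of_lt_of_eq (by omega : 0 < t) D.card_T.symm)
  set W : ℂ := (θ₀ : G → ℂ) u with hWdef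
  set Φ : ℂ := (φ : G → ℂ) u with hΦdef
  set S : ℂ := ∑ χ ∈ D.O, (deg χ : ℂ) * (χ : G → ℂ) u with hSdef
  have hWT : ∀ θ ∈ D.T, (θ : G → ℂ) u = W := fun θ hθ => D.eq_T θ hθ θ₀ hθ₀ u hup
  have hsp : ¬ p ∣ orderOf I.s := by
    rw [I.order_s, Nat.prime_dvd_prime_iff_eq hp Nat.prime_two]; omega
  have hWs : ∀ θ ∈ D.T, (θ : G → ℂ) I.s = -1 := fun θ hθ => by
    have h := I.sum_T0 θ hθ
    rw [hA', Finset.sum_empty, add_zero] at h
    rw [intVal_spec θ I.sq, show intVal θ I.sq = -1 by omega, Int.cast_neg, Int.cast_one]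
  have hxu : ¬ IsConj u x := fun h => hup (by rw [CfsgLib.Invol.orderOf_eq_of_isConj h, L.order])
  have e1 : 1 - Φ + W = 0 := by
    have h := CfsgLib.Char.second_orthogonality u x
    rw [if_neg hxu, D.split, hA', hφ, Finset.sum_empty, Finset.sum_singleton,
      D.val_B φ (hφ ▸ Finset.mem_singleton_self φ) x (mem_zpowers x) L.ne_one,
      Finset.sum_congr (s₁ := D.T) rfl fun χ hχ => by rw [hWT χ hχ],
      Finset.sum_congr (s₁ := D.O) rfl fun χ hχ => by
        rw [D.val_O χ hχ x (mem_zpowers x) L.ne_one, map_zero, mul_zero],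
      Finset.sum_const_zero, ← Finset.mul_sum, ← map_sum, D.sum_T x (mem_zpowers x) L.ne_one,
      CfsgLib.Char.irrOne_apply, CfsgLib.Char.irrOne_apply] at h
    simp only [map_one, map_neg, Int.cast_one, mul_one, mul_neg_one] at h
    linear_combination h
  have e2 : 1 + ((p : ℂ) - 1) * Φ + (t : ℂ) * f * W + S = 0 := by
    have h := CfsgLib.Char.sum_degree_mul_apply u
    rw [if_neg hu1, D.split, hA', hφ, Finset.sum_empty, Finset.sum_singleton, deg_spec φ,
      D.deg_B φ (hφ ▸ Finset.mem_singleton_self φ), Nat.cast_sub hp.one_le,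
      Finset.sum_congr (s₁ := D.T) rfl fun χ hχ => by rw [deg_spec χ, D.deg_T χ hχ, hWT χ hχ],
      Finset.sum_congr (s₁ := D.O) rfl fun χ _ => by rw [deg_spec χ],
      Finset.sum_const, D.card_T, nsmul_eq_mul, CfsgLib.Char.irrOne_apply, CfsgLib.Char.irrOne_apply] at h
    push_cast at h
    linear_combination h
  have e3 : (p : ℂ) - p * t * W + S = 0 := by
    have h := CfsgLib.Char.second_orthogonality u I.s
    rw [if_neg (fun h => hus h.symm), D.split, hA', hφ, Finset.sum_empty, Finset.sum_singleton,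
      intVal_spec φ I.sq, I.val_B0 φ (hφ ▸ Finset.mem_singleton_self φ),
      Finset.sum_congr (s₁ := D.T) rfl fun χ hχ => by rw [hWT χ hχ, hWs χ hχ],
      Finset.sum_const, D.card_T, nsmul_eq_mul, CfsgLib.Char.irrOne_apply, CfsgLib.Char.irrOne_apply] at h
    simp only [map_one, map_neg, Int.cast_zero, map_zero, mul_zero, mul_one] at h
    have hS : S = (p : ℂ) * ∑ χ ∈ D.O, (χ : G → ℂ) u * conj ((χ : G → ℂ) I.s) := by
      rw [hSdef, Finset.mul_sum]
      refine Finset.sum_congr rfl fun χ hχ => ?_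
      have hd : (deg χ : ℂ) = (p : ℂ) * (intVal χ I.sq : ℂ) := by exact_mod_cast congrArg (Int.cast : ℤ → ℂ) (I.deg_s χ hχ)
      rw [intVal_spec χ I.sq, map_intCast, hd]; ring
    linear_combination (p : ℂ) * h + hS
  have hfc : (t : ℂ) * f = n * p + 1 := by exact_mod_cast hf
  have hnc : (n : ℂ) + 1 = t := by exact_mod_cast hn1
  have hpc : (p : ℂ) = 2 * t + 1 := by exact_mod_cast hpq
  have hp0 : (p : ℂ) ≠ 0 := by exact_mod_cast hp.ne_zero
  have hW0 : W = 0 := by
    have h : (2 * (t : ℂ) * p) * W = 0 := by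
      linear_combination e2 - e3 + ((p : ℂ) - 1) * e1 - W * hfc - (p : ℂ) * W * hnc
    have hne : (2 * (t : ℂ) * p) ≠ 0 := by
      have : (t : ℂ) ≠ 0 := by exact_mod_cast (by omega : t ≠ 0)
      simp [hp0, this]
    exact (mul_eq_zero.mp h).resolve_left hne
  have hS : S = -(p : ℂ) := by rw [hW0] at e3; linear_combination e3
  -- the pairs with product `u`
  have hpairs := CfsgLib.Char.card_classProduct_eq I.s I.s u
  rw [D.split, hA', hφ, Finset.sum_empty, Finset.sum_singleton,
    intVal_spec φ I.sq, I.val_B0 φ (hφ ▸ Finset.mem_singleton_self φ),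
    Finset.sum_congr (s₁ := D.T) rfl fun χ hχ => by rw [hWT χ hχ, hW0, map_zero, mul_zero, zero_div],
    Finset.sum_congr (s₁ := D.O) rfl fun χ hχ => show _ = conj ((deg χ : ℂ) * (χ : G → ℂ) u) / (p : ℂ) ^ 2 by
      have hd : (deg χ : ℂ) = (p : ℂ) * (intVal χ I.sq : ℂ) := by exact_mod_cast congrArg (Int.cast : ℤ → ℂ) (I.deg_s χ hχ)
      have hd0 : (deg χ : ℂ) ≠ 0 := by exact_mod_cast (deg_pos χ).ne'
      rw [intVal_spec χ I.sq, deg_spec χ, map_mul, map_natCast, hd]
      have hv0 : (intVal χ I.sq : ℂ) ≠ 0 := fun h => hd0 (by rw [hd, h, mul_zero])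
      field_simp,
    ← Finset.sum_div, ← map_sum, ← hSdef, hS, map_neg, map_natCast, CfsgLib.Char.irrOne_apply,
    CfsgLib.Char.irrOne_apply, CfsgLib.Char.irrOne_apply] at hpairs
  simp only [map_one, mul_one, div_one, Int.cast_zero, zero_mul, zero_div, Finset.sum_const_zero, add_zero] at hpairs
  have hcI : (Nat.card {y : G // IsConj I.s y} : ℂ) * (Nat.card (centralizer ({I.s} : Set G)) : ℂ) = (Nat.card G : ℂ) := by
    exact_mod_cast CfsgLib.Invol.card_conjugates_mul I.s
  set N := Nat.card {z : G × G // IsConj I.s z.1 ∧ IsConj I.s z.2 ∧ z.1 * z.2 = u} with hNdef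
  have hN : (N : ℂ) * (2 * (t : ℂ)) ^ 2 = (p : ℂ) * (2 * ((n : ℂ) * p + 1)) * (1 - 1 / (p : ℂ)) := by
    have hG : (Nat.card G : ℂ) = (p : ℂ) * (2 * ((n : ℂ) * p + 1)) := by exact_mod_cast hcard
    have hc : (Nat.card (centralizer ({I.s} : Set G)) : ℂ) = 2 * t := by exact_mod_cast I.cent_s
    have hnp : ((n : ℂ) * p + 1) ≠ 0 := by exact_mod_cast Nat.succ_ne_zero (n * p)
    rw [hpairs]
    rw [hc] at hcI
    rw [← hG, ← hcI]
    have hI0 : (Nat.card {y : G // IsConj I.s y} : ℂ) ≠ 0 := by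
      intro h; rw [h, zero_mul, hG] at hcI; exact mul_ne_zero hp0 (mul_ne_zero two_ne_zero hnp) hcI.symm
    have ht0 : (t : ℂ) ≠ 0 := by exact_mod_cast (by omega : t ≠ 0)
    field_simp
    ring
  have hN' : (N : ℂ) = (p : ℂ) - 2 := by
    have h4 : (4 * (t : ℂ) ^ 2) ≠ 0 := by
      have : (t : ℂ) ≠ 0 := by exact_mod_cast (by omega : t ≠ 0)
      simp [this]
    apply mul_left_cancel₀ h4
    field_simp at hN
    linear_combination 2 * hN + 2 * ((n : ℂ) * p + 1) * hpc + 4 * (t : ℂ) * p * hnc - 4 * (t : ℂ) * hpc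
  have hN2 : N + 2 = p := by
    have : ((N + 2 : ℕ) : ℂ) = (p : ℂ) := by push_cast; rw [hN']; ring
    exact_mod_cast this
  have := card_pairs_le I.sq u
  rw [← hNdef] at this
  omega

end CfsgLib.SmallGroups.BrauerFew
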